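import Cfsg.Agent.Lib.OMax.Refl
import Cfsg.Agent.Lib.Orth.Plane
import Cfsg.Agent.Lib.PSL2.Dickson

/-!
# Angles in reflection groups without Eichler transformations (via Dickson's theorem)
-/

set_option autoImplicit false

namespace Cfsg.Lib.OMax

open QuadraticMap Module Cfsg.Lib.Orth Matrix Cfsg.Lib.PSL2
open scoped MatrixGroups

variable {F V : Type*} [Field F] [AddCommGroup V] [Module F V] {Q : QuadraticForm F V}
  {K : Subgroup (O Q)}

theorem exists_eq_eich [FiniteDimensional F V] (hQ : ND Q) {g : O Q} {s : V} (h0 : s ≠ 0)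
    (hs : Q s = 0) (h1 : g.1 s = s) (h2 : ∀ y, polar Q s y = 0 → ∃ c : F, g.1 y = y + c • s) :
    ∃ z, polar Q s z = 0 ∧ g = eich Q s z := by
  obtain ⟨f, h⟩ := exists_isHyp hQ hs h0
  obtain ⟨a, b, w, hw, h3⟩ := h.exists_decomp (g.1 f)
  have h4 : b = 1 := by rw [← h.polar_left_comb hw a b, ← h3, ← h.polar_eq, ← O.map_polar g s f, h1]
  have h5 : a = -Q w := by
    have := h.Q_comb' hw a b
    rw [← h3, O.map_Q, h.right, h4] at this
    linear_combination -this
  obtain ⟨h6, h7⟩ := mem_hperp.1 hw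
  have h8 : polar Q s (-w) = 0 := by simp [h6]
  refine ⟨-w, h8, h.ext (by rw [h1, eich_apply_self hs h8]) ?_ fun y hy => ?_⟩
  · rw [eich_apply hs h8, h3, h4, h5, h.polar_eq, polar_neg_left, polar_comm Q w, h7, Q.map_neg]
    module
  · obtain ⟨c, hc⟩ := h2 y (mem_hperp.1 hy).1
    have h9 := O.map_polar g f y
    rw [hc, h3, h4] at h9
    simp only [polar_add_left, polar_add_right, polar_smul_left', polar_smul_right', mem_hperp.1 hy,
      h.polar_left, h.polar_eq', polar_comm Q w s, h6] at h9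
    rw [eich_apply_of_perp hs h8 (mem_hperp.1 hy).1, hc, polar_neg_left]
    congr 2
    linear_combination h9

/-- A frame of a non-degenerate three-space. -/
structure Tri (Q : QuadraticForm F V) (U : Submodule F V) (e f z : V) : Prop where
  hyp : IsHyp Q e f
  perp : z ∈ hperp Q e f
  ne : Q z ≠ 0
  eq : U = Submodule.span F {e, f, z}

theorem exists_tri [FiniteDimensional F V] {U : Submodule F V} (h3 : finrank F U ≤ 3) {e : V}
    (h : Good Q U e) : ∃ f z, Tri Q U e f z := by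
  obtain ⟨h1, f, h2, z, h4, h5, h6, h7⟩ := h
  refine ⟨f, z, h5, h6, h7, (Submodule.eq_of_le_of_finrank_le
    (Submodule.span_le.2 (by simp [Set.insert_subset_iff, h1, h2, h4])) (h3.trans ?_)).symm⟩
  exact RG.Good.three_le (Q := Q) (e := e) ⟨Submodule.subset_span (by simp), f,
    Submodule.subset_span (by simp), z, Submodule.subset_span (by simp), h5, h6, h7⟩

/-- The Clifford representation of a three-space. -/
noncomputable def iota (Q : QuadraticForm F V) (e f z : V) : V →ₗ[F] Matrix (Fin 2) (Fin 2) F where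
  toFun x := !![polar Q z x / 2, polar Q f x; Q z * polar Q e x, -(polar Q z x / 2)]
  map_add' x y := by ext i j; fin_cases i <;> fin_cases j <;> simp [polar_add_right] <;> ring
  map_smul' c x := by ext i j; fin_cases i <;> fin_cases j <;> simp <;> ring

namespace Tri

variable {U : Submodule F V} {e f z : V} (T : Tri Q U e f z)
include T

theorem comb_mem (a b c : F) : a • e + b • f + c • z ∈ U := by
  rw [T.eq, Submodule.mem_span_triple]; exact ⟨a, b, c, rfl⟩

theorem exists_comb {x : V} (hx : x ∈ U) : ∃ a b c : F, a • e + b • f + c • z = x := by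
  rwa [T.eq, Submodule.mem_span_triple] at hx

theorem Q_comb (a b c : F) : Q (a • e + b • f + c • z) = a * b + c ^ 2 * Q z := by
  rw [T.hyp.Q_comb' (Submodule.smul_mem _ c T.perp), Q_smul]

theorem polar_comb (a b c a' b' c' : F) : polar Q (a • e + b • f + c • z)
    (a' • e + b' • f + c' • z) = a * b' + a' * b + 2 * c * c' * Q z := by
  have := T.Q_comb (a + a') (b + b') (c + c')
  rw [show (a + a') • e + (b + b') • f + (c + c') • z = (a • e + b • f + c • z) +
    (a' • e + b' • f + c' • z) by module, Q_add, T.Q_comb, T.Q_comb] at this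
  linear_combination this

theorem iota_comb (h2 : (2 : F) ≠ 0) (a b c : F) :
    iota Q e f z (a • e + b • f + c • z) = !![c * Q z, a; Q z * b, -(c * Q z)] := by
  have h1 := T.polar_comb 1 0 0 a b c
  have h3 := T.polar_comb 0 1 0 a b c
  have h4 := T.polar_comb 0 0 1 a b c
  simp only [one_smul, zero_smul, add_zero, zero_add] at h1 h3 h4
  have h5 : polar Q z (a • e + b • f + c • z) / 2 = c * Q z := by rw [h4]; field_simp; ring
  simp only [iota, LinearMap.coe_mk, AddHom.coe_mk, h1, h3, h5]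
  simp

variable (h2 : (2 : F) ≠ 0)
include h2

theorem anticomm {x y : V} (hx : x ∈ U) (hy : y ∈ U) : iota Q e f z x * iota Q e f z y +
    iota Q e f z y * iota Q e f z x = (Q z * polar Q x y) • 1 := by
  obtain ⟨a, b, c, rfl⟩ := T.exists_comb hx
  obtain ⟨a', b', c', rfl⟩ := T.exists_comb hy
  rw [T.iota_comb h2, T.iota_comb h2, T.polar_comb]
  ext i j; fin_cases i <;> fin_cases j <;> simp <;> ring

theorem mul_self {x : V} (hx : x ∈ U) : iota Q e f z x * iota Q e f z x = (Q z * Q x) • 1 := by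
  obtain ⟨a, b, c, rfl⟩ := T.exists_comb hx
  rw [T.iota_comb h2, T.Q_comb]
  ext i j; fin_cases i <;> fin_cases j <;> simp <;> ring

theorem det_iota {x : V} (hx : x ∈ U) : (iota Q e f z x).det = -(Q z * Q x) := by
  obtain ⟨a, b, c, rfl⟩ := T.exists_comb hx
  rw [T.iota_comb h2, T.Q_comb, det_fin_two_of]; ring

theorem trace_mul {x y : V} (hx : x ∈ U) (hy : y ∈ U) :
    (iota Q e f z x * iota Q e f z y).trace = Q z * polar Q x y := by
  obtain ⟨a, b, c, rfl⟩ := T.exists_comb hx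
  obtain ⟨a', b', c', rfl⟩ := T.exists_comb hy
  rw [T.iota_comb h2, T.iota_comb h2, T.polar_comb]
  simp [trace_fin_two]; ring

theorem inj {x y : V} (hx : x ∈ U) (hy : y ∈ U) (h : iota Q e f z x = iota Q e f z y) : x = y := by
  obtain ⟨a, b, c, rfl⟩ := T.exists_comb hx
  obtain ⟨a', b', c', rfl⟩ := T.exists_comb hy
  rw [T.iota_comb h2, T.iota_comb h2] at h
  have h1 := congrFun (congrFun h 0) 0
  have h3 := congrFun (congrFun h 0) 1
  have h4 := congrFun (congrFun h 1) 0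
  simp [T.ne] at h1 h3 h4
  rw [h1, h3, h4]

omit T h2 in
variable (K U e f z) in
/-- Matrices inducing elements of `K` up to sign. -/
def lift : Subgroup (GL (Fin 2) F) where
  carrier := {M | ∃ g ∈ K, ∃ ε : F, ε * ε = 1 ∧ (∀ x, g.1 x - x ∈ U) ∧
    ∀ x ∈ U, M.1 * iota Q e f z x = ε • iota Q e f z (g.1 x) * M.1}
  one_mem' := ⟨1, one_mem _, 1, by simp, fun x => by simp [O.one_apply], fun x _ => by
    simp [O.one_apply]⟩
  mul_mem' := by
    rintro M M' ⟨g, hg, ε, h1, h2, h3⟩ ⟨g', hg', ε', h1', h2', h3'⟩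
    refine ⟨g * g', mul_mem hg hg', ε * ε', by linear_combination ε' * ε' * h1 + h1',
      fun x => by simpa using add_mem (h2 (g'.1 x)) (h2' x), fun x hx => ?_⟩
    rw [Units.val_mul, mul_assoc, h3' x hx, ← mul_assoc, mul_smul_comm,
      h3 _ (by simpa using add_mem (h2' x) hx), O.mul_apply]
    simp [smul_smul, mul_comm ε, mul_assoc]
  inv_mem' := by
    rintro M ⟨g, hg, ε, h1, h2, h3⟩
    have h4 : ∀ x, (g⁻¹).1 x - x ∈ U := fun x => by simpa using neg_mem (h2 ((g⁻¹).1 x))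
    refine ⟨g⁻¹, inv_mem hg, ε, h1, h4, fun x hx => ?_⟩
    have := congrArg (fun A => ε • (M⁻¹).1 * A * (M⁻¹).1)
      (h3 ((g⁻¹).1 x) (by simpa using add_mem (h4 x) hx))
    simp only [O.apply_inv_apply, smul_mul_assoc, mul_smul_comm, smul_smul, h1, one_smul,
      ← mul_assoc, Units.inv_mul, one_mul, Units.mul_inv_cancel_right] at this
    rw [← this, smul_mul_assoc]

theorem exists_lift {x : V} (hx : x ∈ U) (h0 : Q x ≠ 0) (h : refl Q x ∈ K) :
    ∃ M ∈ lift K U e f z, M.1 = iota Q e f z x := by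
  refine ⟨GeneralLinearGroup.mkOfDetNeZero _ (by rw [T.det_iota h2 hx]; simp [T.ne, h0]),
    ⟨_, h, -1, by simp, fun y => ?_, fun y hy => ?_⟩, rfl⟩
  · rw [refl_apply, sub_sub_cancel_left]; exact neg_mem (U.smul_mem _ hx)
  · change iota Q e f z x * _ = _ * iota Q e f z x
    rw [refl_apply, map_sub, map_smul, eq_sub_of_add_eq (T.anticomm h2 hx hy), smul_mul_assoc,
      sub_mul, smul_mul_assoc, T.mul_self h2 hx, smul_smul]
    match_scalars <;> field_simp

/-- The lifts of three spanning reflections do not map a point to the same point. -/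
theorem not_smul_eq {L : Type*} [Field L] (φ : F →+* L) {a b : P1 L} {s : Set V}
    (hs : U ≤ Submodule.span F s) (h : ∀ x ∈ s, ∃ M : GL (Fin 2) F, M.1 = iota Q e f z x ∧
      pglMap φ (ProjGenLinGroup.mk M) • a = b) : False := by
  have key : ∀ p : Matrix (Fin 2) (Fin 2) F → L, p 0 = 0 → (∀ A B, p (A + B) = p A + p B) →
      (∀ (c : F) A, p (c • A) = φ c * p A) → (∀ M : GL (Fin 2) F,
        pglMap φ (ProjGenLinGroup.mk M) • a = b → p M.1 = 0) →
      ∀ r s t : F, p !![t * Q z, r; Q z * s, -(t * Q z)] = 0 := fun p p0 p1 p2 p3 r s t => by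
    rw [← T.iota_comb h2]
    refine Submodule.span_induction (p := fun x _ => p (iota Q e f z x) = 0) (fun x hx => ?_)
      (by simpa) (fun x y _ _ hx hy => by rw [map_add, p1, hx, hy, add_zero])
      (fun c x _ hx => by rw [map_smul, p2, hx, mul_zero]) (hs (T.comb_mem r s t))
    obtain ⟨M, h1, h3⟩ := h x hx
    exact h1 ▸ p3 M h3
  have hm : ∀ M : GL (Fin 2) F, pglMap φ (ProjGenLinGroup.mk M) • a =
      GeneralLinearGroup.map φ M • a := fun M => rfl
  have hz := T.ne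
  rcases eq_inf_or_eq_pt a with rfl | ⟨x, rfl⟩ <;> rcases eq_inf_or_eq_pt b with rfl | ⟨y, rfl⟩
  · simpa [hz] using key (fun A => φ (A 1 0)) (by simp) (by simp) (by simp) (fun M hM => by
      exact (gl_smul_inf_eq_inf _).1 ((hm M).symm.trans hM)) 0 1 0
  · simpa [hz] using key (fun A => φ (A 0 0) - y * φ (A 1 0)) (by simp) (fun A B => by simp; ring)
      (fun c A => by simp; ring) (fun M hM => by
      exact sub_eq_zero.2 ((gl_smul_inf_eq_pt _ _).1 ((hm M).symm.trans hM))) 0 0 1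
  · simpa [hz] using key (fun A => φ (A 1 0) * x + φ (A 1 1)) (by simp) (fun A B => by simp; ring)
      (fun c A => by simp; ring) (fun M hM => by
      exact (gl_smul_pt_eq_inf _ _).1 ((hm M).symm.trans hM)) 0 0 1
  · simpa using key (fun A => φ (A 0 0) * x + φ (A 0 1) - y * (φ (A 1 0) * x + φ (A 1 1)))
      (by simp) (fun A B => by simp; ring) (fun c A => by simp; ring) (fun M hM => by
      exact sub_eq_zero.2 ((gl_smul_pt_eq_pt _ _ _).1 ((hm M).symm.trans hM))) 1 0 0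

theorem exists_eich [FiniteDimensional F V] (hQ : ND Q) (hU : ND (Q.restrict U))
    {M : GL (Fin 2) F} (hM : M ∈ lift K U e f z) (h1 : (ProjGenLinGroup.mk M : PGL(2, F)) ≠ 1)
    (h4 : tau (ProjGenLinGroup.mk M : PGL(2, F)) = 4) :
    ∃ s, s ≠ 0 ∧ Q s = 0 ∧ ∃ w ∈ AE K s, w ∉ F ∙ s := by
  obtain ⟨g₀, hg₀, ε, e1, e2, e3⟩ := hM
  have hz := T.ne
  have hd := gl_det_ne M
  rw [tau_mk, div_eq_iff hd] at h4
  obtain ⟨s, hs⟩ : ∃ s, s = (2 * M 0 1) • e + (2 * M 1 0 / Q z) • f +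
    ((M 0 0 - M 1 1) / Q z) • z := ⟨_, rfl⟩
  have hsU : s ∈ U := hs ▸ T.comb_mem _ _ _
  have hs0 : Q s = 0 := by rw [hs, T.Q_comb]; field_simp; linear_combination h4
  have hN := T.mul_self h2 hsU
  rw [hs0, mul_zero, zero_smul] at hN
  have ht : M 0 0 + M 1 1 ≠ 0 := fun h => hd (mul_left_cancel₀ (mul_ne_zero h2 h2)
    (by rw [h] at h4; linear_combination -h4))
  have h5 : (2 : F) • M.1 = (M 0 0 + M 1 1) • 1 + iota Q e f z s := by
    rw [hs, T.iota_comb h2]
    ext i j; fin_cases i <;> fin_cases j <;> simp <;> field_simp <;> ring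
  have hs1 : s ≠ 0 := fun h => h1 ((pgl_mk_eq_one_iff M).2 (by
    have a1 := congrFun (congrFun h5 0) 1
    have a2 := congrFun (congrFun h5 1) 0
    have a3 := congrFun (congrFun h5 0) 0
    simp [h, h2] at a1 a2 a3
    exact ⟨a1, a2, by linear_combination a3⟩))
  generalize M 0 0 + M 1 1 = t at ht h5
  have hU' : ∀ x ∈ U, g₀.1 x ∈ U := fun x hx => by simpa using add_mem (e2 x) hx
  have h6 : ∀ x ∈ U, (t • 1 + iota Q e f z s) * iota Q e f z x =
      ε • iota Q e f z (g₀.1 x) * (t • 1 + iota Q e f z s) := fun x hx => by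
    rw [← h5, smul_mul_assoc, e3 x hx, mul_smul_comm]
  have h7 : (t • 1 + iota Q e f z s) * (t • 1 - iota Q e f z s) = (t * t) • 1 := by
    simp [add_mul, mul_sub, hN, smul_smul]
  have h8 : g₀.1 s = ε • s := T.inj h2 (hU' s hsU) (U.smul_mem _ hsU) (by
    have := congrArg (fun A => ε • A * (t • 1 - iota Q e f z s)) (h6 s hsU)
    simp only [smul_mul_assoc, mul_assoc, h7, smul_smul, e1, one_smul] at this
    simp only [add_mul, mul_sub, hN, mul_smul_comm, smul_mul_assoc, mul_one, one_mul, smul_zero,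
      sub_zero, mul_add, add_zero, smul_smul] at this
    rw [map_smul, ← (smul_right_injective _ (mul_ne_zero ht ht)).eq_iff, ← this, smul_smul,
      mul_comm])
  obtain ⟨f', z', T'⟩ := exists_tri (T.eq ▸ Unitary.finrank_span_triple_le e f z)
    (good_of_nd hU (RG.Good.three_le ⟨by simpa using T.comb_mem 1 0 0, f,
      by simpa using T.comb_mem 0 1 0, z, by simpa using T.comb_mem 0 0 1, T.hyp, T.perp, hz⟩)
      hsU hs0 hs1)
  have hz' : z' ∈ U := by simpa using T'.comb_mem 0 0 1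
  have hε : ε ≠ 0 := left_ne_zero_of_mul_eq_one e1
  obtain ⟨a, b, c, h9⟩ := T'.exists_comb (hU' z' hz')
  have h10 := T'.polar_comb 1 0 0 a b c
  have h11 := O.map_polar g₀ s z'
  simp only [one_smul, zero_smul, add_zero, h9, one_mul, mul_zero, zero_mul] at h10
  rw [h8, polar_smul_left', h10, (mem_hperp.1 T'.perp).1, mul_eq_zero, or_iff_right hε] at h11
  have h12 := T'.Q_comb a b c
  rw [h9, O.map_Q, h11, mul_zero, zero_add] at h12
  rw [h11, zero_smul, add_zero] at h9
  have h13 : (g₀ * g₀).1 s = s := by rw [O.mul_apply, h8, map_smul, h8, smul_smul, e1, one_smul]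
  obtain ⟨w, h14, h15⟩ := exists_eq_eich hQ hs1 hs0 h13 fun y hy => by
    obtain ⟨x, hx, y, hy', rfl⟩ := (isOSum_perp hU).exists_add y
    have a1 : g₀.1 y = y := hQ.ext fun v => by
      have := mem_perp'.1 hy' _ (show (g₀⁻¹).1 v - v ∈ U by simpa using neg_mem (e2 ((g₀⁻¹).1 v)))
      rwa [polar_sub_right, sub_eq_zero, ← O.polar_left] at this
    obtain ⟨a', b', c', rfl⟩ := T'.exists_comb hx
    have a2 := T'.polar_comb 1 0 0 a' b' c'
    simp only [one_smul, zero_smul, add_zero, one_mul, mul_zero, zero_mul] at a2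
    rw [polar_add_right, mem_perp.1 hy' s hsU, a2, add_zero] at hy
    refine ⟨c' * a * (ε + c), ?_⟩
    have a3 : c * c = 1 := mul_right_cancel₀ T'.ne (by linear_combination -h12)
    have a4 : (g₀ * g₀).1 z' = z' + (a * (ε + c)) • s := by
      rw [O.mul_apply, ← h9, map_add, map_smul, map_smul, h8, ← h9]
      match_scalars
      · ring
      · linear_combination a3
    rw [hy, zero_smul, add_zero, map_add, map_add, map_smul, map_smul, h13, a4, O.mul_apply, a1, a1]
    module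
  refine ⟨s, hs1, hs0, w, ⟨h14, h15 ▸ mul_mem hg₀ hg₀⟩, fun h => ?_⟩
  obtain ⟨d, rfl⟩ := Submodule.mem_span_singleton.1 h
  have hf' : f' ∈ U := by simpa using T'.comb_mem 0 1 0
  have h16 : g₀.1 (g₀.1 f') = f' := by rw [← O.mul_apply, h15, eich_self_smul hs0, O.one_apply]
  have h17 := congrArg (fun A => (t • 1 + iota Q e f z s) * A) (h6 f' hf')
  have h18 := T.anticomm h2 hsU hf'
  simp only [smul_mul_assoc, mul_smul_comm, ← mul_assoc _ (iota Q e f z (g₀.1 f')),
    h6 _ (hU' f' hf'), h16, smul_smul, e1, one_smul] at h17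
  rw [T'.hyp.polar_eq, mul_one] at h18
  simp only [add_mul, mul_add, smul_mul_assoc, mul_smul_comm, one_mul, mul_one, ← mul_assoc, hN,
    zero_mul, add_zero, mul_assoc _ (iota Q e f z s) (iota Q e f z s), mul_zero] at h17
  have h19 : iota Q e f z s * iota Q e f z f' = iota Q e f z f' * iota Q e f z s :=
    smul_right_injective _ (mul_ne_zero h2 ht) (by linear_combination (norm := module) h17)
  have h20 := congrArg (fun A => iota Q e f z s * A) h18
  simp only [← h19, mul_add, ← mul_assoc, hN, zero_mul, add_zero, mul_smul_comm, mul_one] at h20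
  exact hs1 (T.inj h2 hsU U.zero_mem (by simpa [hz] using h20.symm))

end Tri

/-- The possible values of `4 cos² θ`. -/
def Ang (τ : F) : Prop := τ ≠ 4 ∧ (τ = 0 ∨ τ = 1 ∨ τ = 2 ∨ τ ^ 2 - 3 * τ + 1 = 0)

theorem pow_cases {H : Type*} [Group H] (h : Nonempty (H ≃* alternatingGroup (Fin 4)) ∨
    Nonempty (H ≃* Equiv.Perm (Fin 4)) ∨ Nonempty (H ≃* alternatingGroup (Fin 5))) (g : H) :
    g ^ 3 = 1 ∨ g ^ 4 = 1 ∨ g ^ 5 = 1 := by
  have key : ∀ (X : Type) [Group X], (∀ x : X, x ^ 3 = 1 ∨ x ^ 4 = 1 ∨ x ^ 5 = 1) → (H ≃* X) →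
      g ^ 3 = 1 ∨ g ^ 4 = 1 ∨ g ^ 5 = 1 := fun X _ h e => by
    simpa only [← map_pow, EmbeddingLike.map_eq_one_iff] using h (e g)
  rcases h with ⟨⟨e⟩⟩ | ⟨⟨e⟩⟩ | ⟨⟨e⟩⟩ <;> exact key _ (by decide +kernel) e

namespace RG

variable {δ : F} (R : RG K δ) [Finite F] [FiniteDimensional F V] (h3 : (3 : F) ≠ 0)
  (hc : ¬ commutator (O Q) ≤ K)
include R h3 hc

theorem polar_sq_ne {u v : V} (hu : Q u = δ) (hu' : refl Q u ∈ K) (hv : Q v = δ)
    (hv' : refl Q v ∈ K) (h1 : u ≠ v) (h2 : u ≠ -v) : polar Q u v ^ 2 ≠ 4 * δ ^ 2 := fun h => by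
  have key : ∀ v, Q v = δ → refl Q v ∈ K → u ≠ v → polar Q u v ≠ 2 * δ := fun v hv hv' h1 h => by
    have h4 : Q (u - v) = 0 := by rw [Q_sub, hu, hv, h]; ring
    refine hc (R.commutator_le_of_eich h3 (sub_ne_zero.2 h1) h4
      (mem_AE_of_sub hu' hv' (hu ▸ R.ne) (hu.trans hv.symm) h4) fun h5 => ?_)
    simpa [Q_smul, hu, R.ne] using ts_span_singleton h4 _ h5
  rcases sq_eq_sq_iff_eq_or_eq_neg.1 (h.trans (by ring : _ = (2 * δ) ^ 2)) with h | h
  · exact key v hv hv' h1 h
  · exact key (-v) (by rwa [Q.map_neg]) (by rwa [refl_neg]) h2 (by rw [polar_neg_right, h, neg_neg])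

theorem ang (hn : 3 ≤ finrank F V) {u v : V} (hu : Q u = δ) (hu' : refl Q u ∈ K) (hv : Q v = δ)
    (hv' : refl Q v ∈ K) (h1 : u ≠ v) (h2 : u ≠ -v) : Ang (polar Q u v ^ 2 / δ ^ 2) := by
  have hδ := R.ne
  have h4 := R.polar_sq_ne h3 hc hu hu' hv hv' h1 h2
  refine ⟨fun h => h4 (by rwa [div_eq_iff (pow_ne_zero 2 hδ)] at h), ?_⟩
  by_cases huv : polar Q u v = 0
  · simp [huv]
  have hu1 : u ∈ Submodule.span F {u, v} := Submodule.subset_span (by simp)
  have hv1 : v ∈ Submodule.span F {u, v} := Submodule.subset_span (by simp)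
  have h5 : ∀ a b : F, polar Q (a • u + b • v) u = 0 → polar Q (a • u + b • v) v = 0 →
      a = 0 ∧ b = 0 := fun a b a1 a2 => by
    simp only [polar_add_left, polar_smul_left', polar_self', hu, hv, polar_comm Q v u] at a1 a2
    exact ⟨mul_left_cancel₀ (sub_ne_zero.2 h4) (by linear_combination polar Q u v * a2 - 2 * δ * a1),
      mul_left_cancel₀ (sub_ne_zero.2 h4) (by linear_combination polar Q u v * a1 - 2 * δ * a2)⟩
  have hP : ND (Q.restrict (Submodule.span F {u, v})) := nd_restrict_iff.2 fun x hx h => by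
    obtain ⟨a, b, rfl⟩ := Submodule.mem_span_pair.1 hx
    simp [h5 a b (h u hu1) (h v hv1)]
  have hP2 : finrank F (Submodule.span F {u, v}) = 2 := by
    rw [Submodule.span_insert, sup_comm, finrank_sup_span_singleton' fun h => ?_,
      finrank_span_singleton (ne_zero_of_Q_ne_zero (hv ▸ hδ : Q v ≠ 0))]
    obtain ⟨c, rfl⟩ := Submodule.mem_span_singleton.1 h
    simpa using (h5 1 (-c) (by simp) (by simp)).1
  obtain ⟨w, hw, hw', h6, h7⟩ : ∃ w, Q w = δ ∧ refl Q w ∈ K ∧ w ∉ Submodule.span F {u, v} ∧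
      w ∉ perp Q (Submodule.span F {u, v}) := by
    by_contra! h
    rcases R.irr _ fun w a1 a2 => or_iff_not_imp_left.2 (h w a1 a2) with h | h <;>
      rw [h] at hP2 <;> simp at hP2
    omega
  have S := isOSum_perp hP
  obtain ⟨x, hx, y, hy, rfl⟩ := S.exists_add w
  have hy0 : y ≠ 0 := fun h => h6 (by simpa [h])
  by_cases hy1 : Q y = 0
  · have a1 : Q x = δ := by rw [← hw, S.Q_add hx hy, hy1, add_zero]
    have a2 : Q ((-δ⁻¹) • y) = 0 := by rw [Q_smul, hy1, mul_zero]
    have a3 : ∀ m ∈ Submodule.span F {u, v}, polar Q ((-δ⁻¹) • y) m = 0 := fun m hm => by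
      rw [polar_smul_left', polar_comm, S.orth m hm y hy, mul_zero]
    have a4 : refl Q (x + y) = refl Q x * eich Q ((-δ⁻¹) • y) x := by
      rw [eich_eq_refl_mul_refl a2 (a3 x hx) (a1 ▸ hδ), ← mul_assoc, refl_mul_self, one_mul, a1,
        smul_smul]
      simp [hδ]
    have a5 := congrArg S.symm.extR (plane_refl_conj hP hP2 (z := refl _ ⟨u, hu1⟩ * refl _ ⟨v, hv1⟩)
      (by rw [map_mul, dickson_refl hP (v := ⟨u, hu1⟩) (show Q u ≠ 0 from hu ▸ hδ),
        dickson_refl hP (v := ⟨v, hv1⟩) (show Q v ≠ 0 from hv ▸ hδ)]; simp) (v := ⟨x, hx⟩) (show Q x ≠ 0 from a1 ▸ hδ))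
    simp only [map_mul, map_inv, IsOSum.extR_refl] at a5
    have a6 : ∀ m ∈ Submodule.span F {u, v}, (refl Q m).1 ((-δ⁻¹) • y) = (-δ⁻¹) • y := fun m hm =>
      refl_apply_of_perp (by rw [polar_comm, a3 m hm])
    have a7 : ∀ m ∈ Submodule.span F {u, v}, (refl Q m).1 x ∈ Submodule.span F {u, v} :=
      fun m hm => apply_mem_of_mem_stab (refl_mem_stab_of_mem hm) hx
    have a8 : ((refl Q u * refl Q v)⁻¹).1 x ∈ Submodule.span F {u, v} := apply_mem_of_mem_stab
      (inv_mem (mul_mem (refl_mem_stab_of_mem hu1) (refl_mem_stab_of_mem hv1))) hx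
    have a9 : eich Q ((-δ⁻¹) • y) ((refl Q x).1 x + ((refl Q u * refl Q v)⁻¹).1 x) ∈ K := by
      rw [eich_add a2 (a3 _ (a7 x hx)) (a3 _ a8)]
      have b1 := conj_eich (refl Q x) ((-δ⁻¹) • y) x
      have b2 := conj_eich (refl Q u * refl Q v)⁻¹ ((-δ⁻¹) • y) x
      rw [a6 x hx] at b1
      rw [show ((refl Q u * refl Q v)⁻¹).1 ((-δ⁻¹) • y) = (-δ⁻¹) • y by
        rw [O.inv_apply_eq, O.mul_apply, a6 v hv1, a6 u hu1]] at b2
      rw [← b1, ← b2]
      convert mul_mem (mul_mem (mul_mem hw' (mul_mem hu' hv')) hw') (mul_mem hu' hv') using 1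
      rw [a4, inv_inv]
      nth_rewrite 1 [← a5]
      simp only [refl_inv, mul_assoc, ← mul_assoc (refl Q x) (refl Q x), refl_mul_self, one_mul]
    refine (hc (R.commutator_le_of_eich h3 (smul_ne_zero (by simp [hδ]) hy0) a2
      ⟨a3 _ (add_mem (a7 x hx) a8), a9⟩ fun h => h7 ?_)).elim
    have b1 := nd_restrict_iff.1 hP _ (add_mem (a7 x hx) a8) fun m hm => by
      obtain ⟨c, h⟩ := Submodule.mem_span_singleton.1 h
      rw [← h, polar_smul_left', a3 m hm, mul_zero]
    rw [refl_apply_self (a1 ▸ hδ), neg_add_eq_zero, eq_comm, O.inv_apply_eq, O.mul_apply,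
      ← O.inv_apply_eq, refl_inv, refl_apply, refl_apply, sub_right_inj, ← sub_eq_zero,
      sub_eq_add_neg, ← neg_smul] at b1
    have b2 := h5 _ _ (by rw [b1, polar_zero_left]) (by rw [b1, polar_zero_left])
    refine add_mem (mem_perp_pair.2 ?_) hy
    simpa [hu, hv, hδ] using b2
  have hy2 : F ∙ y ≤ perp Q (Submodule.span F {u, v}) := by simpa
  have hU := nd_sup hP (nd_span_singleton R.two hy1) hy2
  have hU3 : finrank F ↥(Submodule.span F {u, v} ⊔ F ∙ y) = 3 := by
    rw [finrank_sup_span_singleton' fun h => h6 (add_mem hx h), hP2]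
  obtain ⟨e, he⟩ := exists_good hU hU3.ge
  obtain ⟨f, z, T⟩ := exists_tri hU3.le he
  have hs : Submodule.span F {u, v} ⊔ F ∙ y ≤ Submodule.span F {u, v, x + y} := by
    have : Submodule.span F {u, v} ≤ Submodule.span F {u, v, x + y} :=
      Submodule.span_mono (by simp [Set.insert_subset_iff])
    refine sup_le this ((Submodule.span_singleton_le_iff_mem _ _).2 ?_)
    simpa using sub_mem (Submodule.subset_span (by simp) : x + y ∈ _) (this hx)
  have hwU : x + y ∈ Submodule.span F {u, v} ⊔ F ∙ y :=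
    add_mem (Submodule.mem_sup_left hx) (Submodule.mem_sup_right (Submodule.mem_span_singleton_self y))
  have huU : u ∈ Submodule.span F {u, v} ⊔ F ∙ y := Submodule.mem_sup_left hu1
  have hvU : v ∈ Submodule.span F {u, v} ⊔ F ∙ y := Submodule.mem_sup_left hv1
  have h8 := R.polar_sq_ne h3 hc hw hw' hu hu' (fun h => h6 (h ▸ hu1)) fun h => h6 (h ▸ neg_mem hu1)
  have h9 := R.polar_sq_ne h3 hc hw hw' hv hv' (fun h => h6 (h ▸ hv1)) fun h => h6 (h ▸ neg_mem hv1)
  rw [mem_perp_pair, polar_comm Q u, polar_comm Q v] at h7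
  generalize Submodule.span F {u, v} ⊔ F ∙ y = U at *
  generalize x + y = w at *
  obtain ⟨A, hA, hA'⟩ := T.exists_lift R.two huU (hu ▸ hδ) hu'
  obtain ⟨B, hB, hB'⟩ := T.exists_lift R.two hvU (hv ▸ hδ) hv'
  obtain ⟨C, hC, hC'⟩ := T.exists_lift R.two hwU (hw ▸ hδ) hw'
  have hz := T.ne
  have ht : ∀ a ∈ U, ∀ b ∈ U, Q a = δ → Q b = δ → ∀ X Y : GL (Fin 2) F, X.1 = iota Q e f z a →
      Y.1 = iota Q e f z b → tau (ProjGenLinGroup.mk X * ProjGenLinGroup.mk Y : PGL(2, F)) =
        polar Q a b ^ 2 / δ ^ 2 := fun a ha b hb a1 a2 X Y a3 a4 => by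
    rw [← map_mul, tau_mk', Units.val_mul, det_mul, a3, a4, T.trace_mul R.two ha hb,
      T.det_iota R.two ha, T.det_iota R.two hb, a1, a2]
    field_simp
  have hi : ∀ a ∈ U, ∀ X : GL (Fin 2) F, X.1 = iota Q e f z a →
      (ProjGenLinGroup.mk X * ProjGenLinGroup.mk X : PGL(2, F)) = 1 := fun a ha X a1 => by
    rw [← map_mul, pgl_mk_eq_one_iff]
    simp [Units.val_mul, a1, T.mul_self R.two ha]
  have h10 : ∀ g : PGL(2, F), tau g ≠ 4 → g ≠ 1 := fun g h h' => h (h' ▸ tau_one)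
  obtain ⟨p, hp⟩ := CharP.exists F
  have : Fact p.Prime := ⟨CharP.char_is_prime F p⟩
  have hm : ∀ X ∈ Tri.lift K U e f z, (ProjGenLinGroup.mk X : PGL(2, F)) ∈
    (Tri.lift K U e f z).map ProjGenLinGroup.mk := fun X hX => Subgroup.mem_map_of_mem _ hX
  rcases dickson_pgl (AlgebraicClosure F) p ((Tri.lift K U e f z).map ProjGenLinGroup.mk) with
    ⟨a, h⟩ | ⟨a, b, m, hab, h⟩ | ⟨-, h⟩ | ⟨rfl, -⟩ | ⟨a, h, -⟩
  · have : ∀ X ∈ Tri.lift K U e f z, pglMap (algebraMap F (AlgebraicClosure F))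
        (ProjGenLinGroup.mk X) • emb _ a = emb _ a := fun X hX =>
      (pglMap_smul_emb_eq_iff _ _ _ _).2 (h (hm X hX))
    refine (T.not_smul_eq R.two (algebraMap F (AlgebraicClosure F))
      (a := emb (algebraMap F _) a) (b := emb (algebraMap F _) a) hs ?_).elim
    simp only [Set.mem_insert_iff, Set.mem_singleton_iff, forall_eq_or_imp, forall_eq]
    exact ⟨⟨A, hA', this A hA⟩, ⟨B, hB', this B hB⟩, C, hC', this C hC⟩
  · have key : ∀ s ∈ U, ∀ t ∈ U, Q s = δ → Q t = δ → polar Q s t ≠ 0 →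
        polar Q s t ^ 2 ≠ 4 * δ ^ 2 → ∀ X ∈ Tri.lift K U e f z, ∀ Y ∈ Tri.lift K U e f z,
        X.1 = iota Q e f z s → Y.1 = iota Q e f z t →
        toK (AlgebraicClosure F) (ProjGenLinGroup.mk X) • a = b :=
      fun s hs t ht' a1 a2 a3 a4 X hX Y hY a5 a6 => by
      refine ((mem_pairStab.1 (mem_dih.1 (h (hm X hX)))).resolve_left fun a7 => ?_).1
      have a8 : Commute (ProjGenLinGroup.mk Y : PGL(2, F)) (ProjGenLinGroup.mk X) := by
        refine toK_injective (K := AlgebraicClosure F) ?_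
        rw [map_mul, map_mul]
        rcases mem_pairStab.1 (mem_dih.1 (h (hm Y hY))) with a8 | a8
        · exact commute_of_fix_two hab.1 a8.1 a8.2 a7.1 a7.2
        · rw [← mul_inv_eq_iff_eq_mul, conj_eq_inv_of_swap hab.1 a8.1 a8.2 a7.1 a7.2, ← map_inv,
            inv_eq_of_mul_eq_one_left (hi s hs X a5)]
      have a9 := ht s hs t ht' a1 a2 X Y a5 a6
      have a10 := (mul_self_eq_one_iff_tau (h10 _ (by
        rwa [a9, Ne, div_eq_iff (pow_ne_zero 2 hδ)]))).1 (by
        rw [mul_assoc, ← mul_assoc (ProjGenLinGroup.mk Y), a8.eq, mul_assoc, hi t ht' Y a6, mul_one,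
          hi s hs X a5])
      simp [a9, a3, hδ] at a10
    refine (T.not_smul_eq R.two (algebraMap F (AlgebraicClosure F)) (a := a) (b := b) hs ?_).elim
    simp only [Set.mem_insert_iff, Set.mem_singleton_iff, forall_eq_or_imp, forall_eq]
    refine ⟨⟨A, hA', key u huU v hvU hu hv huv h4 A hA B hB hA' hB'⟩, ⟨B, hB', key v hvU u huU hv hu
      (polar_comm Q u v ▸ huv) (polar_comm Q u v ▸ h4) B hB A hA hB' hA'⟩, C, hC', ?_⟩
    by_cases a1 : polar Q w u = 0
    · exact key w hwU v hvU hw hv (fun h => h7 ⟨a1, h⟩) h9 C hC B hB hC' hB'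
    · exact key w hwU u huU hw hu a1 h8 C hC A hA hC' hA'
  · have a1 := ht u huU v hvU hu hv A B hA' hB'
    have a2 := h10 _ (by rwa [a1, Ne, div_eq_iff (pow_ne_zero 2 hδ)])
    have a3 := pow_cases h ⟨_, mul_mem (hm A hA) (hm B hB)⟩
    simp only [Subtype.ext_iff, SubmonoidClass.coe_pow, OneMemClass.coe_one,
      pow_three_eq_one_iff_tau a2, pow_four_eq_one_iff_tau a2, pow_five_eq_one_iff_tau a2, a1] at a3
    rcases a3 with a3 | (a3 | a3) | a3
    exacts [.inr (.inl a3), .inl a3, .inr (.inr (.inl a3)), .inr (.inr (.inr a3))]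
  · exact (h3 (CharP.cast_eq_zero F 3)).elim
  · obtain ⟨⟨_, ⟨X, hX, rfl⟩, a1⟩, a2⟩ := Subgroup.ne_bot_iff_exists_ne_one.1 h
    obtain ⟨s, s1, s2, t, t1, t2⟩ := T.exists_eich R.two R.nd hU hX (fun h => a2 (Subtype.ext h))
      (tau_of_mem_unip a1)
    exact (hc (R.commutator_le_of_eich h3 s1 s2 t1 t2)).elim

end RG

end Cfsg.Lib.OMax
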