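import Cfsg.Agent.Lib.OMax.Four
import Cfsg.Agent.Lib.OMax.ReflDick
import Cfsg.Agent.Lib.Orth.Cover

/-!
# Stabilisers of non-degenerate planes in dimensions five and six
-/

set_option autoImplicit false

namespace Cfsg.Lib.OMax

open QuadraticMap Module Cfsg.Lib.Orth
open Cfsg.Lib.Unitary (exists_notMem_of_lt finrank_span_singleton_le)

variable {F V : Type*} [Field F] [AddCommGroup V] [Module F V] {Q : QuadraticForm F V}
  {K : Subgroup (O Q)} [Finite F] [FiniteDimensional F V]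

theorem maxFull_of_two (hQ : ND Q) (h5 : 5 ≤ finrank F V) {U : Submodule F V}
    (hU : ND (Q.restrict U)) (h2 : finrank F (perp Q U) ≤ 2)
    (hex : ¬ (Nat.card F ≤ 3 ∧ finrank F (perp Q U) = 2 ∧ ∃ e ∈ perp Q U, e ≠ 0 ∧ Q e = 0))
    (hH : stab Q U ⊓ commutator (O Q) ≤ K) (hK' : ¬ commutator (O Q) ≤ K) : MaxFull K U := by
  have hn := finrank_add_finrank_perp hQ U
  have hE := not_exc_of_five_le (Q := Q) h5
  have A : Full K U := fun u hu z hz =>
    hH ⟨eich_mem_stab_of_mem hu hz, eich_mem_commutator hQ hE _ _⟩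
  obtain ⟨e, he⟩ := exists_good hU (by omega)
  obtain ⟨M, hM, hmax⟩ := A.exists_maxFull he
  have hW := nd_restrict_perp hQ hU
  rcases small_irred (S := M) (S' := perp Q M) hW h2 hex fun b hb hb0 => by
    obtain ⟨b', hb', h1⟩ := exists_Q_eq_mem hU (by omega) (Q b)
    have h2 := mul_mem (refl_mem_stab_of_perp hb) (refl_mem_stab_of_mem (Q := Q) hb')
    have h3 := hmax.mem_stab he hM (hH ⟨h2, refl_mul_refl_mem_commutator hQ hb0 h1.symm⟩) h2
    exact mem_or_mem_perp hb0 ((mul_mem_cancel_right (refl_mem_stab_of_mem (hM hb'))).1 h3)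
    with h | h
  · refine absurd ((hmax.full.mono ?_).commutator_le hQ (by omega)) hK'
    rw [← (isCompl_perp hU).sup_eq_top]
    exact sup_le hM h
  · rw [le_perp_comm, perp_perp hQ] at h
    rwa [le_antisymm hM h]

theorem not_forall_zero_one (h : 3 ≤ Nat.card F) : ¬ ∀ t : F, t = 0 ∨ t = 1 := fun ht => by
  classical
  have := Fintype.ofFinite F
  have h1 : (Finset.univ : Finset F) ⊆ {0, 1} := fun t _ => by simpa using ht t
  have h2 := (Finset.card_le_card h1).trans Finset.card_le_two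
  rw [Finset.card_univ, ← Nat.card_eq_fintype_card] at h2
  omega

/-- The stabiliser of a non-degenerate plane in dimension six. -/
theorem max_two_four (hQ : ND Q) {U : Submodule F V} (hU : ND (Q.restrict U))
    (h4 : 4 ≤ finrank F U) (h2 : finrank F (perp Q U) ≤ 2) (h5 : 5 ≤ finrank F V)
    (hF : 3 ≤ Nat.card F)
    (hex : ¬ (Nat.card F ≤ 3 ∧ finrank F (perp Q U) = 2 ∧ ∃ e ∈ perp Q U, e ≠ 0 ∧ Q e = 0))
    (hH : stab Q U ⊓ commutator (O Q) ≤ K) (hK : K ≤ commutator (O Q)) :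
    K ≤ stab Q U ∨ commutator (O Q) ≤ K := by
  refine or_iff_not_imp_right.2 fun hK' g hg => ?_
  by_contra hgU
  have hc := isCompl_perp hU
  have M1 := maxFull_of_two hQ h5 hU h2 hex hH hK'
  set Y := U.map (g.1 : V →ₗ[F] V) with hYdef
  have hY : Full K Y := M1.full.map hg
  have hY' : ND (Q.restrict Y) := nd_map hU g
  have hY4 : 4 ≤ finrank F Y := by rwa [hYdef, LinearEquiv.finrank_map_eq]
  have n1 : ∀ y ∈ Y, y ∈ U → Q y = 0 → y = 0 := by
    rintro _ ⟨e, he, rfl⟩ h1 h2
    by_contra h0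
    exact hgU (M1.mem_stab_of_apply_mem hQ h5 hU (by omega) hH hK hg he
      (by simpa using h2) (by simpa using h0) h1)
  have n3 : ∀ y ∈ Y, Q y = 0 → y ∈ perp Q U := by
    intro y hy h0
    obtain ⟨u, hu, w, hw, rfl⟩ := Submodule.mem_sup.1 (hc.sup_eq_top ▸ Submodule.mem_top :
      y ∈ U ⊔ perp Q U)
    by_cases hu0 : u = 0
    · simpa [hu0]
    exfalso
    have h1 : u + w ≠ 0 := fun h => hu0 (hc.disjoint.le_bot ⟨hu, by
      rw [eq_neg_of_add_eq_zero_left h]; exact neg_mem hw⟩)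
    have d1 := finrank_le_inf_perp hQ U (F ∙ (u + w))
    have d2 := finrank_span_singleton_le (F := F) (u + w)
    obtain ⟨e, he, he0, he1⟩ := exists_singular_mem Q (U ⊓ perp Q (F ∙ (u + w))) (by omega)
    have d3 := finrank_le_inf_perp hQ Y (Submodule.span F {u + w, e})
    have d4 := finrank_span_pair_le (F := F) (u + w) e
    obtain ⟨y, hy1, hy2⟩ := exists_notMem_of_lt (W := Y ⊓ perp Q (Submodule.span F {u + w, e}))
      (Z := F ∙ (u + w)) (by omega)
    have hy3 := mem_perp_pair.1 hy1.2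
    exact not_forall_zero_one hF (mixed_eich hQ hU hu hw hu0 (by
      rintro rfl; exact h1 (n1 _ hy (by simpa) h0)) h0 hy3.1 hy2 fun t =>
      M1.mem_stab_of_apply_mem hQ h5 hU (by omega) hH hK
        (hY _ hy _ (Y.smul_mem t hy1.1)) he.1 he1 he0 (by
          rw [eich_apply_of_perp' (mem_perp_singleton.1 he.2)
            (by simp [polar_comm Q y e, hy3.2])]
          exact he.1)).2
  have := Submodule.finrank_mono (le_of_singular_mem hY' (by omega) n3)
  omega

section Three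

variable (hQ : ND Q) (h5 : finrank F V = 5) {U : Submodule F V} (hU : ND (Q.restrict U))
  (h3 : finrank F U = 3) (hF : 5 ≤ Nat.card F) (hH : stab Q U ⊓ commutator (O Q) ≤ K)
  (hK : K ≤ commutator (O Q)) (M : MaxFull K U)
include hQ h5 hU h3 hF hH hK M

theorem MaxFull.polar_ne_aux {g : O Q} (hg : g ∈ K) (hgU : g ∉ stab Q U) {e e' z : V} (he : e ∈ U)
    (he0 : e ≠ 0) (he1 : Q e = 0) (he' : e' ∈ U) (he0' : e' ≠ 0) (he1' : Q e' = 0) (hz : z ∈ U)
    (hz0 : Q z ≠ 0) (hz1 : polar Q e' z = 0) : polar Q (g.1 e') e = 0 → polar Q (g.1 z) e ≠ 0 := by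
  intro h1 h2
  have hn := finrank_add_finrank_perp hQ U
  have hc := isCompl_perp hU
  have hs : ∀ t : F, eich Q (g.1 e') (t • g.1 z) ∈ stab Q U := fun t =>
    M.mem_stab_of_apply_mem hQ h5.ge hU h3.ge hH hK
      (M.full.map hg _ ⟨e', he', rfl⟩ _ (Submodule.smul_mem _ t ⟨z, hz, rfl⟩)) he he1 he0 (by
        rw [eich_apply_of_perp' h1 (by simp [h2])]; exact he)
  have hy0 : Q (g.1 e') = 0 := by rw [O.map_Q, he1']
  have hy1 : g.1 e' ≠ 0 := O.apply_ne_zero g he0'
  have hy2 : polar Q (g.1 e') (g.1 z) = 0 := by rw [O.map_polar, hz1]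
  have hy3 : Q (g.1 z) ≠ 0 := by rwa [O.map_Q]
  have hy4 : g.1 e' ∉ U := fun h =>
    hgU (M.mem_stab_of_apply_mem hQ h5.ge hU h3.ge hH hK hg he' he1' he0' h)
  generalize g.1 e' = y at *
  generalize g.1 z = x at *
  have hx : x ∉ F ∙ y := fun h => by
    obtain ⟨c, rfl⟩ := Submodule.mem_span_singleton.1 h
    simp [Q_smul, hy0] at hy3
  obtain ⟨u, hu, w, hw, rfl⟩ := Submodule.mem_sup.1 (hc.sup_eq_top ▸ Submodule.mem_top :
    y ∈ U ⊔ perp Q U)
  by_cases hu0 : u = 0
  swap
  · exact not_forall_zero_one (by omega) (mixed_eich hQ hU hu hw hu0 (by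
      rintro rfl; exact hy4 (by simpa)) hy0 hy2 hx hs).2
  subst hu0
  rw [zero_add] at *
  have hW := nd_restrict_perp hQ hU
  obtain ⟨⟨f, hf⟩, hh⟩ := exists_isHyp hW (e := ⟨w, hw⟩) hy0 (by simpa)
  have h4 : polar Q w f = 1 := hh.polar_eq
  have h6 := apply_mem_of_mem_stab (stab_le_stab_perp U (hs 1)) hf
  rw [one_smul, eich_apply hy0 hy2, h4, one_smul] at h6
  have h7 : x ∈ perp Q U := by
    have := sub_mem (sub_mem (add_mem hf (Submodule.smul_mem _ (polar Q x f) hw))
      (Submodule.smul_mem _ (Q x * 1) hw)) h6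
    convert this using 1; abel
  have h8 := le_span_of_finrank_two (W := perp Q U) (by omega) hw h7 hy1 hx hf
  obtain ⟨s, t, rfl⟩ := Submodule.mem_span_pair.1 h8
  simp [polar_add_right, polar_self', hy0, hy2] at h4

theorem MaxFull.polar_ne {g : O Q} (hg : g ∈ K) (hgU : g ∉ stab Q U) {e e' : V} (he : e ∈ U)
    (he0 : e ≠ 0) (he1 : Q e = 0) (he' : e' ∈ U) (he0' : e' ≠ 0) (he1' : Q e' = 0) :
    polar Q (g.1 e') e ≠ 0 := fun h1 => by
  have hc := isCompl_perp hU
  obtain ⟨f, z, T⟩ := exists_tri h3.le (good_of_nd hU h3.ge he he1 he0)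
  obtain ⟨f', z', T'⟩ := exists_tri h3.le (good_of_nd hU h3.ge he' he1' he0')
  have hz : z ∈ U := by simpa using T.comb_mem 0 0 1
  have hz' : z' ∈ U := by simpa using T'.comb_mem 0 0 1
  have hez := (mem_hperp.1 T.perp).1
  have hez' := (mem_hperp.1 T'.perp).1
  have a1 := M.polar_ne_aux hQ h5 hU h3 hF hH hK hg hgU he he0 he1 he' he0' he1' hz' T'.ne hez' h1
  have a2 := M.polar_ne_aux hQ h5 hU h3 hF hH hK (inv_mem hg) (fun h => hgU (by simpa using h))
    he' he0' he1' he he0 he1 hz T.ne hez (by rwa [← O.polar_right, polar_comm])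
  rw [← O.polar_right] at a2
  have hy0 : Q (g.1 e') = 0 := by rw [O.map_Q, he1']
  have hy2 : polar Q (g.1 e') (g.1 z') = 0 := by rw [O.map_polar, hez']
  have hs : ∀ t : F, eich Q (g.1 e') (t • g.1 z') ∈ K := fun t =>
    M.full.map hg _ ⟨e', he', rfl⟩ _ (Submodule.smul_mem _ t ⟨z', hz', rfl⟩)
  generalize g.1 e' = y at *
  generalize g.1 z' = x at *
  have b1 : ∀ (t : F) (a b : F), (eich Q y (t • x)).1 (a • e + b • y) =
      a • e + (b + t * a * polar Q x e) • y := fun t a b => by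
    rw [eich_apply_of_perp hy0 (by simp [hy2]) (by simp [polar_add_right, h1, polar_self', hy0])]
    simp only [polar_add_right, polar_smul_left', polar_smul_right', polar_comm Q x y, hy2]
    module
  have b2 : ∀ (t : F) (a b : F), (eich Q e (t • z)).1 (a • e + b • y) =
      (a + t * b * polar Q z y) • e + b • y := fun t a b => by
    rw [eich_apply_of_perp he1 (by simp [hez])
      (by simp [polar_add_right, polar_comm Q e y, h1, polar_self', he1])]
    simp only [polar_add_right, polar_smul_left', polar_smul_right', polar_comm Q z e, hez]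
    module
  obtain ⟨a, ha0, ha⟩ := Linear.exists_ne_zero_sq_ne_one (F := F) (by omega)
  set α := polar Q x e
  set β := polar Q z y
  set h := eich Q y ((-(a * α)⁻¹) • x) * eich Q e (((a - 1) / β) • z) * eich Q y (α⁻¹ • x) with hh
  have hK1 : h ∈ K := mul_mem (mul_mem (hs _) (M.full e he _ (U.smul_mem _ hz))) (hs _)
  have c1 : h.1 e = a • e := by
    have : e = (1 : F) • e + (0 : F) • y := by simp
    rw [hh, O.mul_apply, O.mul_apply]
    conv_lhs => arg 2; arg 2; arg 2; rw [this]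
    rw [b1, b2, b1]
    match_scalars <;> field_simp <;> ring
  have c2 : h.1 y = a⁻¹ • y + (a - 1) • e := by
    have : y = (0 : F) • e + (1 : F) • y := by simp
    rw [hh, O.mul_apply, O.mul_apply]
    conv_lhs => arg 2; arg 2; arg 2; rw [this]
    rw [b1, b2, b1]
    match_scalars <;> field_simp <;> ring
  have c3 := M.mem_stab_of_apply_mem hQ h5.ge hU h3.ge hH hK hK1 he he1 he0
    (c1 ▸ U.smul_mem a he)
  obtain ⟨u, hu, w, hw, rfl⟩ := Submodule.mem_sup.1 (hc.sup_eq_top ▸ Submodule.mem_top :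
    y ∈ U ⊔ perp Q U)
  have c4 : h.1 w = a⁻¹ • w := sub_eq_zero.1 (hc.disjoint.le_bot ⟨show _ ∈ U by
    have := sub_mem (add_mem (U.smul_mem a⁻¹ hu) (U.smul_mem (a - 1) he))
      (apply_mem_of_mem_stab c3 hu)
    convert this using 1
    rw [map_add] at c2
    linear_combination (norm := module) c2,
    sub_mem (apply_mem_of_mem_stab (stab_le_stab_perp U c3) hw) (Submodule.smul_mem _ _ hw)⟩)
  have c5 : Q w = 0 := by
    have := O.map_Q h w
    rw [c4, Q_smul] at this
    by_contra h0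
    exact ha (by field_simp at this; exact this.symm)
  have c6 : polar Q u w = 0 := mem_perp.1 hw u hu
  rw [Orth.Q_add, c5, c6, add_zero, add_zero] at hy0
  obtain ⟨r, s, t, rfl⟩ := T.exists_comb hu
  rw [polar_add_left, mem_perp'.1 hw e he, add_zero] at h1
  have c7 : s = 0 := by simpa using (T.polar_comb r s t 1 0 0).symm.trans (by simpa using h1)
  rw [T.Q_comb, c7] at hy0
  have c8 : t = 0 := by simpa [T.ne] using hy0
  apply a2
  simp [β, c7, c8, polar_add_right, mem_perp.1 hw z hz, polar_comm Q z e, hez]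

end Three

/-- The stabiliser of a non-degenerate plane in dimension five. -/
theorem max_two_three (hQ : ND Q) (h5 : finrank F V = 5) {U : Submodule F V}
    (hU : ND (Q.restrict U)) (h3 : finrank F U = 3) (hF : 5 ≤ Nat.card F) (h2 : (2 : F) ≠ 0)
    (hH : stab Q U ⊓ commutator (O Q) ≤ K) (hK : K ≤ commutator (O Q)) :
    K ≤ stab Q U ∨ commutator (O Q) ≤ K := by
  refine or_iff_not_imp_right.2 fun hK' g hg => ?_
  by_contra hgU
  have hn := finrank_add_finrank_perp hQ U
  have hW := nd_restrict_perp hQ hU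
  have S := isOSum_perp hU
  have M := maxFull_of_two hQ h5.ge hU (by omega) (by omega) hH hK'
  obtain ⟨e, he, he0, he1⟩ := exists_singular_mem Q U h3.ge
  have A := fun g hg hgU e' he' he0' he1' =>
    M.polar_ne hQ h5 hU h3 hF hH hK (g := g) hg hgU (e := e') he' he0' he1' he he0 he1
  obtain ⟨u, hu, w, hw, hy⟩ := S.exists_add (g.1 e)
  have hu0 : Q u ≠ 0 := fun h => by
    by_cases h0 : u = 0
    · exact A g hg hgU e he he0 he1 (by rw [hy, h0, zero_add, mem_perp'.1 hw e he])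
    · exact A g hg hgU u hu h0 h (by
        rw [hy, polar_add_left, polar_self', h, mem_perp'.1 hw u hu]; simp)
  have hq : Q u + Q w = 0 := by rw [← S.Q_add hu hw, ← hy, O.map_Q, he1]
  have hw0 : Q w ≠ 0 := fun h => hu0 (by rw [← hq, h, add_zero])
  obtain ⟨b, hb, hb0, hb1, hb2⟩ : ∃ b ∈ perp Q U, Q b ≠ 0 ∧ b ∉ F ∙ w ∧ b ∉ perp Q (F ∙ w) := by
    by_contra! h
    rcases small_irred (S := F ∙ w) (S' := perp Q (F ∙ w)) hW (by omega) (by omega)
      fun b hb hb0 => or_iff_not_imp_left.2 (h b hb hb0) with h | h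
    · have := Submodule.finrank_mono h
      have := finrank_span_singleton_le (F := F) w
      omega
    · exact mul_ne_zero h2 hw0 (polar_self' (Q := Q) w ▸ mem_perp_singleton.1 (h hw))
  obtain ⟨b', hb', hb3⟩ := exists_Q_eq_mem hU (by omega) (Q b)
  set β := polar Q w ((refl Q b).1 w) with hβ
  have d1 := finrank_le_inf_perp hQ U (F ∙ u)
  have d2 := finrank_span_singleton_le (F := F) u
  obtain ⟨v, hv, hv1⟩ := exists_Q_eq_mem (nd_inf_perp h2 hU hu hu0) (by omega)
    (Q u - (β / (2 * Q u)) ^ 2 * Q u)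
  have hv2 := mem_perp_singleton.1 hv.2
  have hu' : v - (β / (2 * Q u)) • u ∈ U := sub_mem hv.1 (U.smul_mem _ hu)
  have hu1 : Q (v - (β / (2 * Q u)) • u) = Q u := by
    rw [Q_sub, Q_smul, hv1, polar_smul_right', polar_comm, hv2]; ring
  have hu2 : polar Q u (v - (β / (2 * Q u)) • u) = -β := by
    rw [polar_sub_right, polar_smul_right', hv2, polar_self']; field_simp; ring
  generalize v - (β / (2 * Q u)) • u = u' at hu' hu1 hu2
  have hb4 : (refl Q b').1 u ∈ U := apply_mem_of_mem_stab (refl_mem_stab_of_mem hb') hu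
  obtain ⟨k, hk, hk1⟩ := exists_commutator_map_of_ne hU (not_exc_of_two_ne_zero h2) h3.ge
    (u := ⟨_, hb4⟩) (v := ⟨u', hu'⟩) (by simpa) (by simpa using hu1.symm)
  have hk2 : S.symm.extR k ∈ fixer Q (perp Q U) := S.symm.range_extR hQ ▸ ⟨k, rfl⟩
  set h := S.symm.extR k * (refl Q b * refl Q b') with hh
  have h6 : h ∈ K := hH ⟨mul_mem (stab_perp hQ U ▸ fixer_le_stab _ hk2)
    (mul_mem (refl_mem_stab_of_perp hb) (refl_mem_stab_of_mem hb')), mul_mem
    ((S.symm.extR_mem_commutator hQ (not_exc_of_two_ne_zero h2) (not_exc_of_two_ne_zero h2)).2 hk)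
    (refl_mul_refl_mem_commutator hQ hb0 hb3.symm)⟩
  have hb5 : (refl Q b).1 w ∈ perp Q U :=
    apply_mem_of_mem_stab (refl_mem_stab_of_mem hb) hw
  have h7 : h.1 (g.1 e) = u' + (refl Q b).1 w := by
    rw [hy, map_add, hh, O.mul_apply, O.mul_apply, O.mul_apply, O.mul_apply,
      refl_apply_of_perp (mem_perp'.1 hb _ hb4), refl_apply_of_perp (x := w) (mem_perp.1 hw _ hb'),
      S.symm.extR_left k hb5]
    exact congrArg (· + _) ((S.symm.extR_right k ⟨_, hb4⟩).trans (congrArg Subtype.val hk1))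
  have h8 : polar Q ((g⁻¹ * h * g).1 e) e = 0 := by
    rw [O.mul_apply, O.mul_apply, ← O.polar_right, h7, hy, polar_comm]
    simp only [polar_add_left, polar_add_right, hu2, ← hβ, mem_perp.1 hb5 u hu,
      mem_perp'.1 hw u' hu']
    ring
  have h9 : g⁻¹ * h * g ∈ stab Q U := by_contra fun h9 =>
    A _ (mul_mem (mul_mem (inv_mem hg) h6) hg) h9 e he he0 he1 h8
  obtain ⟨f, z, T⟩ := exists_tri h3.le (good_of_nd hU h3.ge he he1 he0)
  obtain ⟨r, s, t, h10⟩ := T.exists_comb (apply_mem_of_mem_stab h9 he)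
  have h11 : Q ((g⁻¹ * h * g).1 e) = 0 := by rw [O.map_Q, he1]
  rw [← h10] at h8 h11
  have c7 : s = 0 := by simpa using (T.polar_comb r s t 1 0 0).symm.trans (by simpa using h8)
  rw [T.Q_comb, c7] at h11
  have c8 : t = 0 := by simpa [T.ne] using h11
  rw [c7, c8, zero_smul, zero_smul, add_zero, add_zero, O.mul_apply, O.mul_apply, eq_comm,
    O.inv_apply_eq, map_smul, h7, hy] at h10
  have h12 : (refl Q b).1 w - r • w = 0 := S.isCompl.disjoint.le_bot ⟨show _ ∈ U by
    have := sub_mem (U.smul_mem r hu) hu'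
    convert this using 1
    linear_combination (norm := module) h10, sub_mem hb5 (Submodule.smul_mem _ _ hw)⟩
  rw [refl_apply] at h12
  have h13 : (Q b)⁻¹ * polar Q b w ≠ 0 := mul_ne_zero (inv_ne_zero hb0) fun h =>
    hb2 (mem_perp_singleton.2 (by rwa [polar_comm]))
  refine hb1 ((Submodule.smul_mem_iff _ h13).1 (Submodule.mem_span_singleton.2 ⟨1 - r, ?_⟩))
  linear_combination (norm := module) h12

end Cfsg.Lib.OMax
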