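import Cfsg.Agent.Lib.Orth.ReflClass
import Cfsg.Agent.Lib.Orth.Sign
import Cfsg.Prelude.Def_GeometricClasses

/-!
# Tools for maximality proofs in `Ω`: subspaces all of whose Eichler maps lie in a subgroup
-/

set_option autoImplicit false

namespace Cfsg.Lib.OMax

open QuadraticMap Module Cfsg.Lib.Orth

variable {F V : Type*} [Field F] [AddCommGroup V] [Module F V] {Q : QuadraticForm F V}
  {K : Subgroup (O Q)}

/-- The vectors `w ⊥ e` with `eich e w ∈ K`. -/
def AE (K : Subgroup (O Q)) (e : V) : AddSubgroup V where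
  carrier := {w | polar Q e w = 0 ∧ eich Q e w ∈ K}
  zero_mem' := ⟨by simp, by simp⟩
  add_mem' := by
    rintro w w' ⟨hw, h⟩ ⟨hw', h'⟩
    refine ⟨by simp [polar_add_right, hw, hw'], ?_⟩
    by_cases he : Q e = 0
    · rw [eich_add he hw hw']; exact mul_mem h h'
    · rw [eich_of_not (fun h => he h.1)]; exact one_mem _
  neg_mem' := by
    rintro w ⟨hw, h⟩
    refine ⟨by simp [hw], ?_⟩
    by_cases he : Q e = 0
    · rw [eich_neg he hw]; exact inv_mem h
    · rw [eich_of_not (fun h => he h.1)]; exact one_mem _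

theorem mem_AE {e w : V} : w ∈ AE K e ↔ polar Q e w = 0 ∧ eich Q e w ∈ K := Iff.rfl

theorem smul_self_mem_AE {e : V} (he : Q e = 0) (a : F) : a • e ∈ AE K e :=
  ⟨by simp [polar_self', he], by rw [eich_self_smul he]; exact one_mem _⟩

theorem conj_mem_AE {e w : V} (he : Q e = 0) {g : O Q} (hg : g ∈ K) {a : F} (ha : a ≠ 0)
    {e' : V} (hge : g.1 e = a • e') (hw : w ∈ AE K e) : a • g.1 w ∈ AE K e' := by
  have h1 : polar Q e' (g.1 w) = 0 := by
    have := O.map_polar g e w
    rw [hge, polar_smul_left', hw.1] at this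
    exact (mul_eq_zero.1 this).resolve_left ha
  have h2 : Q e' = 0 := by
    have := O.map_Q g e
    rw [hge, Q_smul, he] at this
    exact (mul_eq_zero.1 this).resolve_left (pow_ne_zero _ ha)
  refine ⟨by simp [h1], ?_⟩
  rw [← eich_smul_left h2 h1, ← hge, ← conj_eich]
  exact mul_mem (mul_mem hg hw.2) (inv_mem hg)

theorem apply_mem_AE {e w : V} {g : O Q} (hg : g ∈ K) (hge : g.1 e = e) (hw : w ∈ AE K e) :
    g.1 w ∈ AE K e := by
  refine ⟨by rw [← hge, O.map_polar]; exact hw.1, ?_⟩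
  have := conj_eich g e w
  rw [hge] at this
  rw [← this]
  exact mul_mem (mul_mem hg hw.2) (inv_mem hg)

/-- All Eichler maps with centre `e` and direction in `X` lie in `K`. -/
def FullAt (K : Subgroup (O Q)) (X : Submodule F V) (e : V) : Prop := ∀ z ∈ X, eich Q e z ∈ K

/-- All Eichler maps with data in `X` lie in `K`. -/
def Full (K : Subgroup (O Q)) (X : Submodule F V) : Prop := ∀ u ∈ X, FullAt K X u

theorem Full.mono {X Y : Submodule F V} (h : Full K X) (hY : Y ≤ X) : Full K Y :=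
  fun u hu z hz => h u (hY hu) z (hY hz)

theorem Full.mono' {X : Submodule F V} {K' : Subgroup (O Q)} (h : Full K X) (hK : K ≤ K') :
    Full K' X := fun u hu z hz => hK (h u hu z hz)

theorem fullAt_iff {X : Submodule F V} {e : V} :
    FullAt K X e ↔ ∀ z ∈ X, Q e = 0 → polar Q e z = 0 → eich Q e z ∈ K := by
  refine ⟨fun h z hz _ _ => h z hz, fun h z hz => ?_⟩
  by_cases hc : Q e = 0 ∧ polar Q e z = 0
  · exact h z hz hc.1 hc.2
  · rw [eich_of_not hc]; exact one_mem _

theorem eich_sub_mem {X : Submodule F V} {u z : V} (hu : u ∈ X) (hz : z ∈ X) (x : V) :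
    (eich Q u z).1 x - x ∈ X := by
  by_cases hc : Q u = 0 ∧ polar Q u z = 0
  · rw [eich_apply hc.1 hc.2]
    have : x + polar Q z x • u - polar Q u x • z - (Q z * polar Q u x) • u - x =
      (polar Q z x - Q z * polar Q u x) • u - polar Q u x • z := by (module)
    rw [this]
    exact sub_mem (X.smul_mem _ hu) (X.smul_mem _ hz)
  · rw [eich_of_not hc]; simp

theorem eich_apply_mem {X : Submodule F V} {u z : V} (hu : u ∈ X) (hz : z ∈ X) {x : V}
    (hx : x ∈ X) : (eich Q u z).1 x ∈ X := by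
  simpa using add_mem (eich_sub_mem (Q := Q) hu hz x) hx

theorem eich_inv_apply_mem {X : Submodule F V} {u z : V} (hu : u ∈ X) (hz : z ∈ X) {x : V}
    (hx : x ∈ X) : ((eich Q u z)⁻¹).1 x ∈ X := by
  by_cases hc : Q u = 0 ∧ polar Q u z = 0
  · rw [← eich_neg hc.1 hc.2]; exact eich_apply_mem hu (neg_mem hz) hx
  · rw [eich_of_not hc]; simpa using hx

theorem FullAt.conj {X : Submodule F V} {e : V} (h : FullAt K X e) {g : O Q} (hg : g ∈ K)
    (hX : ∀ x ∈ X, (g⁻¹).1 x ∈ X) : FullAt K X (g.1 e) := fun z hz => by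
  have := conj_eich g e ((g⁻¹).1 z)
  rw [O.apply_inv_apply] at this
  rw [← this]
  exact mul_mem (mul_mem hg (h _ (hX z hz))) (inv_mem hg)

theorem FullAt.smul {X : Submodule F V} {e : V} (h : FullAt K X e) (c : F) :
    FullAt K X (c • e) := by
  by_cases hc : c = 0
  · intro z _; simp [hc]
  refine fullAt_iff.2 fun z hz h1 h2 => ?_
  rw [Q_smul] at h1
  rw [polar_smul_left'] at h2
  rw [eich_smul_left ((mul_eq_zero.1 h1).resolve_left (pow_ne_zero _ hc))
    ((mul_eq_zero.1 h2).resolve_left hc)]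
  exact h _ (X.smul_mem _ hz)

theorem Full.map {X : Submodule F V} (h : Full K X) {g : O Q} (hg : g ∈ K) :
    Full K (X.map (g.1 : V →ₗ[F] V)) := by
  rintro _ ⟨u, hu, rfl⟩ _ ⟨z, hz, rfl⟩
  have := conj_eich g u z
  simp only [LinearEquiv.coe_coe]
  rw [← this]
  exact mul_mem (mul_mem hg (h u hu z hz)) (inv_mem hg)

theorem eich_map_explicit {e x y : V} (he : Q e = 0) (hx : Q x = 0) (hy : Q y = 0)
    (hex : polar Q e x ≠ 0) (hey : polar Q e y ≠ 0) :
    (eich Q e ((polar Q e x)⁻¹ • x - (polar Q e y)⁻¹ • y)).1 x =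
      (polar Q e x / polar Q e y) • y := by
  have h0 : polar Q e ((polar Q e x)⁻¹ • x - (polar Q e y)⁻¹ • y) = 0 := by
    rw [polar_sub_right, polar_smul_right', polar_smul_right', inv_mul_cancel₀ hex,
      inv_mul_cancel₀ hey, sub_self]
  rw [eich_apply he h0, polar_sub_left, polar_smul_left', polar_smul_left', polar_self', hx,
    Q_sub, Q_smul, Q_smul, hx, hy, polar_smul_left', polar_smul_right', polar_comm Q y x]
  match_scalars <;> field_simp <;> ring

/-- Transport of `FullAt` between two singular points opposite to a full point. -/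
theorem FullAt.transfer {X : Submodule F V} {p x y : V} (hp : FullAt K X p) (hpX : p ∈ X)
    (hp0 : Q p = 0) (hxX : x ∈ X) (hyX : y ∈ X) (hx : Q x = 0) (hy : Q y = 0)
    (hpx : polar Q p x ≠ 0) (hpy : polar Q p y ≠ 0) (h : FullAt K X x) : FullAt K X y := by
  have hz : (polar Q p x)⁻¹ • x - (polar Q p y)⁻¹ • y ∈ X :=
    sub_mem (X.smul_mem _ hxX) (X.smul_mem _ hyX)
  have h1 := (h.conj (hp _ hz) fun v hv => eich_inv_apply_mem hpX hz hv).smul
    (polar Q p y / polar Q p x)
  rwa [eich_map_explicit hp0 hx hy hpx hpy, smul_smul, div_mul_div_cancel₀ hpx, div_self hpy,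
    one_smul] at h1

/-- Two opposite full points make the whole subspace full. -/
theorem full_of_pair {X : Submodule F V} {e f : V} (heX : e ∈ X) (hfX : f ∈ X) (he : Q e = 0)
    (hf : Q f = 0) (hef : polar Q e f ≠ 0) (h1 : FullAt K X e) (h2 : FullAt K X f) :
    Full K X := by
  have hfe : polar Q f e ≠ 0 := by rwa [polar_comm]
  have A : ∀ y ∈ X, Q y = 0 → polar Q e y ≠ 0 → FullAt K X y := fun y hyX hy hey =>
    h1.transfer heX he hfX hyX hf hy hef hey h2
  have B : ∀ y ∈ X, Q y = 0 → polar Q f y ≠ 0 → FullAt K X y := fun y hyX hy hfy =>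
    h2.transfer hfX hf heX hyX he hy hfe hfy h1
  have C : ∀ y ∈ X, Q y = 0 → (∃ a ∈ X, polar Q y a ≠ 0) → FullAt K X y := by
    rintro y hyX hy ⟨a, haX, ha⟩
    by_cases hey : polar Q e y = 0; swap
    · exact A y hyX hy hey
    by_cases hfy : polar Q f y = 0; swap
    · exact B y hyX hy hfy
    obtain ⟨b, hbX, hb1, hb2⟩ : ∃ b ∈ X, polar Q y b ≠ 0 ∧ polar Q e b ≠ 0 := by
      by_cases hea : polar Q e a = 0
      · refine ⟨a + f, add_mem haX hfX, ?_, ?_⟩
        · rwa [polar_add_right, polar_comm Q y f, hfy, add_zero]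
        · rwa [polar_add_right, hea, zero_add]
      · exact ⟨a, haX, ha, hea⟩
    set u := b - (Q b / polar Q y b) • y with hu
    have huX : u ∈ X := sub_mem hbX (X.smul_mem _ hyX)
    have hu0 : Q u = 0 := by
      rw [hu, Q_sub, Q_smul, hy, polar_smul_right', polar_comm Q b y]; field_simp; ring
    have hue : polar Q e u ≠ 0 := by
      rwa [hu, polar_sub_right, polar_smul_right', hey, mul_zero, sub_zero]
    have huy : polar Q u y ≠ 0 := by
      rwa [hu, polar_sub_left, polar_smul_left', polar_self', hy, mul_zero, mul_zero, sub_zero,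
        polar_comm]
    exact (A u huX hu0 hue).transfer huX hu0 heX hyX he hy (by rwa [polar_comm]) huy h1
  intro y hyX
  by_cases hy : Q y = 0; swap
  · exact fullAt_iff.2 fun _ _ h => absurd h hy
  by_cases hr : ∃ a ∈ X, polar Q y a ≠ 0
  · exact C y hyX hy hr
  push Not at hr
  have D : ∀ z ∈ X, Q z = 0 → (∃ a ∈ X, polar Q z a ≠ 0) → z ∈ AE K y := fun z hz hz0 hz1 => by
    refine ⟨hr z hz, ?_⟩
    rw [eich_swap hz0 (by rw [polar_comm]; exact hr z hz) hy]
    exact C z hz hz0 hz1 _ (neg_mem hyX)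
  have De : ∀ c : F, c • e ∈ AE K y := fun c => by
    by_cases hc : c = 0
    · simp [hc]
    · exact D _ (X.smul_mem _ heX) (by simp [Q_smul, he]) ⟨f, hfX, by simp [hc, hef]⟩
  have Df : ∀ c : F, c • f ∈ AE K y := fun c => by
    by_cases hc : c = 0
    · simp [hc]
    · exact D _ (X.smul_mem _ hfX) (by simp [Q_smul, hf]) ⟨e, heX, by simp [hc, hfe]⟩
  intro z hz
  set c := (1 - polar Q f z) / polar Q f e with hc
  set w := z + c • e with hw
  have hfw : polar Q f w = 1 := by
    rw [hw, polar_add_right, polar_smul_right', hc]; field_simp; ring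
  have hwX : w ∈ X := add_mem hz (X.smul_mem _ heX)
  have h3 : w - Q w • f ∈ AE K y := D _ (sub_mem hwX (X.smul_mem _ hfX))
    (by rw [Q_sub, Q_smul, hf, polar_smul_right', polar_comm Q w f, hfw]; ring)
    ⟨f, hfX, by rw [polar_sub_left, polar_smul_left', polar_self', hf, polar_comm Q w f, hfw]; simp⟩
  have : z = (w - Q w • f) + Q w • f - c • e := by rw [hw]; abel
  rw [this]
  exact (sub_mem (add_mem h3 (Df _)) (De _)).2

/-- `e` is a singular vector of `X` lying in a hyperbolic pair of `X` that is orthogonal to a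
non-singular vector of `X`. -/
def Good (Q : QuadraticForm F V) (X : Submodule F V) (e : V) : Prop :=
  e ∈ X ∧ ∃ f ∈ X, ∃ z ∈ X, IsHyp Q e f ∧ z ∈ hperp Q e f ∧ Q z ≠ 0

theorem Good.mono {X Y : Submodule F V} {e : V} (h : Good Q X e) (hY : X ≤ Y) : Good Q Y e := by
  obtain ⟨he, f, hf, z, hz, h⟩ := h
  exact ⟨hY he, f, hY hf, z, hY hz, h⟩

theorem Good.singular {X : Submodule F V} {e : V} (h : Good Q X e) : Q e = 0 := by
  obtain ⟨-, f, -, z, -, h, -⟩ := h
  exact h.left

theorem Good.map {X : Submodule F V} {e : V} (h : Good Q X e) (g : O Q) :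
    Good Q (X.map (g.1 : V →ₗ[F] V)) (g.1 e) := by
  obtain ⟨he, f, hf, z, hz, h, h1, h2⟩ := h
  refine ⟨⟨e, he, rfl⟩, g.1 f, ⟨f, hf, rfl⟩, g.1 z, ⟨z, hz, rfl⟩, h.map g, ?_, by simpa⟩
  simpa [mem_hperp] using h1

theorem good_of_nd [FiniteDimensional F V] {U : Submodule F V} (hU : ND (Q.restrict U))
    (h3 : 3 ≤ finrank F U) {e : V} (heU : e ∈ U) (he : Q e = 0) (h0 : e ≠ 0) : Good Q U e := by
  obtain ⟨f, hf⟩ := exists_isHyp hU (e := ⟨e, heU⟩) he (by simpa)
  obtain ⟨z, hz, hz0⟩ := hf.exists_nonsingular hU h3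
  rw [mem_hperp] at hz
  exact ⟨heU, f, f.2, z, z.2, ⟨he, hf.right, hf.polar_eq⟩, mem_hperp.2 hz, hz0⟩

theorem exists_good [Finite F] [FiniteDimensional F V] {U : Submodule F V}
    (hU : ND (Q.restrict U)) (h3 : 3 ≤ finrank F U) : ∃ e, Good Q U e := by
  obtain ⟨e, he, h0, h⟩ := exists_singular_mem Q U h3
  exact ⟨e, good_of_nd hU h3 he h h0⟩

theorem _root_.Cfsg.Lib.Orth.IsHyp.eich_right_left {e f z : V} (h : IsHyp Q e f)
    (hz : z ∈ hperp Q e f) : (eich Q f z).1 e = e - z - Q z • f := by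
  rw [mem_hperp] at hz
  rw [eich_apply h.right hz.2, polar_comm Q z e, hz.1, h.polar_eq']; simp

theorem _root_.Cfsg.Lib.Orth.IsHyp.swap_apply {e f z : V} (h : IsHyp Q e f)
    (hz : z ∈ hperp Q e f) (hz0 : Q z ≠ 0) {a : F} (ha : a ≠ 0) :
    (eich Q e ((a * Q z)⁻¹ • z) * eich Q f (a • z)).1 e = (-(a ^ 2 * Q z)) • f := by
  rw [O.mul_apply, h.eich_right_left (Submodule.smul_mem _ _ hz)]
  rw [mem_hperp] at hz
  rw [eich_apply h.left (by simp [hz.1])]
  simp only [polar_sub_right, polar_smul_right', polar_smul_left', polar_self', Q_smul,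
    polar_comm Q z e, polar_comm Q z f, hz.1, hz.2, h.left, h.polar_eq]
  match_scalars <;> field_simp <;> ring

theorem addSubgroup_smul_of_sq [Finite F] (S : AddSubgroup V) {w : V}
    (h : ∀ t : F, t ≠ 0 → t ^ 2 • w ∈ S) (c : F) : c • w ∈ S := by
  have h' : ∀ t : F, t ^ 2 • w ∈ S := fun t => by
    by_cases ht : t = 0
    · simp [ht]
    · exact h t ht
  by_cases h2 : (2 : F) = 0
  · obtain ⟨t, rfl⟩ := isSquare_of_two_eq_zero h2 c
    simpa [pow_two] using h' t
  · obtain ⟨x, y, rfl⟩ := exists_sum_two_sq h2 one_ne_zero one_ne_zero c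
    simpa [add_smul] using add_mem (h' x) (h' y)

theorem Full.smul_mem_AE [Finite F] {X : Submodule F V} (h : Full K X) {e : V} (he : Good Q X e)
    {w : V} (hw : w ∈ AE K e) (c : F) : c • w ∈ AE K e := by
  obtain ⟨heX, f, hf, z, hz, hh, h1, h2⟩ := he
  refine addSubgroup_smul_of_sq _ (fun t ht => ?_) c
  set g : F → O Q := fun a => eich Q e ((a * Q z)⁻¹ • z) * eich Q f (a • z) with hg
  have hgK : ∀ a, g a ∈ K := fun a =>
    mul_mem (h e heX _ (X.smul_mem _ hz)) (h f hf _ (X.smul_mem _ hz))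
  have hgX : ∀ a x, (g a).1 x - x ∈ X := fun a x => by
    have := add_mem (eich_sub_mem (Q := Q) heX (X.smul_mem (a * Q z)⁻¹ hz)
      ((eich Q f (a • z)).1 x)) (eich_sub_mem (Q := Q) hf (X.smul_mem a hz) x)
    simpa [hg, O.mul_apply] using this
  have h3 : ((g 1)⁻¹ * g t).1 e = t ^ 2 • e := by
    rw [O.mul_apply, O.inv_apply_eq, map_smul, hh.swap_apply h1 h2 ht,
      hh.swap_apply h1 h2 one_ne_zero, smul_smul]
    congr 1; ring
  have h4 := conj_mem_AE hh.left (mul_mem (inv_mem (hgK 1)) (hgK t)) (pow_ne_zero 2 ht) h3 hw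
  set w' := ((g 1)⁻¹ * g t).1 w with hw'
  have h5 : w' - w ∈ X := by
    have e1 := hgX 1 w'
    have e2 : (g 1).1 w' = (g t).1 w := by rw [hw', O.mul_apply (g 1)⁻¹, O.apply_inv_apply]
    rw [e2] at e1
    simpa using sub_mem (hgX t w) e1
  have h6 : polar Q e (w' - w) = 0 := by
    have := h4.1
    rw [polar_smul_right'] at this
    rw [polar_sub_right, hw.1, (mul_eq_zero.1 this).resolve_left (pow_ne_zero 2 ht), sub_zero]
  have h7 : t ^ 2 • (w' - w) ∈ AE K e :=
    ⟨by simp [h6], h e heX _ (X.smul_mem _ h5)⟩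
  simpa [smul_sub] using sub_mem h4 h7

theorem Full.mem_AE_of_span [Finite F] {X : Submodule F V} (h : Full K X) {e : V}
    (he : Good Q X e) {w : V} (hw : w ∈ Submodule.span F (AE K e : Set V)) : w ∈ AE K e := by
  induction hw using Submodule.span_induction with
  | mem x hx => exact hx
  | zero => exact zero_mem _
  | add x y _ _ hx hy => exact add_mem hx hy
  | smul a x _ hx => exact h.smul_mem_AE he hx a

/-- Growth lemma. -/
theorem Full.grow [Finite F] {X : Submodule F V} (h : Full K X) {e : V} (he : Good Q X e) :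
    Full K (X ⊔ Submodule.span F (AE K e : Set V)) := by
  have h1 : FullAt K (X ⊔ Submodule.span F (AE K e : Set V)) e := by
    refine fullAt_iff.2 fun z hz _ h2 => ?_
    obtain ⟨x, hx, w, hw, rfl⟩ := Submodule.mem_sup.1 hz
    have hw := h.mem_AE_of_span he hw
    rw [polar_add_right, hw.1, add_zero] at h2
    exact (add_mem (show x ∈ AE K e from ⟨h2, h e he.1 x hx⟩) hw).2
  obtain ⟨heX, f, hf, z, hz, hh, h2, h3⟩ := he
  have h4 := h1.conj (h f hf z hz) fun x hx =>
    eich_inv_apply_mem (Submodule.mem_sup_left hf) (Submodule.mem_sup_left hz) hx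
  refine full_of_pair (Submodule.mem_sup_left heX)
    (Submodule.mem_sup_left (eich_apply_mem (Q := Q) hf hz heX)) hh.left
    (by rw [O.map_Q, hh.left]) ?_ h1 h4
  rw [hh.eich_right_left h2, polar_sub_right, polar_sub_right, polar_smul_right', hh.polar_left,
    hh.polar_eq, (mem_hperp.1 h2).1]
  simpa using h3

/-- A full subspace that cannot be enlarged. -/
structure MaxFull (K : Subgroup (O Q)) (M : Submodule F V) : Prop where
  full : Full K M
  max : ∀ e, Good Q M e → ∀ w ∈ AE K e, w ∈ M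

theorem Full.le_of_hyp {Y M : Submodule F V} (h : Full K Y) {e f : V} (he : e ∈ Y) (hf : f ∈ Y)
    (hef : polar Q e f ≠ 0) (hfM : f ∈ M) (hM : ∀ w ∈ AE K e, w ∈ M) : Y ≤ M := fun y hy => by
  have h1 : y - (polar Q e y / polar Q e f) • f ∈ AE K e :=
    ⟨by rw [polar_sub_right, polar_smul_right']; field_simp; ring,
      h e he _ (sub_mem hy (Y.smul_mem _ hf))⟩
  simpa using add_mem (hM _ h1) (M.smul_mem (polar Q e y / polar Q e f) hfM)

theorem Full.exists_maxFull [Finite F] {X : Submodule F V} (h : Full K X) {e : V}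
    (he : Good Q X e) : ∃ M, X ≤ M ∧ MaxFull K M := by
  refine ⟨_, le_sup_left, h.grow he, fun e' he' w hw => ?_⟩
  have h1 := (h.grow he).grow he'
  obtain ⟨heX, f, hf, z, hz, hh, -⟩ := he
  refine h1.le_of_hyp (e := e) (f := f) (Submodule.mem_sup_left (Submodule.mem_sup_left heX))
    (Submodule.mem_sup_left (Submodule.mem_sup_left hf)) (by simp [hh.polar_eq])
    (Submodule.mem_sup_left hf) (fun w hw => Submodule.mem_sup_right (Submodule.subset_span hw))
    (Submodule.mem_sup_right (Submodule.subset_span hw))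

theorem MaxFull.mem_of_full {M Y : Submodule F V} (h : MaxFull K M) (hY : Full K Y) {e : V}
    (he : Good Q M e) (heY : e ∈ Y) {y : V} (hy : y ∈ Y) (hey : polar Q e y = 0) : y ∈ M :=
  h.max e he y ⟨hey, hY e heY y hy⟩

theorem MaxFull.le_of_full {M Y U : Submodule F V} (h : MaxFull K M) (hY : Full K Y) {e : V}
    (he : Good Q U e) (hM : U ≤ M) (hU : U ≤ Y) : Y ≤ M := by
  have he' := he.mono hM
  obtain ⟨heX, f, hf, z, hz, hh, -⟩ := he
  exact hY.le_of_hyp (hU heX) (hU hf) (by simp [hh.polar_eq]) (hM hf) (h.max e he')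

theorem MaxFull.apply_mem {M : Submodule F V} (h : MaxFull K M) {e : V} (he : Good Q M e)
    {g : O Q} (hg : g ∈ K) (hge : g.1 e = e) {x : V} (hx : x ∈ M) (hex : polar Q e x = 0) :
    g.1 x ∈ M :=
  h.max e he _ (apply_mem_AE hg hge ⟨hex, h.full e he.1 x hx⟩)

/-- An element of `K` stabilising a good subspace of `M` stabilises `M`. -/
theorem MaxFull.mem_stab [FiniteDimensional F V] {M U : Submodule F V} (h : MaxFull K M)
    {e : V} (he : Good Q U e) (hM : U ≤ M) {g : O Q} (hg : g ∈ K) (hU : g ∈ stab Q U) :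
    g ∈ stab Q M :=
  mem_stab_iff_mapsTo.2 fun w hw => h.le_of_full (h.full.map hg) he hM
    (by rw [← Orth.mem_stab.1 hU]; exact Submodule.map_mono hM) ⟨w, hw, rfl⟩

theorem Full.commutator_le [Finite F] [FiniteDimensional F V] (hQ : ND Q)
    (h3 : 3 ≤ finrank F V) (h : Full K ⊤) : commutator (O Q) ≤ K := by
  obtain ⟨e, h0, he⟩ := exists_singular Q h3
  exact (commutator_le_eichGroup hQ he h0 h3).trans
    (eichGroup_le fun u z _ _ => h u trivial z trivial)

theorem commutator_le_of_pair [Finite F] [FiniteDimensional F V] (hQ : ND Q)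
    (h3 : 3 ≤ finrank F V) {e f : V} (he : Q e = 0) (hf : Q f = 0) (hef : polar Q e f ≠ 0)
    (h1 : FullAt K ⊤ e) (h2 : FullAt K ⊤ f) : commutator (O Q) ≤ K :=
  (full_of_pair Submodule.mem_top Submodule.mem_top he hf hef h1 h2).commutator_le hQ h3

/-- A subspace invariant under the Eichler maps of a non-degenerate subspace `U` of dimension
at least three is orthogonal to `U` or contains it. -/
theorem le_perp_or_le [Finite F] [FiniteDimensional F V] {U X : Submodule F V}
    (hU : ND (Q.restrict U)) (h3 : 3 ≤ finrank F U)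
    (hX : ∀ u ∈ U, ∀ z ∈ U, ∀ x ∈ X, (eich Q u z).1 x ∈ X) : X ≤ perp Q U ∨ U ≤ X := by
  refine or_iff_not_imp_left.2 fun hn => ?_
  obtain ⟨x, hx, e, heU, he, hex⟩ : ∃ x ∈ X, ∃ e ∈ U, Q e = 0 ∧ polar Q e x ≠ 0 := by
    by_contra! hc
    refine hn fun x hx => mem_perp.2 fun u hu => ?_
    obtain ⟨e, f, hef⟩ := exists_isHyp_of_three_le hU h3
    have := addSubgroup_eq_top_of_singular hef
      ((perp Q (F ∙ x)).comap U.subtype).toAddSubgroup fun v hv =>
        mem_perp_singleton.2 (by rw [polar_comm]; exact hc x hx v v.2 hv)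
    have h1 : (⟨u, hu⟩ : U) ∈ ((perp Q (F ∙ x)).comap U.subtype).toAddSubgroup := by
      rw [this]; trivial
    rw [polar_comm]; exact mem_perp_singleton.1 h1
  have h0 : e ≠ 0 := by rintro rfl; simp at hex
  obtain ⟨-, f, hf, z, hz, hh, h1, h2⟩ := good_of_nd hU h3 heU he h0
  have A : ∀ z ∈ U, polar Q e z = 0 →
      (polar Q z x - Q z * polar Q e x) • e - polar Q e x • z ∈ X := fun z hz hez => by
    have := sub_mem (hX e heU z hz x hx) hx
    rw [eich_apply he hez] at this
    convert this using 1; (module)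
  have hz0 : (⟨z, hz⟩ : U) ≠ 0 := by
    intro h; rw [show z = 0 from congrArg Subtype.val h] at h2; simp at h2
  have hh' : IsHyp (Q.restrict U) ⟨e, heU⟩ ⟨f, hf⟩ := ⟨he, hh.right, hh.polar_eq⟩
  obtain ⟨z', hz', h4⟩ := hh'.exists_polar_eq hU (w := ⟨z, hz⟩) 
    (mem_hperp.2 (mem_hperp (Q := Q).1 h1)) hz0 1
  have h5 : polar Q e z' = 0 := (mem_hperp.1 hz').1
  have h4 : polar Q (z' : V) z = 1 := h4
  have heX : e ∈ X := by
    have := sub_mem (add_mem (A z hz (mem_hperp.1 h1).1) (A z' z'.2 h5))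
      (A (z' + z) (add_mem z'.2 hz) (by rw [polar_add_right, h5, (mem_hperp.1 h1).1, add_zero]))
    rw [Orth.Q_add, polar_add_left, h4] at this
    have h6 : polar Q e x • e ∈ X := by convert this using 1; (module)
    exact (X.smul_mem_iff hex).1 h6
  have B : ∀ z ∈ U, polar Q e z = 0 → z ∈ X := fun z hz hez => by
    have := sub_mem (X.smul_mem (polar Q z x - Q z * polar Q e x) heX) (A z hz hez)
    rw [sub_sub_cancel] at this
    exact (X.smul_mem_iff hex).1 this
  have hfX : f ∈ X := by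
    have := hX f hf z hz e heX
    rw [hh.eich_right_left h1] at this
    have h6 := sub_mem (sub_mem heX (B z hz (mem_hperp.1 h1).1)) this
    rw [sub_sub_cancel] at h6
    exact (X.smul_mem_iff h2).1 h6
  intro u hu
  have := B (u - polar Q e u • f) (sub_mem hu (U.smul_mem _ hf))
    (by rw [polar_sub_right, polar_smul_right', hh.polar_eq]; ring)
  simpa using add_mem this (X.smul_mem (polar Q e u) hfX)

/-! ### Transport to matrices -/

section Matrix

variable {ι : Type} [Fintype ι] [DecidableEq ι]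

theorem exists_form {q : (ι → F) → F} (h : Geo.IsNondegenerateQuadraticForm q) :
    ∃ Q : QuadraticForm F (ι → F), ⇑Q = q ∧ ND Q := by
  let Q : QuadraticForm F (ι → F) := QuadraticMap.ofPolar q
    (fun a x => by rw [h.smul, smul_eq_mul]; ring) (fun x y z => h.polar_bilinear.add_left x y z)
    (fun a x y => h.polar_bilinear.smul_left a x y)
  refine ⟨Q, rfl, (nd_iff Q).2 fun x hx => ?_⟩
  by_contra h0
  obtain ⟨y, hy⟩ := (h.nondegenerate x h0).2
  exact hy (hx y)

variable {Q : QuadraticForm F (ι → F)}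

theorem isMaximalIn_of {H : Subgroup (GL ι F)} {H' : Subgroup (O Q)}
    (hH : ∀ g : isometryGroup F ⇑Q, (g : GL ι F) ∈ H ↔ isoEquiv Q g ∈ H')
    (h1 : ¬ commutator (O Q) ≤ H')
    (h2 : ∀ K, H' ⊓ commutator (O Q) ≤ K → K ≤ commutator (O Q) →
      K ≤ H' ∨ commutator (O Q) ≤ K) :
    Geo.IsMaximalIn (Geo.omegaGL ⇑Q) (H ⊓ Geo.omegaGL ⇑Q) := by
  have key : ∀ g : isometryGroup F ⇑Q, (g : GL ι F) ∈ Geo.omegaGL ⇑Q ↔
      isoEquiv Q g ∈ commutator (O Q) := fun g => by
    rw [← mem_omega_iff]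
    exact Subgroup.mem_map_iff_mem (isometryGroup F ⇑Q).subtype_injective
  refine ⟨lt_of_le_of_ne inf_le_right fun he => h1 fun g hg => ?_, fun M hM1 hM2 => ?_⟩
  · obtain ⟨g, rfl⟩ := (isoEquiv Q).surjective g
    exact (hH g).mp (he.ge ((key g).mpr hg)).1
  · rcases h2 ((M.subgroupOf (isometryGroup F ⇑Q)).map (isoEquiv Q).toMonoidHom) (fun g hg => by
        obtain ⟨g, rfl⟩ := (isoEquiv Q).surjective g
        exact ⟨g, hM1 ⟨(hH g).mpr hg.1, (key g).mpr hg.2⟩, rfl⟩)
      (by rintro _ ⟨g, hg, rfl⟩; exact (key g).mp (hM2 hg)) with h | h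
    · refine Or.inl (le_antisymm (fun g hg => ⟨?_, hM2 hg⟩) hM1)
      obtain ⟨g, -, rfl⟩ := hM2 hg
      exact (hH g).mpr (h ⟨g, hg, rfl⟩)
    · refine Or.inr (le_antisymm hM2 ?_)
      rintro _ ⟨g, hg, rfl⟩
      obtain ⟨g', hg', e⟩ := h ((mem_omega_iff g).mp hg)
      rwa [← (isoEquiv Q).injective e]

theorem mem_subspaceStabilizer_iff {W : Submodule F (ι → F)} (g : isometryGroup F ⇑Q) :
    (g : GL ι F) ∈ Geo.subspaceStabilizer W ↔ isoEquiv Q g ∈ stab Q W := by
  rw [mem_stab_iff]; rfl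

theorem nd_restrict_of {W : Submodule F (ι → F)}
    (hW : Geo.IsNondegenerateOn (polar ⇑Q) W) : ND (Q.restrict W) :=
  nd_restrict_iff.2 fun x hx h => by
    by_contra h0
    obtain ⟨y, hy, h1⟩ := (hW x hx h0).2
    exact h1 (h y hy)

end Matrix

theorem not_commutator_le_stab [Finite F] [FiniteDimensional F V] (hQ : ND Q)
    (h5 : 5 ≤ finrank F V) {W : Submodule F V} (h0 : W ≠ ⊥) (h1 : W ≠ ⊤) :
    ¬ commutator (O Q) ≤ stab Q W := fun h => by
  have hT : ND (Q.restrict ⊤) := nd_restrict_iff.2 fun x _ hx => hQ.eq_zero fun y => hx y trivial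
  rcases le_perp_or_le (X := W) hT (by rw [finrank_top]; omega) (fun u _ z _ x hx =>
    apply_mem_of_mem_stab (h (eich_mem_commutator hQ (not_exc_of_five_le h5) u z)) hx) with h | h
  · rw [perp_top hQ] at h; exact h0 (le_bot_iff.1 h)
  · exact h1 (top_le_iff.1 h)

end Cfsg.Lib.OMax
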