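import Cfsg.Agent.Lib.OMax.Rat

/-!
# Maximality of subfield subgroups of `Ω`
-/

set_option autoImplicit false

namespace Cfsg.Lib.OMax

open QuadraticMap Module Cfsg.Lib.Orth
open Cfsg.Lib.Unitary (ratStab finrank_span_singleton_le finrank_span_triple_le
  mem_ratStab_of_comm comm_of_mem_ratStab)

variable {F V : Type*} [Field F] [AddCommGroup V] [Module F V] {Q : QuadraticForm F V}

/-- The multipliers of the rational part of `AE`. -/
def RE (T : AddMonoid.End V) (K : Subgroup (O Q)) (e : V) : AddSubgroup F where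
  carrier := {θ | ∀ x, T x = x → polar Q e x = 0 → θ • x ∈ AE K e}
  zero_mem' := fun x _ _ => by simp
  add_mem' := fun {a b} ha hb x h1 h2 => by
    rw [add_smul]; exact add_mem (ha x h1 h2) (hb x h1 h2)
  neg_mem' := fun {a} ha x h1 h2 => by rw [neg_smul]; exact neg_mem (ha x h1 h2)

theorem eich_pow_char (p : ℕ) [CharP F p] (u z : V) : eich Q u z ^ p = 1 := by
  by_cases hc : Q u = 0 ∧ polar Q u z = 0
  · have : ∀ k : ℕ, eich Q u z ^ k = eich Q u ((k : F) • z) := fun k => by
      induction k with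
      | zero => simp
      | succ k ih =>
        rw [pow_succ, ih, ← eich_add hc.1 (by simp [hc.2]) hc.2, Nat.cast_succ, add_smul, one_smul]
    simp [this]
  · simp [eich_of_not hc]

theorem sub_mem_of_fixer [FiniteDimensional F V] (hQ : ND Q) {W : Submodule F V} {g : O Q}
    (hW : g ∈ fixer Q (perp Q W)) (v : V) : g.1 v - v ∈ W := by
  rw [← perp_perp hQ W]
  refine mem_perp.2 fun x hx => ?_
  rw [polar_sub_right]
  conv_lhs => rw [← hW x hx, O.map_polar, hW x hx, sub_self]

open Pointwise in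
/-- Two `p`-elements stabilising a line and fixing distinct unique points on it. -/
theorem exists_swap [Finite F] [FiniteDimensional F V] {G : Subgroup (O Q)} {e p : V}
    (hG : G ≤ stab Q (Submodule.span F {e, p})) {e' p' : V} (h1 : eich Q e e' ∈ G)
    (h2 : eich Q p p' ∈ G) (he : Q e = 0) (hp : Q p = 0) (hee : polar Q e e' = 0)
    (hpp : polar Q p p' = 0) (hep : polar Q e p = 0) (h3 : polar Q e' p ≠ 0)
    (h4 : polar Q p' e ≠ 0) : ∃ k ∈ G, ∃ a : F, k.1 e = a • p := by
  have := Unitary.finite_linearEquiv (F := F) (V := V)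
  obtain ⟨r, hr⟩ := CharP.exists F
  have : Fact r.Prime := ⟨CharP.char_is_prime F r⟩
  have key : ∀ (a b a' : V), Q a = 0 → polar Q a a' = 0 → polar Q a b = 0 → polar Q a' b ≠ 0 →
      a ≠ 0 → ∀ w, w ≠ 0 → w ∈ Submodule.span F {a, b} → (eich Q a a').1 w ∈ F ∙ w →
      F ∙ w = F ∙ a := by
    intro a b a' ha haa hab hab' ha0 w hw0 hw h3
    obtain ⟨s, t, rfl⟩ := Submodule.mem_span_pair.mp hw
    by_cases ht : t = 0
    · subst ht
      rw [zero_smul, add_zero] at hw0 ⊢
      exact Submodule.span_singleton_smul_eq (left_ne_zero_of_smul hw0).isUnit a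
    · rw [eich_apply_of_perp ha haa (by simp [polar_add_right, polar_self', ha, hab]),
        Submodule.add_mem_iff_right _ (Submodule.mem_span_singleton_self _),
        Submodule.smul_mem_iff _ (by
          simpa [polar_add_right, polar_comm Q a' a, haa, ht] using hab')] at h3
      obtain ⟨c, hc⟩ := Submodule.mem_span_singleton.mp h3
      have hc0 : c ≠ 0 := by rintro rfl; exact ha0 (by rw [← hc, zero_smul])
      conv_rhs => rw [← hc]
      exact (Submodule.span_singleton_smul_eq hc0.isUnit _).symm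
  have he0 : e ≠ 0 := by rintro rfl; simp at h4
  have hp0 : p ≠ 0 := by rintro rfl; simp at h3
  have hsm : ∀ (g : G) (w : V), g • (F ∙ w) = F ∙ g.1.1 w := fun g w => by
    rw [Subgroup.smul_def, Subgroup.smul_def, Submodule.smul_span, Set.smul_set_singleton]; rfl
  have hG' : ∀ g : G, g.1.1 e ∈ Submodule.span F {e, p} := fun g =>
    apply_mem_of_mem_stab (hG g.2) (Submodule.subset_span (by simp))
  obtain ⟨g, hg⟩ := Unitary.exists_fixed_in_orbit (G := G) (p := r) (s := ⟨_, h1⟩) (t := ⟨_, h2⟩)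
    (Subtype.ext (eich_pow_char r e e')) (Subtype.ext (eich_pow_char r p p')) (x := F ∙ e)
    (by rw [hsm, eich_apply_self he hee]) (fun g hg => by
      rw [hsm, hsm] at hg
      rw [hsm]
      exact key e p e' he hee hep h3 he0 _ (by simpa using he0) (hG' g)
        (hg ▸ Submodule.mem_span_singleton_self _))
  rw [hsm, hsm] at hg
  have := key p e p' hp hpp (by rwa [polar_comm]) h4 hp0 _ (by simpa using he0)
    (Set.pair_comm e p ▸ hG' g) (hg ▸ Submodule.mem_span_singleton_self _)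
  obtain ⟨a, ha⟩ := Submodule.mem_span_singleton.mp
    (this ▸ Submodule.mem_span_singleton_self _ : g.1.1 e ∈ F ∙ p)
  exact ⟨g, g.2, a, ha.symm⟩

namespace RS

variable {τ : F ≃+* F} {T : AddMonoid.End V} (R : RS Q τ T) [Finite F] [FiniteDimensional F V]
  (hQ : ND Q) (hn : 5 ≤ finrank F V) {K : Subgroup (O Q)}
  (hH : (ratStab F T).subgroupOf (O Q) ⊓ commutator (O Q) ≤ K)
include R hQ hn hH

omit [Finite F] in
theorem eich_mem {e x : V} (he : T e = e) (hx : T x = x) : eich Q e x ∈ K :=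
  hH ⟨mem_ratStab_of_comm (R.eich_comm he hx), eich_mem_commutator hQ (not_exc_of_five_le hn) _ _⟩

omit [Finite F] in
theorem step {e w u z : V} (hw : w ∈ AE K e) (hu : T u = u) (hz : T z = z) (hu0 : Q u = 0)
    (huz : polar Q u z = 0) (heu : polar Q e u = 0) (hez : polar Q e z = 0) :
    (polar Q z w - Q z * polar Q u w) • u - polar Q u w • z ∈ AE K e := by
  have := sub_mem (apply_mem_AE (R.eich_mem hQ hn hH hu hz) (eich_apply_of_perp'
    (by rwa [polar_comm]) (by rwa [polar_comm])) hw) hw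
  rw [eich_apply hu0 huz] at this
  convert this using 1; (module)

omit hH in
theorem exists_frame {e f : V} (hh : IsHyp Q e f) (he : T e = e) (hf : T f = f) {u : V}
    (hu : u ∈ hperp Q e f) (hT : T u = u) (hu0 : Q u = 0) (h0 : u ≠ 0) :
    ∃ u' ∈ hperp Q e f, T u' = u' ∧ IsHyp Q u u' ∧ ∀ c, τ c = c →
      ∃ z ∈ hperp Q e f ⊓ hperp Q u u', ∃ z' ∈ hperp Q e f ⊓ hperp Q u u',
        T z = z ∧ T z' = z' ∧ polar Q z z' = c := by
  obtain ⟨u', h1, h2, h3⟩ := R.exists_isHyp hQ (R.inv_span (s := {e, f}) (by simp [he, hf])) hu0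
    hT (fun hm => h0 ((nd_restrict_iff_disjoint.1 hh.nd_span).le_bot ⟨hm, hu⟩)) hu
  refine ⟨u', h1, h2, h3, fun c hc => R.exists_pair (W := hperp Q e f ⊓ hperp Q u u')
    (fun w hw => ⟨R.inv_hperp he hf w hw.1, R.inv_hperp hT h2 w hw.2⟩)
    (nd_inf_hperp (hh.nd_hperp hQ) hu h1 h3) (fun hb => ?_) hc⟩
  have h4 := finrank_le_inf_perp hQ (hperp Q e f) (Submodule.span F {u, u'})
  have h5 := hh.finrank_hperp hQ
  have h6 := h3.finrank_span
  rw [show hperp Q e f ⊓ perp Q (Submodule.span F {u, u'}) = ⊥ from hb, finrank_bot] at h4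
  omega

theorem form_mem_RE {e f : V} (hh : IsHyp Q e f) (he : T e = e) (hf : T f = f) {u : V}
    (hu : u ∈ hperp Q e f) (hT : T u = u) (hu0 : Q u = 0) {w : V} (hw : w ∈ AE K e) :
    polar Q u w ∈ RE T K e := by
  by_cases h0 : u = 0
  · simp [h0]
  obtain ⟨u', h1, h2, h3, h4⟩ := R.exists_frame hQ hn hh he hf hu hT hu0 h0
  have L : ∀ {u u' w : V}, u ∈ hperp Q e f → T u = u → Q u = 0 → w ∈ AE K e → ∀ c,
      (∃ z ∈ hperp Q e f ⊓ hperp Q u u', ∃ z' ∈ hperp Q e f ⊓ hperp Q u u',
        T z = z ∧ T z' = z' ∧ polar Q z z' = c) → (polar Q u w * c) • u ∈ AE K e := by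
    rintro u u' w hu hT hu0 hw c ⟨z, hz, z', hz', h1, h2, rfl⟩
    have A := fun z (hz : z ∈ hperp Q e f ⊓ hperp Q u u') h =>
      R.step hQ hn hH hw hT h hu0 (mem_hperp.1 hz.2).1 (mem_hperp.1 hu).1 (mem_hperp.1 hz.1).1
    have := sub_mem (add_mem (A z hz h1) (A z' hz' h2))
      (A _ (add_mem hz hz') (by rw [map_add, h1, h2]))
    rw [Orth.Q_add, polar_add_left] at this
    convert this using 1; (module)
  set θ := polar Q u w
  have A : ∀ c, τ c = c → (θ * c) • u ∈ AE K e := fun c hc => L hu hT hu0 hw c (h4 c hc)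
  have A1 : θ • u ∈ AE K e := by simpa using A 1 (map_one τ)
  have B : ∀ c, τ c = c → (θ * c) • u' ∈ AE K e := fun c hc => by
    simpa [h3.polar_eq'] using L (u' := u) h1 h2 h3.right A1 c (hperp_comm (Q := Q) u u' ▸ h4 c hc)
  intro x hx hex
  have h5 := hh.hproj_mem x
  set y := hproj Q e f x with hy
  have hTy : T y = y := by
    rw [hy, hproj, map_sub, map_sub, hx, R.fix_smul (R.tau_polar hf hx) he,
      R.fix_smul (R.tau_polar he hx) hf]
  have h6 : hproj Q u u' y ∈ hperp Q e f :=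
    sub_mem (sub_mem h5 (Submodule.smul_mem _ _ hu)) (Submodule.smul_mem _ _ h1)
  have h7 := mem_hperp.1 (h3.hproj_mem y)
  set z := hproj Q u u' y with hz
  have hTz : T z = z := by
    rw [hz, hproj, map_sub, map_sub, hTy, R.fix_smul (R.tau_polar h2 hTy) hT,
      R.fix_smul (R.tau_polar hT hTy) h2]
  have C := R.step hQ hn hH A1 h2 hTz h3.right h7.2 (mem_hperp.1 h1).1 (mem_hperp.1 h6).1
  rw [polar_smul_right', polar_smul_right', polar_comm Q z u, h7.1, h3.polar_eq'] at C
  have e1 := hproj_add_eq (Q := Q) e f x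
  have e2 := hproj_add_eq (Q := Q) u u' y
  rw [hex, ← hy, ← e2, ← hz] at e1
  have := add_mem (add_mem (smul_self_mem_AE (K := K) hh.left (θ * polar Q f x))
    (A _ (R.tau_polar h2 hTy))) (sub_mem (sub_mem (B _ (R.tau_polar hT hTy)) C)
      (B _ (R.tau_Q hTz)))
  convert this using 1
  conv_lhs => rw [← e1]
  (module)

theorem RE_le {e e' : V} (he : Q e = 0) (he' : Q e' = 0) (hT : T e = e) (hT' : T e' = e')
    (h0 : e ≠ 0) (h0' : e' ≠ 0) : RE T K e ≤ RE T K e' := fun θ hθ x hx hex => by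
  obtain ⟨p, z, h1, h2, c, h3, h4, h5⟩ := R.exists_map hQ (by omega) he he' hT hT' h0 h0'
  obtain ⟨y, rfl⟩ := (eich Q p z).1.surjective x
  have hy : T y = y := (eich Q p z).1.injective (by rw [← R.eich_comm h1 h2, hx])
  have := conj_mem_AE he (R.eich_mem hQ hn hH h1 h2) h4 h5 (hθ (c⁻¹ • y)
    (R.fix_smul (by rw [map_inv₀, h3]) hy) (by
      rw [polar_smul_right', ← O.map_polar (eich Q p z), h5, polar_smul_left', hex]; simp))
  rwa [map_smul, map_smul, smul_comm θ, smul_smul, mul_inv_cancel₀ h4, one_smul] at this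

theorem fullAt_of_RE {e : V} (he : Q e = 0) (hT : T e = e) (h0 : e ≠ 0) {θ : F}
    (hθ : θ ∈ RE T K e) (hθ' : τ θ ≠ θ) : FullAt K ⊤ e := by
  obtain ⟨f, hf, hh⟩ := R.exists_partner hQ he hT h0
  obtain ⟨u, hu, hTu, hu0, h1⟩ := R.exists_iso (R.inv_hperp hT hf) (Z := ⊥)
    (by have := hh.finrank_hperp hQ; simp; omega)
  obtain ⟨u', h2, h3, h4, h5⟩ := R.exists_frame hQ hn hh hT hf hu hTu hu0 h1
  obtain ⟨x, hx, y, hy, hTx, hTy, hxy⟩ := h5 1 (map_one τ)
  have one : ∀ a, τ a = a → a ∈ RE T K e := fun a ha x h1 h2 =>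
    ⟨by simp [h2], R.eich_mem hQ hn hH hT (R.fix_smul ha h1)⟩
  let S : Subring F :=
    { RE T K e with
      one_mem' := one 1 (map_one τ)
      mul_mem' := fun {a b} ha hb => by
        have h6 := R.RE_le hQ hn hH he hu0 hT hTu h0 h1 ha x hTx (mem_hperp.1 hx.2).1
        have h7 := hb y hTy (mem_hperp.1 hy.1).1
        have h8 := sub_mem (apply_mem_AE h6.2 (eich_apply_of_perp'
          (by rw [polar_comm]; exact (mem_hperp.1 hu).1)
          (by rw [polar_comm]; simp [(mem_hperp.1 hx.1).1])) h7) h7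
        rw [eich_apply_of_perp hu0 h6.1 (by simp [(mem_hperp.1 hy.2).1])] at h8
        have := R.form_mem_RE hQ hn hH hh hT hf h2 h3 h4.right h8
        simpa [hxy, h4.polar_eq', mul_comm] using this }
  have hS := Unitary.subring_eq_top_of_prime R.prime S one hθ hθ'
  let Z : Submodule F V :=
    { carrier := {w | ∀ t : F, t • w ∈ AE K e}
      add_mem' := fun {a b} ha hb t => by rw [smul_add]; exact add_mem (ha t) (hb t)
      zero_mem' := fun t => by simp
      smul_mem' := fun c a ha t => by rw [smul_smul]; exact ha _ }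
  have hZ : perp Q (F ∙ e) ≤ Z := by
    by_contra hne
    obtain ⟨u, h1, h2, h3⟩ := R.exists_fixed_notMem
      (R.inv_perp (R.inv_span (s := {e}) (by simpa using hT))) hne
    refine h3 fun t => ?_
    have : t ∈ S := hS ▸ Subring.mem_top _
    exact this u h2 (mem_perp_singleton.mp h1)
  exact fullAt_iff.2 fun w _ _ hw => by simpa using (hZ (mem_perp_singleton.mpr hw) 1).2

variable (hK' : ¬ commutator (O Q) ≤ K)
include hK'

/-- In a proper overgroup the Eichler maps at rational points are rational. -/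
theorem fixed_of_mem_AE {e f : V} (hh : IsHyp Q e f) (hT : T e = e) (hf : T f = f) {w : V}
    (hw : w ∈ AE K e) (hw' : w ∈ hperp Q e f) : T w = w := by
  by_contra hne
  obtain ⟨u, a1, a2, a3, a4⟩ := R.exists_singular_polar_ne hQ (R.inv_hperp hT hf) (hh.nd_hperp hQ)
    (by have := hh.finrank_hperp hQ; omega) (y := T w - w) fun hm => hne (sub_eq_zero.1
      ((nd_restrict_iff_disjoint.1 (hh.nd_hperp hQ)).le_bot
        ⟨sub_mem (R.inv_hperp hT hf w hw') hw', hm⟩))
  have h1 := R.form_mem_RE hQ hn hH hh hT hf a1 a2 a3 hw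
  rw [polar_sub_right, R.polar_right a2, sub_ne_zero] at a4
  exact hK' (commutator_le_of_pair hQ (by omega) hh.left hh.right (by simp [hh.polar_eq])
    (R.fullAt_of_RE hQ hn hH hh.left hT hh.ne_zero h1 a4)
    (R.fullAt_of_RE hQ hn hH hh.right hf hh.symm.ne_zero
      (R.RE_le hQ hn hH hh.left hh.right hT hf hh.ne_zero hh.symm.ne_zero h1) a4))

variable (hK : K ≤ commutator (O Q))
include hK

/-- The stabiliser in a proper overgroup of a rational singular point is rational. -/
theorem mem_ratStab_of_stab {e : V} (he : Q e = 0) (hT : T e = e) (h0 : e ≠ 0) {m : O Q}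
    (hm : m ∈ K) {a : F} (hme : m.1 e = a • e) : m.1 ∈ ratStab F T := by
  obtain ⟨f, hf, hh⟩ := R.exists_partner hQ he hT h0
  have ha : a ≠ 0 := by rintro rfl; exact h0 (m.1.injective (by simpa using hme))
  have ha' : τ a ≠ 0 := (map_ne_zero τ).mpr ha
  have h1 : polar Q e (m.1 f) = a⁻¹ := by
    have := O.map_polar m e f
    rw [hme, polar_smul_left', hh.polar_eq] at this
    exact eq_inv_of_mul_eq_one_right this
  obtain ⟨z, hz, h2⟩ := hh.exists_eich_of_polar_ne (x := m.1 f) (by rw [O.map_Q, hh.right])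
    (by simpa [h1])
  have hz' := mem_hperp.1 hz
  set l := eich Q e z * m with hl
  have hle : l.1 e = a • e := by rw [hl, O.mul_apply, hme, map_smul, eich_apply_self he hz'.1]
  have hlf : l.1 f = a⁻¹ • f := by rw [hl, O.mul_apply, h2, h1]
  have hlU : ∀ w ∈ hperp Q e f, l.1 w ∈ hperp Q e f := fun w hw => by
    have h3 := O.map_polar l e w
    have h4 := O.map_polar l f w
    rw [hle, (mem_hperp.1 hw).1] at h3
    rw [hlf, (mem_hperp.1 hw).2] at h4
    exact mem_hperp.2 ⟨by simpa [ha] using h3, by simpa [ha] using h4⟩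
  set d := a / τ a with hd
  let Z : Submodule F V :=
    { carrier := {v | T (l.1 v) = d • l.1 (T v)}
      add_mem' := fun {a b} ha hb => by
        simp only [Set.mem_ofPred_eq, map_add, smul_add] at ha hb ⊢; rw [ha, hb]
      zero_mem' := by simp
      smul_mem' := fun c a ha => by
        simp only [Set.mem_ofPred_eq, map_smul, R.smul] at ha ⊢; rw [ha, smul_comm] }
  have hZ : hperp Q e f ≤ Z := by
    by_contra hne
    obtain ⟨u, h1, h2, h3⟩ := R.exists_fixed_notMem (R.inv_hperp hT hf) hne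
    refine h3 ?_
    have h4 := conj_mem_AE he hm ha hme (w := u)
      ⟨(mem_hperp.1 h1).1, R.eich_mem hQ hn hH hT h2⟩
    have h5 : polar Q e (m.1 u) = 0 := by simpa [ha] using h4.1
    have h6 := R.fixed_of_mem_AE hQ hn hH hK' hh hT hf (w := a • l.1 u) (by
      rw [hl, O.mul_apply, eich_apply_of_perp he hz'.1 h5, smul_add, smul_smul]
      exact add_mem h4 (smul_self_mem_AE he _)) (Submodule.smul_mem _ _ (hlU u h1))
    change T _ = d • l.1 (T u)
    rw [R.smul] at h6
    rw [h2, hd, div_eq_inv_mul, mul_smul, ← h6, smul_smul, inv_mul_cancel₀ ha', one_smul]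
  have hdd : d * d = 1 := by
    obtain ⟨u, hu, hu0⟩ := hh.exists_nonsingular hQ (by omega)
    have h2 := R.form (l.1 u)
    rw [hZ hu, Q_smul, O.map_Q, O.map_Q, R.form] at h2
    exact mul_right_cancel₀ ((map_ne_zero τ).2 hu0) (by rw [← pow_two, h2, one_mul])
  have hlT : l.1 ∈ ratStab F T := by
    refine ⟨d, div_ne_zero ha ha', fun v => ?_⟩
    obtain ⟨s, t, w, hw, rfl⟩ := hh.exists_decomp v
    have h3 : e ∈ Z := by
      change T _ = d • l.1 (T e)
      rw [hT, hle, R.smul, hT, smul_smul]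
      congr 1
      rw [hd] at hdd ⊢
      field_simp at hdd ⊢
      exact hdd.symm
    have h4 : f ∈ Z := by
      change T _ = d • l.1 (T f)
      rw [hf, hlf, R.smul, hf, smul_smul, map_inv₀, hd]
      congr 1
      field_simp
    exact add_mem (add_mem (Z.smul_mem _ h3) (Z.smul_mem _ h4)) (hZ hw)
  have hy : eich Q e z ∈ K := by
    simpa [hl] using mul_mem (hH (show l ∈ _ from ⟨hlT, mul_mem
      (eich_mem_commutator hQ (not_exc_of_five_le hn) _ _) (hK hm)⟩)) (inv_mem hm)
  have hTz := R.fixed_of_mem_AE hQ hn hH hK' hh hT hf ⟨hz'.1, hy⟩ hz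
  simpa [hl] using mul_mem (inv_mem (mem_ratStab_of_comm (R.eich_comm hT hTz))) hlT

theorem sub_mem_of_fix {e : V} (he : Q e = 0) (hT : T e = e) (h0 : e ≠ 0) {u z : V}
    (hx : eich Q u z ∈ K) (hu : Q u = 0) (huz : polar Q u z = 0) (hz : z ∉ F ∙ u)
    (h1 : polar Q u e = 0) (h2 : polar Q z e = 0) : T u ∈ Submodule.span F {u, z} := by
  have h3 := eich_apply_of_perp' h1 h2
  have hc := comm_of_mem_ratStab (R.mem_ratStab_of_stab hQ hn hH hK' hK he hT h0 hx (a := 1)
    (by rw [h3, one_smul])) h0 hT h3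
  obtain ⟨w, h4, h5⟩ := exists_perp_polar_eq hQ hz 1
  have := hc w
  rw [eich_apply_of_perp hu huz (mem_perp_singleton.1 h4), h5, one_smul, map_add,
    ← eq_sub_iff_add_eq'] at this
  rw [this]
  exact eich_sub_mem (Submodule.subset_span (by simp)) (Submodule.subset_span (by simp)) _

end RS

end Cfsg.Lib.OMax
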