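import Cfsg.Agent.Lib.OMax.Pair
import Cfsg.Agent.Lib.OMax.Rat2

/-!
# Orthogonal decompositions into isometric non-degenerate blocks: set-up
-/

set_option autoImplicit false

namespace Cfsg.Lib.OMax

open QuadraticMap Module Cfsg.Lib.Orth

variable {F V : Type*} [Field F] [AddCommGroup V] [Module F V] {Q : QuadraticForm F V}

theorem mem_stab_of_fixer [FiniteDimensional F V] (hQ : ND Q) {U X : Submodule F V} {g : O Q}
    (hg : g ∈ fixer Q (perp Q U)) (hX : U ≤ X) : g ∈ stab Q X :=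
  mem_stab_iff_mapsTo.2 fun x hx => by
    simpa using add_mem (hX (sub_mem_of_fixer hQ hg x)) hx

theorem nd_sup {U W : Submodule F V} (hU : ND (Q.restrict U)) (hW : ND (Q.restrict W))
    (h : W ≤ perp Q U) : ND (Q.restrict (U ⊔ W)) := by
  refine nd_restrict_iff.2 fun x hx hx' => ?_
  obtain ⟨u, hu, w, hw, rfl⟩ := Submodule.mem_sup.1 hx
  rw [nd_restrict_iff.1 hU u hu fun y hy => by
      simpa [polar_add_left, mem_perp'.1 (h hw) y hy] using hx' y (Submodule.mem_sup_left hy),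
    nd_restrict_iff.1 hW w hw fun y hy => by
      simpa [polar_add_left, mem_perp.1 (h hy) u hu] using hx' y (Submodule.mem_sup_right hy),
    add_zero]

/-- An orthogonal decomposition into pairwise isometric non-degenerate `k`-spaces. -/
structure DecStr (Q : QuadraticForm F V) {κ : Type*} (D : κ → Submodule F V) (k : ℕ) : Prop where
  nd : ND Q
  ndD : ∀ i, ND (Q.restrict (D i))
  orth : ∀ i j, i ≠ j → D j ≤ perp Q (D i)
  top : iSup D = ⊤
  dim : ∀ i, finrank F (D i) = k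
  iso : ∀ i j, ∃ g : O Q, ∀ x ∈ D i, g.1 x ∈ D j

namespace DecStr

variable {κ : Type*} {D : κ → Submodule F V} {k : ℕ} (S : DecStr Q D k)
include S

theorem orth' {i j : κ} (hij : i ≠ j) {u v : V} (hu : u ∈ D i) (hv : v ∈ D j) :
    polar Q u v = 0 := mem_perp.1 (S.orth i j hij hv) u hu

theorem eq_zero {i : κ} {v : V} (h1 : v ∈ D i) (h2 : v ∈ perp Q (D i)) : v = 0 :=
  (nd_restrict_iff_disjoint.1 (S.ndD i)).le_bot ⟨h1, h2⟩

theorem eq_of_mem {i j : κ} {v : V} (h0 : v ≠ 0) (h1 : v ∈ D i) (h2 : v ∈ D j) : i = j :=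
  by_contra fun h => h0 (S.eq_zero h1 (S.orth i j h h2))

theorem eq_zero_of_perp {v : V} (h : ∀ i, v ∈ perp Q (D i)) : v = 0 := by
  have : (⊤ : Submodule F V) ≤ perp Q (F ∙ v) := S.top ▸ iSup_le fun j x hx =>
    mem_perp_singleton.2 (mem_perp'.1 (h j) x hx)
  exact S.nd.eq_zero fun y => mem_perp_singleton.1 (this trivial)

theorem exists_polar_ne {i : κ} {v : V} (h1 : v ∈ D i) (h0 : v ≠ 0) :
    ∃ y ∈ D i, polar Q v y ≠ 0 := by
  by_contra! hc
  exact h0 (S.eq_zero h1 (mem_perp'.2 hc))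

variable [FiniteDimensional F V]

/-- The orthogonal projection to a block. -/
noncomputable def pr (i : κ) : V →ₗ[F] V := (D i).projection _ (isCompl_perp (S.ndD i))

theorem pr_mem (i : κ) (x : V) : S.pr i x ∈ D i := Submodule.projection_apply_mem _ x

theorem pr_of_mem {i : κ} {x : V} (hx : x ∈ D i) : S.pr i x = x :=
  Submodule.projection_apply_of_mem_left _ hx

theorem pr_eq_zero {i : κ} {x : V} : S.pr i x = 0 ↔ x ∈ perp Q (D i) :=
  Submodule.projection_apply_eq_zero_iff _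

theorem pr_of_ne {i j : κ} (h : i ≠ j) {x : V} (hx : x ∈ D j) : S.pr i x = 0 :=
  S.pr_eq_zero.2 (S.orth i j h hx)

@[simp] theorem pr_pr (i : κ) (x : V) : S.pr i (S.pr i x) = S.pr i x := S.pr_of_mem (S.pr_mem i x)

theorem pr_pr_ne {i j : κ} (h : i ≠ j) (x : V) : S.pr i (S.pr j x) = 0 :=
  S.pr_of_ne h (S.pr_mem j x)

theorem sub_pr_mem (i : κ) (x : V) : x - S.pr i x ∈ perp Q (D i) := S.pr_eq_zero.1 (by simp)

theorem polar_pr {i : κ} {y : V} (hy : y ∈ D i) (x : V) : polar Q y (S.pr i x) = polar Q y x := by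
  have := mem_perp.1 (S.sub_pr_mem i x) y hy
  rw [polar_sub_right] at this
  exact (sub_eq_zero.1 this).symm

theorem polar_pr' {i : κ} {y : V} (hy : y ∈ D i) (x : V) : polar Q (S.pr i x) y = polar Q x y := by
  rw [polar_comm, S.polar_pr hy, polar_comm]

theorem ext {x y : V} (h : ∀ i, S.pr i x = S.pr i y) : x = y :=
  sub_eq_zero.1 (S.eq_zero_of_perp fun i => S.pr_eq_zero.1 (by rw [map_sub, h, sub_self]))

theorem exists_pr_ne {x : V} (h : x ≠ 0) : ∃ i, S.pr i x ≠ 0 := by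
  by_contra! hc
  exact h (S.ext fun i => by simp [hc])

theorem mem_iff {i : κ} {x : V} : x ∈ D i ↔ ∀ j, j ≠ i → S.pr j x = 0 :=
  ⟨fun h j hj => S.pr_of_ne hj h, fun h => by
    rw [show x = S.pr i x from S.ext fun j => by
      by_cases hj : j = i
      · simp [hj]
      · rw [h j hj, S.pr_pr_ne hj]]
    exact S.pr_mem i x⟩

theorem perp_perp_eq (i : κ) : perp Q (perp Q (D i)) = D i := perp_perp S.nd _

theorem sum_pr [Fintype κ] (x : V) : ∑ i, S.pr i x = x := S.ext fun j => by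
  classical
  rw [map_sum, Finset.sum_eq_single j (fun i _ h => S.pr_pr_ne h.symm x) (by simp), S.pr_pr]

theorem polar_eq_sum [Fintype κ] (x y : V) :
    polar Q x y = ∑ i, polar Q (S.pr i x) (S.pr i y) := by
  conv_lhs => rw [← S.sum_pr x, polar_sum_left]
  exact Finset.sum_congr rfl fun i _ => (S.polar_pr (S.pr_mem i x) y).symm

theorem Q_pr_add (i : κ) (x : V) : Q x = Q (S.pr i x) + Q (x - S.pr i x) := by
  conv_lhs => rw [show x = S.pr i x + (x - S.pr i x) by abel]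
  rw [Q_add, mem_perp.1 (S.sub_pr_mem i x) _ (S.pr_mem i x), add_zero]

theorem Q_sum_pr (s : Finset κ) (x : V) : Q (∑ i ∈ s, S.pr i x) = ∑ i ∈ s, Q (S.pr i x) := by
  classical
  induction s using Finset.induction_on with
  | empty => simp
  | insert a s ha ih =>
    rw [Finset.sum_insert ha, Finset.sum_insert ha, Q_add, ih, polar_sum_right,
      Finset.sum_eq_zero fun i hi => S.orth' (by rintro rfl; exact ha hi) (S.pr_mem _ _)
        (S.pr_mem _ _), add_zero]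

theorem Q_eq_sum [Fintype κ] (x : V) : Q x = ∑ i, Q (S.pr i x) := by
  rw [← S.Q_sum_pr, S.sum_pr]

theorem exists_Q_pr_ne [Finite κ] {x : V} (h : Q x ≠ 0) : ∃ i, Q (S.pr i x) ≠ 0 := by
  have := Fintype.ofFinite κ
  by_contra! hc
  exact h (by rw [S.Q_eq_sum]; simp [hc])

theorem finrank_eq [Fintype κ] : finrank F V = Fintype.card κ * k := by
  classical
  let φ : V →ₗ[F] Π i, D i := LinearMap.pi fun i => (S.pr i).codRestrict _ (S.pr_mem i)
  have h1 : Function.Bijective φ := ⟨fun x y h => S.ext fun i =>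
    congrArg Subtype.val (congrFun h i), fun y => ⟨∑ i, y i, funext fun j => Subtype.ext (by
      change S.pr j _ = _
      rw [map_sum, Finset.sum_eq_single j (fun i _ h => S.pr_of_ne h.symm (y i).2) (by simp),
        S.pr_of_mem (y j).2])⟩⟩
  rw [(LinearEquiv.ofBijective φ h1).finrank_eq, Module.finrank_pi_fintype]
  simp [S.dim]

theorem mem_stab_of_fix {i : κ} {g : O Q} (hg : g ∈ fixer Q (perp Q (D i))) (j : κ) :
    g ∈ stab Q (D j) := by
  by_cases h : i = j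
  · exact mem_stab_of_fixer S.nd hg (h ▸ le_rfl)
  · exact fixer_le_stab _ fun x hx => hg x (S.orth i j h hx)

theorem mem_dstab_of_fix {i : κ} {g : O Q} (hg : g ∈ fixer Q (perp Q (D i))) : g ∈ dstab Q D :=
  mem_dstab_of_forall (S.mem_stab_of_fix hg)

omit S [FiniteDimensional F V] in
theorem refl_mem_fixer {U : Submodule F V} {b : V} (hb : b ∈ U) : refl Q b ∈ fixer Q (perp Q U) :=
  fun _ hx => refl_apply_of_perp (mem_perp.1 hx b hb)

omit S [FiniteDimensional F V] in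
theorem eich_mem_fixer {U : Submodule F V} {u z : V} (hu : u ∈ U) (hz : z ∈ U) :
    eich Q u z ∈ fixer Q (perp Q U) :=
  fun _ hx => eich_apply_of_perp' (mem_perp.1 hx u hu) (mem_perp.1 hx z hz)

theorem refl_mem_dstab {i : κ} {b : V} (hb : b ∈ D i) : refl Q b ∈ dstab Q D :=
  S.mem_dstab_of_fix (refl_mem_fixer hb)

theorem pr_apply_of_fix {i j : κ} {g : O Q} (hg : g ∈ fixer Q (perp Q (D i))) (h : j ≠ i) (x : V) :
    S.pr j (g.1 x) = S.pr j x := by
  have := S.pr_of_ne h (sub_mem_of_fixer S.nd hg x)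
  rwa [map_sub, sub_eq_zero] at this

theorem pr_apply_of_stab {i : κ} {g : O Q} (hg : g ∈ stab Q (D i)) (x : V) :
    S.pr i (g.1 x) = g.1 (S.pr i x) := by
  have h1 := S.pr_eq_zero.2 (apply_mem_of_mem_stab (stab_le_stab_perp _ hg) (S.sub_pr_mem i x))
  rwa [map_sub, map_sub, S.pr_of_mem (apply_mem_of_mem_stab hg (S.pr_mem i x)), sub_eq_zero] at h1

theorem map_eq {i j : κ} {g : O Q} (h : ∀ x ∈ D i, g.1 x ∈ D j) :
    (D i).map (g.1 : V →ₗ[F] V) = D j :=
  Submodule.eq_of_le_of_finrank_eq (by rintro _ ⟨x, hx, rfl⟩; exact h x hx)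
    (by rw [LinearEquiv.finrank_map_eq, S.dim, S.dim])

theorem inv_mem {i j : κ} {g : O Q} (h : ∀ x ∈ D i, g.1 x ∈ D j) {y : V} (hy : y ∈ D j) :
    (g⁻¹).1 y ∈ D i := by
  obtain ⟨x, hx, rfl⟩ := (S.map_eq h).ge hy
  simpa using hx

theorem mem_dstab_of_maps [Finite κ] (hk : k ≠ 0) {g : O Q} (h : ∀ i, ∃ j, ∀ x ∈ D i, g.1 x ∈ D j) :
    g ∈ dstab Q D := by
  choose f hf using h
  have h5 : Function.Injective f := fun i j hij => by
    obtain ⟨x, hx, h0⟩ := Submodule.exists_mem_ne_zero_of_ne_bot (p := D i) fun h => by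
      have := S.dim i
      rw [h, finrank_bot] at this; omega
    exact S.eq_of_mem h0 hx (O.inv_apply_apply g x ▸ S.inv_mem (hf j) (hij ▸ hf i x hx))
  exact mem_dstab_of_perm S.dim (Equiv.ofBijective f (Finite.injective_iff_bijective.mp h5)) hf

omit S [FiniteDimensional F V] in
theorem exists_maps {g : O Q} (hg : g ∈ dstab Q D) (i : κ) : ∃ j, ∀ x ∈ D i, g.1 x ∈ D j := by
  obtain ⟨π, hπ⟩ := mem_dstab.1 hg
  exact ⟨π i, fun x hx => (hπ i).le ⟨x, hx, rfl⟩⟩

/-- The decomposition moved by an isometry. -/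
theorem map (g : O Q) : DecStr Q (fun i => (D i).map (g.1 : V →ₗ[F] V)) k where
  nd := S.nd
  ndD i := nd_map (S.ndD i) g
  orth i j h := by rw [← O.map_perp]; exact Submodule.map_mono (S.orth i j h)
  top := by rw [← Submodule.map_iSup, S.top, Submodule.map_top, LinearEquiv.range]
  dim i := by rw [LinearEquiv.finrank_map_eq, S.dim]
  iso i j := by
    obtain ⟨h, hh⟩ := S.iso i j
    exact ⟨g * h * g⁻¹, by rintro _ ⟨x, hx, rfl⟩; exact ⟨_, hh x hx, by simp [O.mul_apply]⟩⟩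

/-- Swapping two blocks along a given isometry. -/
theorem exists_swap_of {i j : κ} (hij : i ≠ j) {φ : O Q} (h : ∀ x ∈ D i, φ.1 x ∈ D j) :
    ∃ g ∈ dstab Q D, (∀ x ∈ D i, g.1 x = φ.1 x) ∧ (∀ x ∈ D j, g.1 x = (φ⁻¹).1 x) ∧
      ∀ x ∈ perp Q (D i), x ∈ perp Q (D j) → g.1 x = x := by
  classical
  let f : V →ₗ[F] V := (φ.1 : V →ₗ[F] V) ∘ₗ S.pr i + ((φ⁻¹).1 : V →ₗ[F] V) ∘ₗ S.pr j +
    (LinearMap.id - S.pr i - S.pr j)
  have hf : ∀ x, f x = φ.1 (S.pr i x) + (φ⁻¹).1 (S.pr j x) + (x - S.pr i x - S.pr j x) :=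
    fun x => rfl
  have h1 : ∀ x, x - S.pr i x - S.pr j x ∈ perp Q (D i) := fun x =>
    S.pr_eq_zero.1 (by simp [S.pr_pr_ne hij])
  have h2 : ∀ x, x - S.pr i x - S.pr j x ∈ perp Q (D j) := fun x =>
    S.pr_eq_zero.1 (by simp [S.pr_pr_ne hij.symm])
  have key : ∀ a ∈ D i, ∀ b ∈ D j, ∀ x, Q (a + b + (x - S.pr i x - S.pr j x)) =
      Q a + Q b + Q (x - S.pr i x - S.pr j x) := fun a ha b hb x => by
    rw [Q_add, Q_add, polar_add_left, mem_perp.1 (h1 x) a ha, mem_perp.1 (h2 x) b hb,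
      S.orth' hij ha hb]; ring
  have h3 : ∀ x, Q (f x) = Q x := fun x => by
    rw [hf, add_comm (φ.1 _), key _ (S.inv_mem h (S.pr_mem j x)) _ (h _ (S.pr_mem i x)),
      O.map_Q, O.map_Q, add_comm (Q _) (Q _), ← key _ (S.pr_mem i x) _ (S.pr_mem j x)]
    congr 1; abel
  have a1 : ∀ x ∈ D i, f x = φ.1 x := fun x hx => by
    simp [hf, S.pr_of_mem hx, S.pr_of_ne hij.symm hx]
  have a2 : ∀ x ∈ D j, f x = (φ⁻¹).1 x := fun x hx => by
    simp [hf, S.pr_of_mem hx, S.pr_of_ne hij hx]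
  have a3 : ∀ x ∈ perp Q (D i), x ∈ perp Q (D j) → f x = x := fun x hx hx' => by
    simp [hf, S.pr_eq_zero.2 hx, S.pr_eq_zero.2 hx']
  refine ⟨O.ofLinear S.nd f h3, mem_dstab_of_perm S.dim (Equiv.swap i j) fun l x hx => ?_,
    a1, a2, a3⟩
  rw [O.ofLinear_apply]
  by_cases hi : l = i
  · subst hi; simpa [a1 x hx] using h x hx
  by_cases hj : l = j
  · subst hj; simpa [a2 x hx] using S.inv_mem h hx
  rwa [Equiv.swap_apply_of_ne_of_ne hi hj, a3 x (S.orth i l (Ne.symm hi) hx)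
    (S.orth j l (Ne.symm hj) hx)]

variable [Finite F] {K : Subgroup (O Q)} (hE : ¬ Exc Q) (hH : dstab Q D ⊓ commutator (O Q) ≤ K)
include hE hH

theorem full (i : κ) : Full K (D i) := fun _ hu _ hz =>
  hH ⟨S.mem_dstab_of_fix (eich_mem_fixer hu hz), eich_mem_commutator S.nd hE _ _⟩

omit hE in
theorem refl_mul_mem {i j : κ} {a b : V} (ha : a ∈ D i) (hb : b ∈ D j) (h0 : Q a ≠ 0)
    (h : Q a = Q b) : refl Q a * refl Q b ∈ K :=
  hH ⟨mul_mem (S.refl_mem_dstab ha) (S.refl_mem_dstab hb), refl_mul_refl_mem_commutator S.nd h0 h⟩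

/-- Correcting determinant and spinor norm inside a block. -/
theorem exists_corr (hk : 2 ≤ k) {g : O Q} (hg : g ∈ dstab Q D) (l : κ) :
    ∃ r ∈ fixer Q (perp Q (D l)), g * r ∈ K := by
  obtain ⟨r, h1, h2⟩ := exists_mul_mem_commutator_of_nd S.nd hE (K := fixer Q (perp Q (D l)))
    (S.ndD l) (by rw [S.dim]; exact hk) (fun v hv => refl_mem_fixer hv) g
  exact ⟨r, h1, hH ⟨mul_mem hg (S.mem_dstab_of_fix h1), h2⟩⟩

/-- A full subspace properly containing two blocks (or one block of dimension at least three)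
generates everything. -/
theorem commutator_le_of_full (hk : 2 ≤ k)
    (h2 : k = 2 → ∀ i, ¬ (Nat.card F ≤ 3 ∧ ∃ e ∈ D i, e ≠ 0 ∧ Q e = 0)) {i j : κ}
    (h3 : 3 ≤ finrank F ↥(D i ⊔ D j)) {X : Submodule F V} (hX : Full K X) (hi : D i ≤ X)
    (hj : D j ≤ X) {x : V} (hx : x ∈ X) (hx' : x ∉ D i ⊔ D j) : commutator (O Q) ≤ K := by
  have hU : ND (Q.restrict (D i ⊔ D j)) := by
    by_cases h : i = j
    · subst h; rw [sup_idem]; exact S.ndD i
    · exact nd_sup (S.ndD i) (S.ndD j) (S.orth i j h)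
  obtain ⟨e, he⟩ := exists_good hU h3
  obtain ⟨M, h4, hM⟩ := hX.exists_maxFull (he.mono (sup_le hi hj))
  have hUM := (sup_le hi hj).trans h4
  have key : ∀ g ∈ dstab Q D, g ∈ stab Q (D i) → g ∈ stab Q (D j) → g ∈ stab Q M :=
    fun g hg g1 g2 => by
      obtain ⟨r, r1, r2⟩ := S.exists_corr hE hH hk hg i
      refine ((stab Q M).mul_mem_cancel_right (mem_stab_of_fixer S.nd r1 (hi.trans h4))).1
        (hM.mem_stab he hUM r2 (mem_stab.2 ?_))
      rw [Submodule.map_sup, mem_stab.1 (mul_mem g1 (S.mem_stab_of_fix r1 i)),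
        mem_stab.1 (mul_mem g2 (S.mem_stab_of_fix r1 j))]
  have key' : ∀ l, ∀ g ∈ fixer Q (perp Q (D l)), g ∈ stab Q M := fun l g hg =>
    key g (S.mem_dstab_of_fix hg) (S.mem_stab_of_fix hg i) (S.mem_stab_of_fix hg j)
  have irr : ∀ l, M ≤ perp Q (D l) ∨ D l ≤ M := fun l => by
    by_cases hk2 : k = 2
    · exact (small_irred (S.ndD l) (by rw [S.dim, hk2]) (fun h => h2 hk2 l ⟨h.1, h.2.2⟩)
        fun b hb hb0 => mem_or_mem_perp hb0 (key' l _ (refl_mem_fixer hb))).symm.imp_left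
          le_perp_comm.1
    · exact le_perp_or_le (S.ndD l) (by rw [S.dim]; omega) fun u hu z hz x hx =>
        apply_mem_of_mem_stab (key' l _ (eich_mem_fixer hu hz)) hx
  obtain ⟨l, l1, l2, l3⟩ : ∃ l, l ≠ i ∧ l ≠ j ∧ D l ≤ M := by
    by_contra! hc
    refine hx' ?_
    rw [show x = S.pr i x + S.pr j (x - S.pr i x) from S.ext fun l => ?_]
    · exact add_mem (Submodule.mem_sup_left (S.pr_mem _ _)) (Submodule.mem_sup_right (S.pr_mem _ _))
    by_cases h1 : l = j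
    · subst h1; simp
    rw [map_add, S.pr_pr_ne h1, add_zero]
    by_cases h2 : l = i
    · simp [h2]
    · rw [S.pr_pr_ne h2, S.pr_eq_zero.2 ((irr l).resolve_right (hc l h2 h1) (h4 hx))]
  have h5 : M = ⊤ := eq_top_iff.2 (S.top ▸ iSup_le fun m => by
    by_cases m1 : m = i
    · exact m1 ▸ hi.trans h4
    by_cases m2 : m = j
    · exact m2 ▸ hj.trans h4
    by_cases m3 : l = m
    · exact m3 ▸ l3
    obtain ⟨φ, hφ⟩ := S.iso l m
    obtain ⟨g, g1, g2, -, g3⟩ := S.exists_swap_of m3 hφ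
    have g4 : ∀ p, p ≠ l → p ≠ m → g ∈ stab Q (D p) := fun p p1 p2 => fixer_le_stab _
      fun y hy => g3 y (S.orth _ _ p1.symm hy) (S.orth _ _ p2.symm hy)
    rw [← S.map_eq (g := g) fun y hy => (g2 y hy).symm ▸ hφ y hy,
      ← mem_stab.1 (key g g1 (g4 i l1.symm (Ne.symm m1)) (g4 j l2.symm (Ne.symm m2)))]
    exact Submodule.map_mono l3)
  exact (h5 ▸ hM.full).commutator_le S.nd (h3.trans (Submodule.finrank_le _))

end DecStr

end Cfsg.Lib.OMax
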