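import Cfsg.Agent.Lib.OMax.Dec2B

/-!
# Orthogonal decompositions into planes: overgroups with new reflections
-/

set_option autoImplicit false

namespace Cfsg.Lib.OMax

open QuadraticMap Module Cfsg.Lib.Orth Finset

variable {F V : Type*} [Field F] [AddCommGroup V] [Module F V] {Q : QuadraticForm F V}
  {K : Subgroup (O Q)}

theorem exists_fixer_map (h2 : (2 : F) ≠ 0) {U : Submodule F V} {x y : V} (hx : x ∈ U) (hy : y ∈ U)
    (h0 : Q x ≠ 0) (h : Q x = Q y) : ∃ r ∈ fixer Q (perp Q U), r.1 x = y := by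
  obtain ⟨v, hv, h1 | h1⟩ := exists_refl_map h2 hx hy h0 h
  · exact ⟨_, DecStr.refl_mem_fixer hv, h1⟩
  · exact ⟨_, mul_mem (DecStr.refl_mem_fixer hy) (DecStr.refl_mem_fixer hv), by
      rw [O.mul_apply, h1, map_neg, refl_apply_self (h ▸ h0), neg_neg]⟩

theorem exists_notMem_of_card {κ : Type*} [Fintype κ] (l : List κ) (h : l.length < Fintype.card κ) :
    ∃ i, i ∉ l := by
  classical
  by_contra! hc
  exact absurd ((card_le_card (s := univ) (t := l.toFinset) fun i _ => by simp [hc]).trans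
    l.toFinset_card_le) (by simpa)

namespace DecStr

variable {κ : Type*} {D : κ → Submodule F V} [FiniteDimensional F V] {k : ℕ}

theorem exists_blockwise (S : DecStr Q D k) [Fintype κ] {r : κ → O Q}
    (hr : ∀ i, r i ∈ fixer Q (perp Q (D i))) :
    ∃ g ∈ dstab Q D, ∀ i x, S.pr i (g.1 x) = (r i).1 (S.pr i x) := by
  let f : V →ₗ[F] V := ∑ i, ((r i).1 : V →ₗ[F] V) ∘ₗ S.pr i
  have h0 := fun i x => apply_mem_of_mem_stab (S.mem_stab_of_fix (hr i) i) (S.pr_mem i x)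
  have h1 : ∀ i x, S.pr i (f x) = (r i).1 (S.pr i x) := fun i x => by
    rw [LinearMap.sum_apply, map_sum]
    exact (sum_eq_single i (fun j _ h => S.pr_of_ne h.symm (h0 j x)) (by simp)).trans
      (S.pr_of_mem (h0 i x))
  refine ⟨O.ofLinear S.nd f fun x => by simp [S.Q_eq_sum (f x), S.Q_eq_sum x, h1],
    mem_dstab_of_forall fun i => mem_stab_iff_mapsTo.2 fun x hx => S.mem_iff.2 fun j hj => ?_, h1⟩
  rw [O.ofLinear_apply, h1, S.pr_of_ne hj hx, map_zero]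

theorem exists_prod_refl (S : DecStr Q D k) {M : Type*} [CommGroup M] (χ : O Q →* M) {α : Type*}
    {ε : α → κ} (hε : Function.Injective ε) {c : α → V} (hc : ∀ i, c i ∈ D (ε i)) (T : Finset α) :
    ∃ g ∈ dstab Q D, χ g = ∏ i ∈ T, χ (refl Q (c i)) ∧
      ∀ x, x - g.1 x = ∑ i ∈ T, (x - (refl Q (c i)).1 x) := by
  classical
  induction T using Finset.induction_on with
  | empty => exact ⟨1, one_mem _, by simp, fun x => by simp [O.one_apply]⟩
  | insert a T ha ih =>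
    obtain ⟨g, h1, h2, h3⟩ := ih
    refine ⟨refl Q (c a) * g, mul_mem (S.refl_mem_dstab (hc a)) h1, by
      rw [map_mul, h2, prod_insert ha], fun x => ?_⟩
    rw [sum_insert ha, ← h3, O.mul_apply, show g.1 x = x - (x - g.1 x) by abel, map_sub,
      refl_apply_of_perp (x := x - g.1 x) (by
        rw [h3, polar_sum_right]
        exact sum_eq_zero fun i hi => by
          rw [refl_apply, sub_sub_cancel, polar_smul_right',
            S.orth' (hε.ne (by rintro rfl; exact ha hi)) (hc a) (hc i), mul_zero])]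
    abel

variable (S : DecStr Q D 2) [Finite F] (hb : ∀ i, Big Q (D i)) (hE : ¬ Exc Q)
  (hH : dstab Q D ⊓ commutator (O Q) ≤ K)
include S hb hE hH

/-- An Eichler transformation with short centre generates everything. -/
theorem commutator_le_of_short {e w : V} (he0 : e ≠ 0) (he : Q e = 0) {j l : κ} (hjl : j ≠ l)
    (hj : S.pr j e = 0) (hl : S.pr l e = 0) (hw : w ∈ AE K e) (hwj : S.pr j w ≠ 0) :
    commutator (O Q) ≤ K := by
  have hj' := S.pr_eq_zero.1 hj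
  have hl' := S.pr_eq_zero.1 hl
  obtain ⟨b, b1, a, a1, b2, a2, h2, h3⟩ := (hb j).exists_pair one_ne_zero
  have h4 := mul_mem (refl_mem_fixer (Q := Q) a1) (refl_mem_fixer b1)
  have h5 := sub_mem (apply_mem_AE (S.refl_mul_mem hH a1 b1 (by simp [a2]) (a2.trans b2.symm))
    (h4 e hj') hw) hw
  have h6 : ∀ x ∈ D j, x ∈ AE K e := fun x hx => (hb j).mem_of_refl (fun c hc y hy h6 => by
      obtain ⟨r, r1, r2⟩ := S.exists_corr hE hH le_rfl (S.refl_mem_dstab hc) l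
      have := apply_mem_AE r2 (by rw [O.mul_apply, r1 e hl', refl_mem_fixer hc e hj']) h6
      rwa [O.mul_apply, r1 y (S.orth _ _ hjl.symm hy)] at this)
    (sub_mem_of_fixer S.nd h4 w) h5 (fun h6 => hwj (by
      have h7 : (refl Q b).1 w = (refl Q a).1 w := by
        simpa [O.mul_apply] using congrArg (refl Q a).1 (sub_eq_zero.1 h6)
      simp only [refl_apply, a2, b2, inv_one, one_mul, sub_right_inj] at h7
      have h8 : polar Q a w = 0 := by_contra fun h8 =>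
        h2 ((Submodule.smul_mem_iff _ h8).1 (h7 ▸ Submodule.smul_mem _ _ (by simp)))
      have hb0 := ne_zero_of_Q_ne_zero (show Q b ≠ 0 by simp [b2])
      refine S.pr_eq_zero.2 (perp_anti (le_span_of_finrank_two (S.dim j) b1 a1 hb0 h2) ?_)
      simpa [mem_perp_pair, h8, hb0] using h7)) hx
  have h7 : ∀ x ∈ D l, x ∈ AE K e := fun x hx => by
    obtain ⟨φ, hφ⟩ := S.iso j l
    obtain ⟨g, g1, g2, -, g3⟩ := S.exists_swap_of hjl hφ
    obtain ⟨r, r1, r2⟩ := S.exists_corr hE hH le_rfl g1 j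
    obtain ⟨y, hy, rfl⟩ := (S.map_eq (g := g * r) (i := j) (j := l) fun y hy => by
      have := apply_mem_of_mem_stab (S.mem_stab_of_fix r1 j) hy
      rw [O.mul_apply, g2 _ this]; exact hφ _ this).ge hx
    exact apply_mem_AE r2 (by rw [O.mul_apply, r1 e hj', g3 e hj' hl']) (h6 y hy)
  have h8 : ∀ x ∈ D j ⊔ D l, x ∈ AE K e := fun x hx => by
    obtain ⟨y, hy, z, hz, rfl⟩ := Submodule.mem_sup.1 hx
    exact add_mem (h6 y hy) (h7 z hz)
  obtain ⟨i, hi⟩ := S.exists_pr_ne he0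
  obtain ⟨c, c1, c2, -, c3⟩ := (hb i).exists_third one_ne_zero (S.pr_mem i e) hi
  rw [S.polar_pr' c1] at c3
  obtain ⟨r, r1, r2⟩ := S.exists_corr hE hH le_rfl (S.refl_mem_dstab c1) j
  have h9 : (refl Q c * r).1 e = (refl Q c).1 e := by rw [O.mul_apply, r1 e hj']
  have h10 : refl Q c * r ∈ stab Q (D j ⊔ D l) := mem_stab.2 (by
    rw [Submodule.map_sup, mem_stab.1 (mul_mem (S.mem_stab_of_fix (refl_mem_fixer c1) j)
      (S.mem_stab_of_fix r1 j)), mem_stab.1 (mul_mem (S.mem_stab_of_fix (refl_mem_fixer c1) l)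
        (S.mem_stab_of_fix r1 l))])
  obtain ⟨f, hf⟩ : ∃ f, f = (refl Q c).1 e := ⟨_, rfl⟩
  have h11 : ∀ x ∈ D j ⊔ D l, x ∈ AE K f := fun x hx => by
    obtain ⟨y, hy, rfl⟩ := (mem_stab.1 h10).ge hx
    simpa using conj_mem_AE he r2 one_ne_zero (e' := f) (by rw [h9, hf, one_smul]) (h8 y hy)
  have hf0 : Q f = 0 := by rw [hf, O.map_Q, he]
  have hef : polar Q e f ≠ 0 := by
    simp [hf, refl_apply, polar_sub_right, polar_self', he, c2, c3, polar_comm Q c e]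
  have key : ∀ e f, Q e = 0 → polar Q e f ≠ 0 → (∀ x ∈ D j ⊔ D l, x ∈ AE K e) →
      FullAt K ((D j ⊔ D l) ⊔ Submodule.span F {e, f}) e := fun e f he hef h8 =>
    fullAt_iff.2 fun z hz _ h => by
      obtain ⟨x, hx, y, hy, rfl⟩ := Submodule.mem_sup.1 hz
      obtain ⟨s, t, rfl⟩ := Submodule.mem_span_pair.1 hy
      simp only [polar_add_right, polar_smul_right', (h8 x hx).1, polar_self', he, mul_zero,
        zero_add, mul_eq_zero, hef, or_false] at h
      simpa [h] using (add_mem (h8 x hx) (smul_self_mem_AE he s)).2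
  refine S.commutator_le_of_full hE hH le_rfl (fun _ i h => ?_) (i := j) (j := l) ?_
    (full_of_pair (Submodule.mem_sup_right (Submodule.subset_span (by simp)))
      (Submodule.mem_sup_right (Submodule.subset_span (by simp))) he hf0 hef (key e f he hef h8)
      (Set.pair_comm f e ▸ key f e hf0 (by rwa [polar_comm]) h11))
    (le_sup_left.trans le_sup_left) (le_sup_right.trans le_sup_left)
    (Submodule.mem_sup_right (Submodule.subset_span (Set.mem_insert _ _))) fun h => hef ?_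
  · obtain ⟨h, x, h1, h2, h3⟩ := h
    have := (hb i).le x h1 h2 h3
    omega
  · have h1 := Submodule.finrank_sup_add_finrank_inf_eq (D j) (D l)
    rw [((nd_restrict_iff_disjoint.1 (S.ndD j)).mono_right (S.orth j l hjl)).eq_bot, finrank_bot,
      S.dim, S.dim] at h1
    omega
  · rw [polar_comm, (h11 e h).1]

variable {i₀ : κ} {b : V} (hb0 : b ∈ D i₀) (hb1 : Q b ≠ 0)
include hb0 hb1

omit hb hE in
theorem rc_apply_mem {a : V} (h : RC K a b) {g : O Q} (hg : g ∈ dstab Q D) (hg' : g ∈ K) :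
    RC K (g.1 a) b :=
  (exists_maps hg i₀).elim fun _ hj => (h.map hg').trans (S.rc_of_mem hH (hj b hb0) hb0 hb1 (by simp))

omit hb in
theorem rc_apply {a : V} (h : RC K a b) {g : O Q} (hg : g ∈ dstab Q D)
    (hχ : classChar S.nd (Q b) g = 1) : RC K (g.1 a) b := by
  have key : ∀ g ∈ dstab Q D, dickson S.nd g = 1 → classChar S.nd (Q b) g = 1 → RC K (g.1 a) b :=
    fun g hg h1 h2 => S.rc_apply_mem hH hb0 hb1 h hg (hH ⟨hg, (mem_commutator_iff S.nd hE g).2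
      ⟨h1, classChar_of_dickson S.nd _ h1 ▸ h2⟩⟩)
  rcases Int.units_eq_one_or (dickson S.nd g) with h1 | h1
  · exact key g hg h1 hχ
  · simpa [O.mul_apply] using (key (refl Q b * g) (mul_mem (S.refl_mem_dstab hb0) hg)
      (by simp [dickson_refl S.nd hb1, h1]) (by simp [classChar_refl S.nd _ hb1, hχ])).refl_apply
        (RC.rfl' b)

omit hb in
theorem rc_of_zero {a : V} (h : RC K a b) {g : O Q} (hg : g ∈ dstab Q D) {l : κ}
    (hl : S.pr l a = 0) : RC K (g.1 a) b := by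
  obtain ⟨r, r1, r2⟩ := S.exists_corr hE hH le_rfl hg l
  simpa [O.mul_apply, r1 a (S.pr_eq_zero.1 hl)] using
    S.rc_apply_mem hH hb0 hb1 h (mul_mem hg (S.mem_dstab_of_fix r1)) r2

omit hb0 in
theorem commutator_le_of_sub {a a' : V} (h : RC K a b) (h' : RC K a' b) (h0 : a - a' ≠ 0)
    (h1 : Q (a - a') = 0) {j l : κ} (hjl : j ≠ l) (hj : S.pr j (a - a') = 0)
    (hl : S.pr l (a - a') = 0) (ha : S.pr j a ≠ 0) : commutator (O Q) ≤ K :=
  S.commutator_le_of_short hb hE hH h0 h1 hjl hj hl ((h.trans h'.symm).mem_AE (h.1 ▸ hb1) h1)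
    (by simp [h.1, hb1, ha])

variable [Fintype κ]

theorem commutator_le_of_two (ht : 4 ≤ Fintype.card κ) (h2 : (2 : F) = 0) {a : V} (h : RC K a b)
    {i j : κ} (hij : i ≠ j) (hi : S.pr i a ≠ 0) (hj : S.pr j a ≠ 0) : commutator (O Q) ≤ K := by
  obtain ⟨l, hl⟩ := exists_notMem_of_card [i, j] (by simp; omega)
  obtain ⟨m, hm⟩ := exists_notMem_of_card [i, j, l] (by simp; omega)
  simp only [List.mem_cons, List.not_mem_nil, or_false, not_or] at hl hm
  obtain ⟨φ, h3, h4⟩ : ∃ φ : O Q, (∀ x ∈ D i, φ.1 x ∈ D l) ∧ φ.1 (S.pr i a) ≠ S.pr l a := by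
    obtain ⟨φ, hφ⟩ := S.iso i l
    by_cases h3 : φ.1 (S.pr i a) = S.pr l a
    · obtain ⟨c, c1, c2, -, c3⟩ := (hb i).exists_third one_ne_zero (S.pr_mem i a) hi
      refine ⟨φ * refl Q c, fun x hx => hφ _ (apply_mem_of_mem_stab (refl_mem_stab_of_mem c1) hx),
        fun h4 => ?_⟩
      rw [← h3, O.mul_apply, φ.1.injective.eq_iff, refl_apply, polar_comm] at h4
      simp [c2, c3, ne_zero_of_Q_ne_zero (show Q c ≠ 0 by simp [c2])] at h4
    · exact ⟨φ, hφ, h3⟩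
  obtain ⟨g, g1, g2, g3, g4⟩ := S.exists_swap_of (Ne.symm hl.1) h3
  have h5 := sub_mem (S.pr_mem i a) (S.inv_mem h3 (S.pr_mem l a))
  have h6 : a - g.1 a = (S.pr i a - (φ⁻¹).1 (S.pr l a)) - φ.1 (S.pr i a - (φ⁻¹).1 (S.pr l a)) := by
    have := g4 (a - S.pr i a - S.pr l a) (S.pr_eq_zero.1 (by simp [S.pr_pr_ne (Ne.symm hl.1)]))
      (S.pr_eq_zero.1 (by simp [S.pr_pr_ne hl.1]))
    rw [map_sub, map_sub, g2 _ (S.pr_mem i a), g3 _ (S.pr_mem l a)] at this
    rw [map_sub, O.apply_inv_apply]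
    linear_combination (norm := module) -this
  refine S.commutator_le_of_sub hb hE hH hb1 h (S.rc_apply hE hH hb0 hb1 h g1 ?_) (fun h0 => h4 ?_)
    ?_ (Ne.symm hm.2.1) ?_ ?_ hj
  · simp [classChar, sqsign_of_isSquare (isSquare_of_two_eq_zero h2 _), spinor_of_two_eq_zero _ h2]
  · have := congrArg (S.pr l) (h6.symm.trans h0)
    rw [map_sub, S.pr_of_ne hl.1 h5, S.pr_of_mem (h3 _ h5), map_sub, O.apply_inv_apply] at this
    exact Eq.symm (by simpa [sub_eq_zero] using this)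
  · rw [h6, Q_sub, O.map_Q, S.orth' (Ne.symm hl.1) h5 (h3 _ h5), ← two_mul, h2]; simp
  · rw [h6, map_sub, S.pr_of_ne hij.symm h5, S.pr_of_ne (Ne.symm hl.2) (h3 _ h5), sub_zero]
  · rw [h6, map_sub, S.pr_of_ne hm.1 h5, S.pr_of_ne hm.2.2 (h3 _ h5), sub_zero]

theorem commutator_le_of_singular_pr (ht : 3 ≤ Fintype.card κ) (h2 : (2 : F) ≠ 0) {a : V}
    (h : RC K a b) {i j : κ} (hij : i ≠ j) (hi : S.pr i a ≠ 0) (hi' : Q (S.pr i a) = 0)
    (hj : S.pr j a ≠ 0) : commutator (O Q) ≤ K := by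
  obtain ⟨l, hl⟩ := exists_notMem_of_card [i, j] (by simp; omega)
  simp only [List.mem_cons, List.not_mem_nil, or_false, not_or] at hl
  obtain ⟨f, hf, h3, -⟩ := (hb i).exists_hyp (S.pr_mem i a) hi hi'
  obtain ⟨t, h4, h5⟩ := exists_sq_ne_one h2 (hb i).ne
  have h6 : hrot Q (S.pr i a) f (t ^ 2) ∈ dstab Q D :=
    mul_mem (S.refl_mem_dstab (sub_mem (S.pr_mem i a) ((D i).smul_mem _ hf)))
      (S.refl_mem_dstab (sub_mem (S.pr_mem i a) ((D i).smul_mem _ hf)))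
  have h7 : a - (hrot Q (S.pr i a) f (t ^ 2)).1 a = (1 - t ^ 2) • S.pr i a := by
    rw [h3.hrot_apply (pow_ne_zero 2 h4), ← S.polar_pr hf, ← S.polar_pr (S.pr_mem i a),
      h3.polar_left, h3.polar_eq']
    (module)
  refine S.commutator_le_of_sub hb hE hH hb1 h (S.rc_apply_mem hH hb0 hb1 h h6 (hH ⟨h6,
    (mem_commutator_iff S.nd hE _).2 ⟨h3.dickson_hrot S.nd (pow_ne_zero 2 h4), by
      simp [h3.spinor_hrot S.nd (pow_ne_zero 2 h4)]⟩⟩)) ?_ ?_ (Ne.symm hl.2) ?_ ?_ hj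
  all_goals simp [h7, Q_smul, hi, hi', sub_ne_zero.2 h5.symm, S.pr_pr_ne hij.symm, S.pr_pr_ne hl.1]

theorem exists_grow (h2 : (2 : F) ≠ 0) {a : V} (h : RC K a b)
    (ha : ∀ i, S.pr i a ≠ 0 → Q (S.pr i a) ≠ 0) {i j l : κ} (hij : i ≠ j) (hi : S.pr i a ≠ 0)
    (hj : S.pr j a ≠ 0) (hl : S.pr l a = 0) :
    ∃ a', RC K a' b ∧ S.pr l a' ≠ 0 ∧ ∀ m, S.pr m a ≠ 0 → S.pr m a' ≠ 0 := by
  have h1 : ∀ m, ∃ r ∈ fixer Q (perp Q (D m)), S.pr m a ≠ 0 →
      r.1 (S.pr m a) ∉ F ∙ S.pr m a ∧ polar Q (S.pr m a) (r.1 (S.pr m a)) ≠ 0 := fun m => by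
    by_cases hm : S.pr m a = 0
    · exact ⟨1, one_mem _, fun h => absurd hm h⟩
    obtain ⟨x, x1, x2, x3⟩ := (hb m).exists_third (ha m hm) (S.pr_mem m a) hm
    obtain ⟨r, r1, r2⟩ := exists_fixer_map h2 (S.pr_mem m a) x1 (ha m hm) x2.symm
    exact ⟨r, r1, fun _ => r2 ▸ x3⟩
  choose r r1 r2 using h1
  obtain ⟨g, g1, g2⟩ := S.exists_blockwise r1
  have hjl : j ≠ l := by rintro rfl; exact hj hl
  obtain ⟨φ, hφ⟩ := S.iso j l
  obtain ⟨s, s1, s2, s3, s4⟩ := S.exists_swap_of hjl hφ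
  have h3 : S.pr l (g.1 a) = 0 := by rw [g2, hl, map_zero]
  have h4 := S.rc_of_zero hE hH hb0 hb1 (S.rc_of_zero hE hH hb0 hb1 h g1 hl) s1 h3
  have h5 : s.1 (g.1 a) = g.1 a - S.pr j (g.1 a) + φ.1 (S.pr j (g.1 a)) := by
    rw [← s4 (g.1 a - S.pr j (g.1 a)) (S.sub_pr_mem j _)
      (S.pr_eq_zero.1 (by simp [h3, S.pr_pr_ne hjl.symm])), ← s2 _ (S.pr_mem j _), ← map_add]
    simp
  have h6 := hφ _ (S.pr_mem j (g.1 a))
  have h7 : S.pr j (s.1 (g.1 a)) = 0 := by simp [h5, S.pr_of_ne hjl h6]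
  have h8 : S.pr l (s.1 (g.1 a)) ≠ 0 := by
    rw [h5, map_add, map_sub, S.pr_of_mem h6, h3, S.pr_pr_ne hjl.symm, g2]
    simpa using hj
  have h9 : ∀ m, m ≠ j → S.pr m a ≠ 0 → S.pr m (s.1 (g.1 a)) = (r m).1 (S.pr m a) :=
    fun m hm hm' => by
      simp [h5, S.pr_pr_ne hm, S.pr_of_ne (show m ≠ l by rintro rfl; exact hm' hl) h6, ← g2]
  have key : ∀ x, RC K x b → S.pr j x = 0 → S.pr l x ≠ 0 → polar Q a x ≠ 0 →
      (∀ m, m ≠ j → S.pr m a ≠ 0 → S.pr m x ∉ F ∙ S.pr m a) →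
      ∃ a', RC K a' b ∧ S.pr l a' ≠ 0 ∧ ∀ m, S.pr m a ≠ 0 → S.pr m a' ≠ 0 :=
    fun x x1 x2 x3 x4 x5 => ⟨_, x1.refl_apply h, by simpa [refl_apply, hl], fun m hm => by
      by_cases hmj : m = j
      · simp [refl_apply, hmj, x2, x4, hj, h.1, hb1]
      · rw [refl_apply, map_sub, map_smul]
        exact fun h0 => x5 m hmj hm (sub_eq_zero.1 h0 ▸ Submodule.smul_mem _ _ (by simp))⟩
  generalize s.1 (g.1 a) = x at h4 h7 h8 h9
  by_cases h10 : polar Q a x = 0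
  swap
  · exact key x h4 h7 h8 h10 fun m hm hm' => h9 m hm hm' ▸ (r2 m hm').1
  have h11 : (refl Q (S.pr i x)).1 x = x - (2 : F) • S.pr i x := by
    have : Q (S.pr i x) ≠ 0 := by rw [h9 i hij hi, O.map_Q]; exact ha i hi
    rw [refl_apply, ← S.polar_pr (S.pr_mem i x), polar_self']
    congr 2; field_simp
  have hil : l ≠ i := by rintro rfl; exact hi hl
  refine key _ (S.rc_of_zero hE hH hb0 hb1 h4 (S.refl_mem_dstab (S.pr_mem i x)) h7)
    (by simp [h11, h7, S.pr_pr_ne hij.symm]) (by simpa [h11, S.pr_pr_ne hil]) ?_ fun m hm hm' => ?_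
  · rw [h11, polar_sub_right, h10, polar_smul_right', ← S.polar_pr' (S.pr_mem i x), h9 i hij hi]
    simpa [h2] using (r2 i hi).2
  · rw [h11, map_sub, map_smul]
    by_cases hmi : m = i
    · subst hmi
      rw [S.pr_pr, show S.pr m x - (2 : F) • S.pr m x = -S.pr m x by (module), neg_mem_iff,
        h9 m hm hm']
      exact (r2 m hm').1
    · rw [S.pr_pr_ne hmi, smul_zero, sub_zero, h9 m hm hm']
      exact (r2 m hm').1

theorem commutator_le_of_full_supp (ht : 7 ≤ Fintype.card κ) (h2 : (2 : F) ≠ 0) {a : V}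
    (h : RC K a b) (ha : ∀ i, Q (S.pr i a) ≠ 0) : commutator (O Q) ≤ K := by
  by_contra hc
  obtain ⟨ε⟩ := Function.Embedding.nonempty_of_card_le (α := Fin 7) (β := κ) (by simpa)
  let n : V → F := fun c => polar Q c a ^ 2 * (Q c)⁻¹
  let χ : V → ℤˣ := fun c => classChar S.nd (Q b) (refl Q c)
  have n0 : n 0 = 0 := by simp [n]
  have χ0 : χ 0 = 1 := by simp [χ, refl_of_singular]
  have P : ∀ c₀ ∈ D (ε 0), ∀ c₁ ∈ D (ε 1), ∀ c₂ ∈ D (ε 2), ∀ c₃ ∈ D (ε 3), ∀ c₄ ∈ D (ε 4),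
      n c₀ + (n c₁ + n c₂) + (n c₃ + n c₄) = 0 → χ c₀ * (χ c₁ * χ c₂) * (χ c₃ * χ c₄) = 1 →
      n c₀ = 0 ∧ n c₁ + n c₂ = 0 := fun c₀ h₀ c₁ h₁ c₂ h₂ c₃ h₃ c₄ h₄ hn hχ => by
    let c : Fin 7 → V := ![c₀, c₁, c₂, c₃, c₄, 0, 0]
    have hc' : ∀ i, c i ∈ D (ε i) := fun i => by fin_cases i <;> simp [c, *]
    obtain ⟨g, g1, g2, g3⟩ := S.exists_prod_refl (classChar S.nd (Q b)) ε.injective hc' univ
    have h3 : ∀ i, a - (refl Q (c i)).1 a ∈ D (ε i) := fun i => by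
      rw [refl_apply, sub_sub_cancel]; exact (D _).smul_mem _ (hc' i)
    have h4 : ∀ i, S.pr (ε i) (a - g.1 a) = a - (refl Q (c i)).1 a := fun i => by
      rw [g3, map_sum, sum_eq_single i (fun j _ hj => S.pr_of_ne (ε.injective.ne hj.symm) (h3 j))
        (by simp), S.pr_of_mem (h3 i)]
    have h5 : a - g.1 a = 0 := by_contra fun h5 => hc (S.commutator_le_of_sub hb hE hH hb1 h
      (S.rc_apply hE hH hb0 hb1 h g1 (by
        rw [g2, ← hχ]; simp [Fin.prod_univ_seven, c, χ, refl_of_singular, mul_assoc])) h5 (by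
        have : a - g.1 a = ∑ i ∈ univ.map ε, S.pr i (a - g.1 a) := by
          simp only [sum_map, h4]; exact g3 a
        rw [this, S.Q_sum_pr, ← hn]
        simp only [sum_map, h4, Q_sub_refl]
        simp [Fin.sum_univ_seven, c, n, add_assoc])
      (ε.injective.ne (show (5 : Fin 7) ≠ 6 by decide)) (by simp [h4, c, refl_of_singular, O.one_apply])
      (by simp [h4, c, refl_of_singular, O.one_apply]) (ne_zero_of_Q_ne_zero (ha _)))
    have h6 : ∀ i, n (c i) = 0 := fun i => by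
      simp only [n]; rw [← Q_sub_refl, ← h4, h5]; simp
    exact ⟨h6 0, by rw [show n c₁ = 0 from h6 1, show n c₂ = 0 from h6 2, add_zero]⟩
  have R : ∀ i j v, ∃ c ∈ D i, ∃ d ∈ D j, n c + n d = v := fun i j v => by
    obtain ⟨φ, a1, a2⟩ := (hb i).exists_param h2 (S.pr_mem i a) (ha i)
    obtain ⟨ψ, b1, b2⟩ := (hb j).exists_param h2 (S.pr_mem j a) (ha j)
    obtain ⟨x, y, h5⟩ := exists_sq_add_sq h2 a1 b1 v
    obtain ⟨c, c1, c2⟩ := a2 x
    obtain ⟨d, d1, d2⟩ := b2 y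
    exact ⟨c, c1, d, d1, by rw [← h5, ← c2, ← d2, S.polar_pr c1, S.polar_pr d1]⟩
  obtain ⟨c₀, c1, c2, -, c3⟩ := (hb (ε 0)).exists_third hb1 (S.pr_mem _ a)
    (ne_zero_of_Q_ne_zero (ha _))
  have h3 : n c₀ ≠ 0 := by simpa [n, c2, hb1, S.polar_pr' c1, polar_comm Q c₀] using c3
  have h4 : χ c₀ = 1 := by simp [χ, classChar_refl S.nd _ (c2 ▸ hb1 : Q c₀ ≠ 0), c2]
  have A : ∀ m : ℕ, ∃ c ∈ D (ε 1), ∃ d ∈ D (ε 2), n c + n d = m * n c₀ ∧ χ c * χ d = 1 := fun m => by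
    induction m with
    | zero => exact ⟨0, zero_mem _, 0, zero_mem _, by simp [n0], by simp [χ0]⟩
    | succ m ih =>
      obtain ⟨c, d1, d, d2, d3, d4⟩ := ih
      by_cases h0 : ((m + 1 : ℕ) : F) * n c₀ = 0
      · exact ⟨0, zero_mem _, 0, zero_mem _, by rw [n0, h0, add_zero], by simp [χ0]⟩
      obtain ⟨x, x1, y, y1, h5⟩ := R (ε 3) (ε 4) (-((m + 1 : ℕ) * n c₀))
      obtain ⟨z, z1, w, w1, h6⟩ := R (ε 1) (ε 2) ((m + 1 : ℕ) * n c₀)
      refine ⟨z, z1, w, w1, h6, ?_⟩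
      have a1 := mt (P c₀ c1 c d1 d d2 x x1 y y1 (by rw [d3, h5]; push_cast; ring)) fun h => h3 h.1
      have a2 := mt (P 0 (zero_mem _) z z1 w w1 x x1 y y1 (by rw [h6, h5, n0]; ring))
        fun h => h0 (h6 ▸ h.2)
      rw [h4, d4] at a1
      rw [χ0] at a2
      rcases Int.units_eq_one_or (χ z * χ w) with a3 | a3
      · exact a3
      · rcases Int.units_eq_one_or (χ x * χ y) with a4 | a4 <;> simp_all
  have := Fintype.ofFinite F
  obtain ⟨c, d1, d, d2, d3, d4⟩ := A (Fintype.card F - 1)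
  refine h3 (P c₀ c1 c d1 d d2 0 (zero_mem _) 0 (zero_mem _) ?_ (by simp [h4, d4, χ0])).1
  rw [d3, n0, Nat.cast_sub Fintype.card_pos, FiniteField.cast_card_eq_zero]
  simp

theorem commutator_le_of_rc_two (ht : 7 ≤ Fintype.card κ) {a : V} (h : RC K a b)
    (ha : ∀ i, a ∉ D i) : commutator (O Q) ≤ K := by
  classical
  have key : ∀ a, RC K a b → (∀ i, a ∉ D i) → ∀ i, ∃ j, i ≠ j ∧ S.pr j a ≠ 0 := fun a _ ha i => by
    simpa [S.mem_iff, eq_comm] using ha i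
  by_cases h2 : (2 : F) = 0
  · obtain ⟨i, -, hi⟩ := key a h ha i₀
    obtain ⟨j, hij, hj⟩ := key a h ha i
    exact S.commutator_le_of_two hb hE hH hb0 hb1 (by omega) h2 h hij hi hj
  by_contra hc
  have : Finite V := finite_of_finiteDimensional F V
  obtain ⟨a, ⟨h, ha⟩, hmax⟩ := Set.exists_max_image {a | RC K a b ∧ ∀ i, a ∉ D i}
    (fun a => (univ.filter fun i => S.pr i a ≠ 0).card) (Set.toFinite _) ⟨a, h, ha⟩
  have h3 : ∀ i, S.pr i a ≠ 0 → Q (S.pr i a) ≠ 0 := fun i hi h0 => by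
    obtain ⟨j, hij, hj⟩ := key a h ha i
    exact hc (S.commutator_le_of_singular_pr hb hE hH hb0 hb1 (by omega) h2 h hij hi h0 hj)
  refine hc (S.commutator_le_of_full_supp hb hE hH hb0 hb1 ht h2 h fun l => h3 l fun hl => ?_)
  obtain ⟨i, -, hi⟩ := key a h ha i₀
  obtain ⟨j, hij, hj⟩ := key a h ha i
  obtain ⟨a', h4, h5, h6⟩ := S.exists_grow hb hE hH hb0 hb1 h2 h h3 hij hi hj hl
  refine absurd (hmax a' ⟨h4, fun m hm => ?_⟩) (not_le.2 (card_lt_card ⟨fun m => by simpa using h6 m,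
    fun h7 => by simpa [h5, hl] using @h7 l⟩))
  by_cases him : i = m
  · exact h6 j hj (S.pr_of_ne (him ▸ hij.symm) hm)
  · exact h6 i hi (S.pr_of_ne him hm)

omit hb0 hb1 in
theorem max_planes (ht : 7 ≤ Fintype.card κ) : K ≤ dstab Q D ∨ commutator (O Q) ≤ K := by
  refine or_iff_not_imp_right.2 fun hc => S.le_dstab_of_big hb hH (fun g hg i j c hc1 h0 h1 => ?_)
    (by omega)
  refine S.mem_dstab_of_big hb h0 fun l d hd h2 => by_contra fun h3 => hc ?_
  exact S.commutator_le_of_rc_two hb hE hH hc1 h0 ht (((S.rc_of_mem hH hd hc1 h0 h2).map hg).trans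
    (S.rc_of_mem hH h1 hc1 h0 (by simp))) (not_exists.1 h3)

end DecStr

variable {ι : Type} [Fintype ι] [DecidableEq ι] {Q : QuadraticForm F (ι → F)}

theorem isMaximalIn_dec_two [Finite F] (hQ : ND Q) (hn : 13 ≤ Fintype.card ι) {t : ℕ}
    {D : Fin t → Submodule F (ι → F)} (hD : Geo.IsOrthogonalMDecomposition ⇑Q 2 D)
    (h3 : Nat.card F ≠ 3) (h4 : (∀ i, Geo.IsPlusTypeOn ⇑Q (D i)) → 7 ≤ Nat.card F) :
    Geo.IsMaximalIn (Geo.omegaGL ⇑Q) (Geo.decompositionStabilizer D ⊓ Geo.omegaGL ⇑Q) := by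
  have S := decStr_of hQ hD
  have h1 := S.finrank_eq
  have hE : ¬ Exc Q := not_exc_of_five_le (by simp; omega)
  simp only [Fintype.card_fin, finrank_fintype_fun_eq_card] at h1
  refine isMaximalIn_of mem_decompositionStabilizer_iff (S.not_commutator_le hE (by omega)
    (i := ⟨0, by omega⟩) (by simp; omega)) fun K hH _ => S.max_planes (fun i =>
      ⟨S.ndD i, S.dim i, h3, fun e he h0 h5 => h4 fun j => ?_⟩) hE hH (by simp; omega)
  obtain ⟨g, hg⟩ := S.iso i j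
  exact isPlusTypeOn_of_singular (S.dim j) (hg e he) (O.apply_ne_zero g h0) (by simpa)

theorem seven_le_card [Fintype F] (h : ¬ (Fintype.card F = 3 ∨ Fintype.card F = 2 ∨
    Fintype.card F = 4 ∨ Fintype.card F = 5)) : 7 ≤ Nat.card F := by
  have h1 := FiniteField.isPrimePow_card F
  have h2 := h1.two_le
  rw [Nat.card_eq_fintype_card]
  by_contra h3
  obtain h4 : Fintype.card F = 6 := by omega
  rw [h4] at h1
  exact absurd h1 (by decide)

theorem isMaximalIn_dec [Fintype F] (hQ : ND Q) (hn : 13 ≤ Fintype.card ι) {t k : ℕ}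
    {D : Fin t → Submodule F (ι → F)} (hD : Geo.IsOrthogonalMDecomposition ⇑Q k D) (hk : 2 ≤ k)
    (hex : ¬ ((k = 2 ∧ (Fintype.card F = 3 ∨ ((∀ i, Geo.IsPlusTypeOn ⇑Q (D i)) ∧
      (Fintype.card F = 2 ∨ Fintype.card F = 4 ∨ Fintype.card F = 5)))) ∨
      (k = 3 ∧ Fintype.card F = 3) ∨ (k = 4 ∧ Fintype.card F = 2 ∧ ∀ i, Geo.IsPlusTypeOn ⇑Q (D i)))) :
    Geo.IsMaximalIn (Geo.omegaGL ⇑Q) (Geo.decompositionStabilizer D ⊓ Geo.omegaGL ⇑Q) := by
  by_cases h2 : k = 2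
  · subst h2
    exact isMaximalIn_dec_two hQ hn hD (fun h => hex (by simp_all)) fun h =>
      seven_le_card fun h' => hex (by tauto)
  · exact isMaximalIn_dec_three hQ (by omega) hD (by omega) (fun h h' => hex (by simp_all))
      fun h => hex (by simp_all)

end Cfsg.Lib.OMax
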