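import Cfsg.Agent.Lib.OMax.Plane2

/-!
# Orthogonal decompositions into planes: overgroups without new reflections
-/

set_option autoImplicit false

namespace Cfsg.Lib.OMax

open QuadraticMap Module Cfsg.Lib.Orth Finset

variable {F V : Type*} [Field F] [AddCommGroup V] [Module F V] {Q : QuadraticForm F V}
  {K : Subgroup (O Q)}

theorem refl_mul_refl_sub_mem (a b x : V) :
    (refl Q a * refl Q b).1 x - x ∈ Submodule.span F {a, b} := by
  rw [O.mul_apply, refl_apply, refl_apply, sub_right_comm, sub_sub_cancel_left]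
  exact sub_mem (neg_mem (Submodule.smul_mem _ _ (Submodule.subset_span (by simp))))
    (Submodule.smul_mem _ _ (Submodule.subset_span (by simp)))

theorem exists_refl_mul_refl_sub [FiniteDimensional F V] (hQ : ND Q) {a b : V} (ha : Q a ≠ 0)
    (h : a ∉ F ∙ b) : ∃ x, (refl Q a * refl Q b).1 x - x = a := by
  obtain ⟨x, h1, h2⟩ := exists_perp_polar_eq hQ h (-Q a)
  exact ⟨x, by simp [O.mul_apply, refl_apply, mem_perp_singleton.1 h1, h2, ha]⟩

namespace DecStr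

variable {κ : Type*} {D : κ → Submodule F V} [FiniteDimensional F V] (S : DecStr Q D 2)
include S

theorem rank_two {a b : V} (ha : Q a ≠ 0) (h : a ∉ F ∙ b) (hy : refl Q a * refl Q b ∈ dstab Q D) :
    (∀ i, S.pr i a ∈ Submodule.span F {a, b}) ∨
      ∃ j l, a ∈ D j ⊔ D l ∧ (refl Q a * refl Q b).1 b = -b := by
  obtain ⟨y, hy'⟩ : ∃ y, y = refl Q a * refl Q b := ⟨_, rfl⟩
  have h1 : ∀ x, y.1 x - x ∈ Submodule.span F {a, b} := hy' ▸ refl_mul_refl_sub_mem a b
  rw [← hy'] at hy ⊢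
  by_cases h2 : ∀ i, y ∈ stab Q (D i)
  · obtain ⟨x, hx⟩ := exists_refl_mul_refl_sub S.nd ha h
    refine Or.inl fun i => ?_
    have := congrArg (S.pr i) hx
    rw [← hy', map_sub, S.pr_apply_of_stab (h2 i)] at this
    exact this ▸ h1 _
  push Not at h2
  obtain ⟨j, hj⟩ := h2
  obtain ⟨l, hl⟩ := exists_maps hy j
  obtain ⟨m, hm⟩ := exists_maps (Subgroup.inv_mem _ hy) j
  have hjl : j ≠ l := by rintro rfl; exact hj (mem_stab_iff_mapsTo.2 hl)
  have hjm : j ≠ m := by rintro rfl; exact hj (inv_mem_iff.1 (mem_stab_iff_mapsTo.2 hm))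
  have h3 : ∀ w ∈ Submodule.span F {a, b}, ∃ x ∈ D j, y.1 x - x = w := fun w hw => by
    let f := (((y.1 : V →ₗ[F] V) - LinearMap.id).codRestrict _ h1).domRestrict (D j)
    have h4 : Function.Injective f := (injective_iff_map_eq_zero _).2 fun x hx => by_contra fun h0 =>
      hjl (S.eq_of_mem (by simpa using h0) x.2
        ((sub_eq_zero.1 (congrArg Subtype.val hx) : y.1 x = x) ▸ hl x x.2))
    have h5 := LinearMap.finrank_le_finrank_of_injective h4
    obtain ⟨x, hx⟩ := (LinearMap.injective_iff_surjective_of_finrank_eq_finrank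
      (h5.antisymm ((finrank_span_pair_le a b).trans (S.dim j).ge))).1 h4 ⟨w, hw⟩
    exact ⟨x, x.2, congrArg Subtype.val hx⟩
  obtain ⟨x, hx, h4⟩ := h3 a (Submodule.subset_span (by simp))
  obtain ⟨z, hz, h5⟩ := h3 b (Submodule.subset_span (by simp))
  obtain ⟨w, hw, h6⟩ := h3 ((y⁻¹).1 z - z) (by simpa using neg_mem (h1 ((y⁻¹).1 z)))
  have h7 := congrArg (S.pr j) h6
  simp only [map_sub, S.pr_of_ne hjl (hl w hw), S.pr_of_ne hjm (hm z hz), S.pr_of_mem hw,
    S.pr_of_mem hz, zero_sub, neg_inj] at h7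
  refine Or.inr ⟨j, l, h4 ▸ sub_mem (Submodule.mem_sup_right (hl x hx)) (Submodule.mem_sup_left hx),
    ?_⟩
  rw [← h5, map_sub, show y.1 z = (y⁻¹).1 z by simpa [h7] using h6]
  simp [show (y⁻¹).1 z = y.1 z by simpa [h7] using h6.symm]

theorem exists_pr_eq_zero {a b : V} (ha : Q a ≠ 0) (h : a ∉ F ∙ b)
    (hy : refl Q a * refl Q b ∈ dstab Q D) {i j l : κ} (hij : i ≠ j) (hil : i ≠ l) (hjl : j ≠ l) :
    ∃ m, S.pr m a = 0 := by
  by_contra! hc
  rcases S.rank_two ha h hy with h1 | ⟨m, n, h1, -⟩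
  · have h2 : S.pr j a ∉ F ∙ S.pr i a := fun h2 => hij (S.eq_of_mem (hc j)
      ((Submodule.span_singleton_le_iff_mem _ _).2 (S.pr_mem i a) h2) (S.pr_mem j a))
    have h3 : 2 ≤ finrank F (Submodule.span F {S.pr i a, S.pr j a}) := by
      rw [Submodule.span_insert, finrank_sup_span_singleton' h2, finrank_span_singleton (hc i)]
    have h4 := Submodule.eq_of_le_of_finrank_le (Submodule.span_le.2 (show
      ({S.pr i a, S.pr j a} : Set V) ⊆ Submodule.span F {a, b} by simp [Set.insert_subset_iff, h1]))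
      ((finrank_span_pair_le a b).trans h3)
    obtain ⟨s, t, h5⟩ := Submodule.mem_span_pair.1 (h4.ge (h1 l))
    simpa [S.pr_pr_ne hil.symm, S.pr_pr_ne hjl.symm, (hc l).symm] using congrArg (S.pr l) h5
  · obtain ⟨x, hx, y, hy', rfl⟩ := Submodule.mem_sup.1 h1
    have key : ∀ p, p = m ∨ p = n := fun p => by
      by_contra! h2
      exact hc p (by rw [map_add, S.pr_of_ne h2.1 hx, S.pr_of_ne h2.2 hy', add_zero])
    rcases key i with a1 | a1 <;> rcases key j with a2 | a2 <;> rcases key l with a3 | a3 <;>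
      simp_all

theorem exists_mem_of_rot [Finite κ] {a b : V} (ha : Q a ≠ 0) (hb : Q b ≠ 0) (h : a ∉ F ∙ b)
    (hab : polar Q a b ≠ 0) (hy : refl Q a * refl Q b ∈ dstab Q D) :
    ∃ i, ∃ c ∈ D i, Q c ≠ 0 ∧ c ∈ Submodule.span F {a, b} := by
  rcases S.rank_two ha h hy with h1 | ⟨-, -, -, h1⟩
  · obtain ⟨i, hi⟩ := S.exists_Q_pr_ne ha
    exact ⟨i, _, S.pr_mem i a, hi, h1 i⟩
  · simp [O.mul_apply, refl_apply_self hb, refl_apply, ha, hab, ne_zero_of_Q_ne_zero ha] at h1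

variable [Finite F] (hb : ∀ i, Big Q (D i))

include hb in
theorem mem_dstab_of_big [Finite κ] {δ : F} (hδ : δ ≠ 0) {g : O Q}
    (h : ∀ i, ∀ c ∈ D i, Q c = δ → ∃ j, g.1 c ∈ D j) : g ∈ dstab Q D := by
  refine S.mem_dstab_of_maps two_ne_zero fun i => ?_
  obtain ⟨b, b1, c, c1, b2, c2, h1, h2⟩ := (hb i).exists_pair hδ
  obtain ⟨j, hj⟩ := h i b b1 b2
  obtain ⟨l, hl⟩ := h i c c1 c2
  obtain rfl : j = l := by_contra fun h3 => h2 (by simpa using S.orth' h3 hj hl)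
  refine ⟨j, fun x hx => ?_⟩
  obtain ⟨s, t, rfl⟩ := Submodule.mem_span_pair.1
    (le_span_of_finrank_two (S.dim i) b1 c1 (ne_zero_of_Q_ne_zero (b2 ▸ hδ)) h1 hx)
  simpa using add_mem ((D j).smul_mem s hj) ((D j).smul_mem t hl)

variable [Fintype κ] (hH : dstab Q D ⊓ commutator (O Q) ≤ K)
  (hB : ∀ g ∈ K, ∀ i j, ∀ c ∈ D i, Q c ≠ 0 → g.1 c ∈ D j → g ∈ dstab Q D)
include hb hH hB

omit hb hH [Finite F] in
theorem notMem_of_rot {g : O Q} (hg : g ∈ K) (hg' : g ∉ dstab Q D) {i : κ} {a b : V} (ha : a ∈ D i)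
    (hb : b ∈ D i) (ha0 : Q a ≠ 0) (hb0 : Q b ≠ 0) (h : a ∉ F ∙ b) (hab : polar Q a b ≠ 0) :
    g⁻¹ * (refl Q a * refl Q b) * g ∉ dstab Q D := fun h1 => by
  obtain ⟨j, c, h2, h3, h4⟩ := S.exists_mem_of_rot (a := (g⁻¹).1 a) (b := (g⁻¹).1 b)
    (by rwa [O.map_Q]) (by rwa [O.map_Q]) (fun h2 => h (by
      obtain ⟨t, ht⟩ := Submodule.mem_span_singleton.1 h2
      exact Submodule.mem_span_singleton.2 ⟨t, (g⁻¹).1.injective (by rwa [map_smul])⟩))
    (by rwa [O.map_polar])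
    (by rw [← conj_refl, ← conj_refl]; convert h1 using 1; group)
  obtain ⟨s, t, rfl⟩ := Submodule.mem_span_pair.1 h4
  exact hg' (hB g hg j i _ h2 h3 (by simpa using add_mem ((D i).smul_mem s ha) ((D i).smul_mem t hb)))

omit hb hH [Finite F] [FiniteDimensional F V] S [Fintype κ] in
theorem conj_mem_of_fix {g h : O Q} (hg : g ∈ K) (hh : h ∈ K) {m : κ} {c : V} (hc : c ∈ D m)
    (h0 : Q c ≠ 0) (h1 : h.1 (g.1 c) = g.1 c) : g⁻¹ * h * g ∈ dstab Q D :=
  hB _ (mul_mem (mul_mem (K.inv_mem hg) hh) hg) m m c hc h0 (by simpa [O.mul_apply, h1])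

theorem pr_ne_zero {g : O Q} (hg : g ∈ K) (hg' : g ∉ dstab Q D) {m : κ} {c : V} (hc : c ∈ D m)
    (h0 : Q c ≠ 0) (i : κ) : S.pr i (g.1 c) ≠ 0 := fun h1 => by
  obtain ⟨b, b1, a, a1, b2, a2, h2, h3⟩ := (hb i).exists_pair one_ne_zero
  have h4 := mem_perp.1 (S.pr_eq_zero.1 h1)
  exact S.notMem_of_rot hB hg hg' a1 b1 (by simp [a2]) (by simp [b2]) h2 (by rwa [polar_comm])
    (conj_mem_of_fix hB hg (S.refl_mul_mem hH a1 b1 (by simp [a2]) (a2.trans b2.symm)) hc h0 (by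
      rw [O.mul_apply, refl_apply_of_perp (h4 b b1), refl_apply_of_perp (h4 a a1)]))

theorem card_le_two (ht : 3 ≤ Fintype.card κ) {g : O Q} (hg : g ∈ K) (hg' : g ∉ dstab Q D) {m : κ}
    {c : V} (hc : c ∈ D m) (h0 : Q c ≠ 0) {T : Finset κ} (hT : ∀ i ∈ T, Q (S.pr i (g.1 c)) ≠ 0) :
    T.card ≤ 2 := by
  classical
  by_contra! h1
  choose! z z1 z2 z3 using fun i hi => (hb i).exists_perp (S.pr_mem i (g.1 c)) (hT i hi)
  obtain ⟨i, hi, j, hj, hij, h2⟩ := exists_ne_map_eq_of_card_lt_of_maps_to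
    (t := (univ : Finset ℤˣ)) (f := fun i => sqsign (Q (z i))) (by simpa using h1) (fun _ _ => by simp only [coe_univ, Set.mem_univ])
  obtain ⟨p, -, q, -, r, -, h3, h4, h5⟩ := two_lt_card.1 (show 2 < (univ : Finset κ).card from ht)
  have h6 : ∀ i ∈ T, (refl Q (z i)).1 (g.1 c) = g.1 c := fun i hi =>
    refl_apply_of_perp (by rw [← S.polar_pr (z1 i hi), polar_comm, z3 i hi])
  have h7 := conj_mem_of_fix hB hg (hH ⟨mul_mem (S.refl_mem_dstab (z1 i hi))
    (S.refl_mem_dstab (z1 j hj)), refl_mul_refl_mem_commutator' S.nd (z2 i hi) (z2 j hj) h2⟩) hc h0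
    (by rw [O.mul_apply, h6 j hj, h6 i hi])
  obtain ⟨l, hl⟩ := S.exists_pr_eq_zero (a := (g⁻¹).1 (z i)) (b := (g⁻¹).1 (z j))
    (by rw [O.map_Q]; exact z2 i hi) (fun h2 => by
      obtain ⟨t, ht⟩ := Submodule.mem_span_singleton.1 h2
      rw [← map_smul, (g⁻¹).1.injective.eq_iff] at ht
      exact hij (S.eq_of_mem (ne_zero_of_Q_ne_zero (z2 i hi)) (z1 i hi)
        (ht ▸ (D j).smul_mem t (z1 j hj))))
    (by rw [← conj_refl, ← conj_refl]; convert h7 using 1; group) h3 h4 h5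
  exact S.pr_ne_zero hb hH hB (K.inv_mem hg) (by simpa) (z1 i hi) (z2 i hi) l hl

theorem le_dstab_of_big (ht : 6 ≤ Fintype.card κ) : K ≤ dstab Q D := fun g hg => by
  classical
  have := Fintype.ofFinite F
  by_contra hg'
  have hg1 : g⁻¹ ∉ dstab Q D := by simpa
  obtain ⟨i⟩ : Nonempty κ := Fintype.card_pos_iff.1 (by omega)
  obtain ⟨c, hc, h0⟩ := exists_Q_eq_mem (S.ndD i) (S.dim i).ge 1
  have h0 : Q c ≠ 0 := by simp [h0]
  obtain ⟨j, hj⟩ : ∃ j, Q (S.pr j (g.1 c)) = 0 := by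
    by_contra! hc'
    have := S.card_le_two hb hH hB (by omega) hg hg' hc h0 (T := univ) fun j _ => hc' j
    rw [card_univ] at this; omega
  obtain ⟨φ, hφ⟩ := S.iso j i
  have he := hφ _ (S.pr_mem j (g.1 c))
  have he0 := O.apply_ne_zero φ (S.pr_ne_zero hb hH hB hg hg' hc h0 j)
  have he1 := (O.map_Q φ _).trans hj
  generalize φ.1 (S.pr j (g.1 c)) = e at he he0 he1
  have hq := (hb i).le e he he0 he1
  obtain ⟨f, hf, hef, hD⟩ := (hb i).exists_hyp he he0 he1
  have hc : ∀ y : F, e + y • f ∈ D i := fun y => add_mem he ((D i).smul_mem y hf)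
  have hc0 : ∀ y : F, y ≠ 0 → Q (e + y • f) ≠ 0 := fun y hy => by
    simpa [hy] using (hef.Q_comb 1 y).trans_ne (by simpa)
  let u := fun l => S.pr l ((g⁻¹).1 e)
  let v := fun l => S.pr l ((g⁻¹).1 f)
  have h1 : ∀ l y, Q (S.pr l ((g⁻¹).1 (e + y • f))) =
      Q (u l) + polar Q (u l) (v l) * y + Q (v l) * y ^ 2 := fun l y => by
    rw [map_add, map_add, map_smul, map_smul, Q_add, Q_smul, polar_smul_right']; ring
  let J := univ.filter fun l => Q (u l) = 0 ∧ polar Q (u l) (v l) = 0 ∧ Q (v l) = 0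
  have h2 : Jᶜ.card ≤ 3 := by
    by_contra! h2
    obtain ⟨T, h3, h4⟩ := exists_subset_card_eq (show 4 ≤ Jᶜ.card from h2)
    have := card_mul_le_card_mul (s := univ.erase (0 : F)) (t := T) (m := 2) (n := 2)
      (fun y l => Q (S.pr l ((g⁻¹).1 (e + y • f))) = 0) (fun y hy => by
        have := S.card_le_two hb hH hB (by omega) (K.inv_mem hg) hg1 (hc y)
          (hc0 y (ne_of_mem_erase hy))
          (T := T.filter fun l => ¬ Q (S.pr l ((g⁻¹).1 (e + y • f))) = 0) (by simp)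
        have h5 := card_filter_add_card_filter_not (s := T)
          fun l => Q (S.pr l ((g⁻¹).1 (e + y • f))) = 0
        rw [bipartiteAbove]; omega) fun l hl => by
      by_contra! h5
      obtain ⟨x, hx, y, hy, z, hz, h6, h7, h8⟩ := two_lt_card.1 h5
      simp only [mem_bipartiteBelow, h1] at hx hy hz
      simpa [J, quad_coeff_eq_zero h6 h7 h8 hx.2 hy.2 hz.2] using h3 hl
    rw [card_erase_of_mem (mem_univ _), card_univ, ← Nat.card_eq_fintype_card] at this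
    omega
  have h3 : ∀ l ∈ J, u l = 0 ∨ v l = 0 := fun l hl => by
    obtain ⟨a1, a2, a3⟩ := (mem_filter.1 hl).2
    by_contra! h3
    by_cases h4 : u l ∈ F ∙ v l
    · obtain ⟨t, ht⟩ := Submodule.mem_span_singleton.1 h4
      exact S.pr_ne_zero hb hH hB (K.inv_mem hg) hg1 (hc (-t))
        (hc0 _ (by rintro h; simp [neg_eq_zero.1 h, h3.1.symm] at ht)) l (by
          rw [map_add, map_add, map_smul, map_smul, neg_smul]; exact sub_eq_zero.2 ht.symm ▸ (sub_eq_add_neg _ _).symm)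
    · exact (hb l).not_le_perp (S.pr_mem l _) h3.1 ((le_span_of_finrank_two (S.dim l) (S.pr_mem l _)
        (S.pr_mem l _) h3.2 h4).trans (Submodule.span_le.2 (by
          simp [Set.insert_subset_iff, mem_perp_singleton, polar_self', a1, a2, u, v] at *)))
  have key : ∀ e f, IsHyp Q e f → D i ≤ Submodule.span F {e, f} → ∀ l m, l ≠ m →
      S.pr l ((g⁻¹).1 e) = 0 → S.pr m ((g⁻¹).1 e) = 0 → False := fun e f hef hD l m hlm h4 h5 => by
    obtain ⟨b, b1, a, a1, b2, a2, h2, h3⟩ := (hb i).exists_pair one_ne_zero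
    obtain ⟨c, hc, h0⟩ := exists_Q_eq_mem (S.ndD m) (S.dim m).ge 1
    refine S.notMem_of_rot hB hg hg' a1 b1 (by simp [a2]) (by simp [b2]) h2 (by rwa [polar_comm])
      (by_contra fun h6 => S.pr_ne_zero hb hH hB (mul_mem (mul_mem (K.inv_mem hg)
        (S.refl_mul_mem hH a1 b1 (by simp [a2]) (a2.trans b2.symm))) hg) h6 hc (by simp [h0]) l ?_)
    obtain ⟨s, t, rfl⟩ := Submodule.mem_span_pair.1 (hD a1)
    obtain ⟨s', t', rfl⟩ := Submodule.mem_span_pair.1 (hD b1)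
    rw [hef.Q_comb] at a2 b2
    have a3 := left_ne_zero_of_mul_eq_one a2
    have a4 := right_ne_zero_of_mul_eq_one a2
    have b3 := left_ne_zero_of_mul_eq_one b2
    have b4 := right_ne_zero_of_mul_eq_one b2
    rw [hef.refl_mul_refl a3 a4 b3 b4, O.mul_apply, O.mul_apply, hef.hrot_apply (by simp [*]),
      O.polar_right g e, mem_perp'.1 (S.pr_eq_zero.1 h5) c hc]
    simp only [map_add, map_smul, h4, O.inv_apply_apply, S.pr_of_ne hlm hc, mul_zero, zero_smul,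
      smul_zero, add_zero, map_zero]
  obtain ⟨l, hl, m, hm, hlm, h4⟩ := exists_ne_map_eq_of_card_lt_of_maps_to
    (s := J) (t := (univ : Finset Prop)) (f := fun l => u l = 0)
    (by rw [card_compl] at h2; simp; omega) (fun _ _ => by simp only [coe_univ, Set.mem_univ])
  by_cases h5 : u l = 0
  · exact key e f hef hD l m hlm h5 (h4 ▸ h5)
  · exact key f e hef.symm (by rwa [Set.pair_comm]) l m hlm ((h3 l hl).resolve_left h5)
      ((h3 m hm).resolve_left (h4 ▸ h5))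

end DecStr

end Cfsg.Lib.OMax
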