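import Cfsg.Agent.Lib.OMax.Dec2A

/-!
# Orthogonal decompositions into at least five planes
-/

set_option autoImplicit false

namespace Cfsg.Lib.OMax

open QuadraticMap Module Cfsg.Lib.Orth Finset

variable {F V : Type*} [Field F] [AddCommGroup V] [Module F V] {Q : QuadraticForm F V}
  {K : Subgroup (O Q)}

namespace DecStr

variable {κ : Type*} {D : κ → Submodule F V} [FiniteDimensional F V] (S : DecStr Q D 2)
  [Finite F] (hb : ∀ i, Big Q (D i)) [Fintype κ]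

section

variable (hH : dstab Q D ⊓ commutator (O Q) ≤ K)
  (hB : ∀ g ∈ K, ∀ i j, ∀ c ∈ D i, Q c ≠ 0 → g.1 c ∈ D j → g ∈ dstab Q D)
include S hb hH hB

theorem le_dstab_of_big' (ht : 5 ≤ Fintype.card κ) : K ≤ dstab Q D := fun g hg => by
  classical
  have := Fintype.ofFinite F
  by_contra hg'
  have hg1 : g⁻¹ ∉ dstab Q D := by simpa
  obtain ⟨i⟩ : Nonempty κ := Fintype.card_pos_iff.1 (by omega)
  obtain ⟨c, hc, h0⟩ := exists_Q_eq_mem (S.ndD i) (S.dim i).ge 1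
  have h0 : Q c ≠ 0 := by simp [h0]
  obtain ⟨j, hj⟩ : ∃ j, Q (S.pr j (g.1 c)) = 0 := by
    by_contra! hc'
    have := S.card_le_two hb hH hB (by omega) hg hg' hc h0 (T := univ) fun j _ => hc' j
    rw [card_univ] at this; omega
  obtain ⟨φ, hφ⟩ := S.iso j i
  have he := hφ _ (S.pr_mem j (g.1 c))
  have he0 := O.apply_ne_zero φ (S.pr_ne_zero hb hH hB hg hg' hc h0 j)
  have he1 := (O.map_Q φ _).trans hj
  generalize φ.1 (S.pr j (g.1 c)) = e at he he0 he1
  have hq := (hb i).le e he he0 he1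
  obtain ⟨f, hf, hef, hD⟩ := (hb i).exists_hyp he he0 he1
  have hc : ∀ y : F, e + y • f ∈ D i := fun y => add_mem he ((D i).smul_mem y hf)
  have hc0 : ∀ y : F, y ≠ 0 → Q (e + y • f) ≠ 0 := fun y hy => by
    simpa [hy] using (hef.Q_comb 1 y).trans_ne (by simpa)
  let u := fun l => S.pr l ((g⁻¹).1 e)
  let v := fun l => S.pr l ((g⁻¹).1 f)
  have h1 : ∀ l y, Q (S.pr l ((g⁻¹).1 (e + y • f))) =
      Q (u l) + polar Q (u l) (v l) * y + Q (v l) * y ^ 2 := fun l y => by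
    rw [map_add, map_add, map_smul, map_smul, Q_add, Q_smul, polar_smul_right']; ring
  let J := univ.filter fun l => Q (u l) = 0 ∧ polar Q (u l) (v l) = 0 ∧ Q (v l) = 0
  have h2 : Jᶜ.card ≤ 3 := by
    by_contra! h2
    obtain ⟨T, h3, h4⟩ := exists_subset_card_eq (show 4 ≤ Jᶜ.card from h2)
    have := card_mul_le_card_mul (s := univ.erase (0 : F)) (t := T) (m := 2) (n := 2)
      (fun y l => Q (S.pr l ((g⁻¹).1 (e + y • f))) = 0) (fun y hy => by
        have := S.card_le_two hb hH hB (by omega) (K.inv_mem hg) hg1 (hc y)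
          (hc0 y (ne_of_mem_erase hy))
          (T := T.filter fun l => ¬ Q (S.pr l ((g⁻¹).1 (e + y • f))) = 0) (by simp)
        have h5 := card_filter_add_card_filter_not (s := T)
          fun l => Q (S.pr l ((g⁻¹).1 (e + y • f))) = 0
        rw [bipartiteAbove]; omega) fun l hl => by
      by_contra! h5
      obtain ⟨x, hx, y, hy, z, hz, h6, h7, h8⟩ := two_lt_card.1 h5
      simp only [mem_bipartiteBelow, h1] at hx hy hz
      simpa [J, quad_coeff_eq_zero h6 h7 h8 hx.2 hy.2 hz.2] using h3 hl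
    rw [card_erase_of_mem (mem_univ _), card_univ, ← Nat.card_eq_fintype_card] at this
    omega
  have h3 : ∀ l ∈ J, u l = 0 ∨ v l = 0 := fun l hl => by
    obtain ⟨a1, a2, a3⟩ := (mem_filter.1 hl).2
    by_contra! h3
    by_cases h4 : u l ∈ F ∙ v l
    · obtain ⟨t, ht⟩ := Submodule.mem_span_singleton.1 h4
      exact S.pr_ne_zero hb hH hB (K.inv_mem hg) hg1 (hc (-t))
        (hc0 _ (by rintro h; simp [neg_eq_zero.1 h, h3.1.symm] at ht)) l (by
          rw [map_add, map_add, map_smul, map_smul, neg_smul]; exact sub_eq_zero.2 ht.symm ▸ (sub_eq_add_neg _ _).symm)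
    · exact (hb l).not_le_perp (S.pr_mem l _) h3.1 ((le_span_of_finrank_two (S.dim l) (S.pr_mem l _)
        (S.pr_mem l _) h3.2 h4).trans (Submodule.span_le.2 (by
          simp [Set.insert_subset_iff, mem_perp_singleton, polar_self', a1, a2, u, v] at *)))
  have key : ∀ e f, IsHyp Q e f → D i ≤ Submodule.span F {e, f} → ∀ l m, l ≠ m →
      S.pr l ((g⁻¹).1 e) = 0 → S.pr m ((g⁻¹).1 e) = 0 → False := fun e f hef hD l m hlm h4 h5 => by
    obtain ⟨b, b1, a, a1, b2, a2, h2, h3⟩ := (hb i).exists_pair one_ne_zero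
    obtain ⟨c, hc, h0⟩ := exists_Q_eq_mem (S.ndD m) (S.dim m).ge 1
    refine S.notMem_of_rot hB hg hg' a1 b1 (by simp [a2]) (by simp [b2]) h2 (by rwa [polar_comm])
      (by_contra fun h6 => S.pr_ne_zero hb hH hB (mul_mem (mul_mem (K.inv_mem hg)
        (S.refl_mul_mem hH a1 b1 (by simp [a2]) (a2.trans b2.symm))) hg) h6 hc (by simp [h0]) l ?_)
    obtain ⟨s, t, rfl⟩ := Submodule.mem_span_pair.1 (hD a1)
    obtain ⟨s', t', rfl⟩ := Submodule.mem_span_pair.1 (hD b1)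
    rw [hef.Q_comb] at a2 b2
    have a3 := left_ne_zero_of_mul_eq_one a2
    have a4 := right_ne_zero_of_mul_eq_one a2
    have b3 := left_ne_zero_of_mul_eq_one b2
    have b4 := right_ne_zero_of_mul_eq_one b2
    rw [hef.refl_mul_refl a3 a4 b3 b4, O.mul_apply, O.mul_apply, hef.hrot_apply (by simp [*]),
      O.polar_right g e, mem_perp'.1 (S.pr_eq_zero.1 h5) c hc]
    simp only [map_add, map_smul, h4, O.inv_apply_apply, S.pr_of_ne hlm hc, mul_zero, zero_smul,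
      smul_zero, add_zero, map_zero]
  have key2 : ∀ e f, IsHyp Q e f → e ∈ D i → f ∈ D i → D i ≤ Submodule.span F {e, f} → ∀ l,
      S.pr l ((g⁻¹).1 e) = 0 → ∀ n, Q (S.pr n ((g⁻¹).1 e)) = 0 := fun e f hef he hf hD l h4 n => by
    by_contra h5
    obtain ⟨n', hn', h6⟩ : ∃ n', n' ≠ n ∧ Q (S.pr n' ((g⁻¹).1 e)) ≠ 0 := by
      by_contra! h6
      have h7 := S.Q_eq_sum ((g⁻¹).1 e)
      rw [O.map_Q, hef.left, sum_eq_single n (fun b _ hb => h6 b hb) (by simp)] at h7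
      exact h5 h7.symm
    have hnl : n ≠ l := by rintro rfl; rw [h4, map_zero] at h5; exact h5 rfl
    have hnl' : n' ≠ l := by rintro rfl; rw [h4, map_zero] at h6; exact h6 rfl
    obtain ⟨b, b1, a, a1, b2, a2, h2, h3⟩ := (hb i).exists_pair one_ne_zero
    obtain ⟨c, hc, h0⟩ := exists_Q_eq_mem (S.ndD l) (S.dim l).ge 1
    have k1 := S.notMem_of_rot hB hg hg' a1 b1 (by simp [a2]) (by simp [b2]) h2 (by rwa [polar_comm])
    have k2 := mul_mem (mul_mem (K.inv_mem hg)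
      (S.refl_mul_mem hH a1 b1 (by simp [a2]) (a2.trans b2.symm))) hg
    have k3 := S.card_le_two hb hH hB (by omega) k2 k1 hc (by simp [h0]) (T := {l, n, n'})
    have k4 := S.pr_ne_zero hb hH hB k2 k1 hc (by simp [h0]) n
    rw [card_eq_three.2 ⟨l, n, n', hnl.symm, hnl'.symm, hn'.symm, rfl⟩] at k3
    obtain ⟨s, t, rfl⟩ := Submodule.mem_span_pair.1 (hD a1)
    obtain ⟨s', t', rfl⟩ := Submodule.mem_span_pair.1 (hD b1)
    rw [hef.Q_comb] at a2 b2
    have a3 := left_ne_zero_of_mul_eq_one a2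
    have a4 := right_ne_zero_of_mul_eq_one a2
    have b3 := left_ne_zero_of_mul_eq_one b2
    have b4 := right_ne_zero_of_mul_eq_one b2
    rw [hef.refl_mul_refl a3 a4 b3 b4, O.mul_apply, O.mul_apply, hef.hrot_apply (by simp [*]),
      O.polar_right g e, mem_perp'.1 (S.pr_eq_zero.1 h4) c hc] at k3 k4
    simp only [map_add, map_smul, O.inv_apply_apply, mul_zero, zero_smul,
      add_zero, S.pr_of_ne hnl hc, zero_add] at k3 k4
    refine absurd (k3 fun m hm => ?_) (by decide)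
    simp only [mem_insert, mem_singleton] at hm
    rcases hm with rfl | rfl | rfl
    · rw [h4, smul_zero, add_zero, S.pr_of_mem hc, h0]; exact one_ne_zero
    · rw [S.pr_of_ne hnl hc, zero_add, Q_smul]
      exact mul_ne_zero (pow_ne_zero 2 (left_ne_zero_of_smul k4)) h5
    · rw [S.pr_of_ne hnl' hc, zero_add, Q_smul]
      exact mul_ne_zero (pow_ne_zero 2 (left_ne_zero_of_smul k4)) h6
  have key3 : 3 ≤ J.card → False := fun h4 => by
    obtain ⟨l, hl, m, hm, hlm, h4⟩ := exists_ne_map_eq_of_card_lt_of_maps_to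
      (s := J) (t := (univ : Finset Prop)) (f := fun l => u l = 0)
      (by simp; omega) (fun _ _ => by simp only [coe_univ, Set.mem_univ])
    by_cases h5 : u l = 0
    · exact key e f hef hD l m hlm h5 (h4 ▸ h5)
    · exact key f e hef.symm (by rwa [Set.pair_comm]) l m hlm ((h3 l hl).resolve_left h5)
        ((h3 m hm).resolve_left (h4 ▸ h5))
  have key4 : ∀ l m, u l = 0 → v m = 0 → False := fun l m h4 h5 => by
    have h6 := key2 e f hef he hf hD l h4
    have h7 := key2 f e hef.symm hf he (by rwa [Set.pair_comm]) m h5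
    have h8 := S.card_le_two hb hH hB (by omega) (K.inv_mem hg) hg1 (hc 1) (hc0 1 one_ne_zero)
      (T := Jᶜ) fun n hn h8 => by
        rw [h1, show Q (u n) = 0 from h6 n, show Q (v n) = 0 from h7 n] at h8
        exact (mem_compl.1 hn) (mem_filter.2 ⟨mem_univ _, h6 n, by simpa using h8, h7 n⟩)
    rw [card_compl] at h8
    exact key3 (by omega)
  rw [card_compl] at h2
  obtain ⟨l, hl, m, hm, hlm⟩ := one_lt_card.1 (show 1 < J.card by omega)
  rcases h3 l hl with h4 | h4 <;> rcases h3 m hm with h5 | h5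
  · exact key e f hef hD l m hlm h4 h5
  · exact key4 l m h4 h5
  · exact key4 m l h5 h4
  · exact key f e hef.symm (by rwa [Set.pair_comm]) l m hlm h4 h5

end

variable (hE : ¬ Exc Q) (hH : dstab Q D ⊓ commutator (O Q) ≤ K) {i₀ : κ} {b : V} (hb0 : b ∈ D i₀)
  (hb1 : Q b ≠ 0)
include S hb hE hH hb0 hb1

theorem exists_grow' (h2 : (2 : F) ≠ 0) {a : V} (h : RC K a b)
    (ha : ∀ i, S.pr i a ≠ 0 → Q (S.pr i a) ≠ 0) {i j l : κ} (hij : i ≠ j) (hi : S.pr i a ≠ 0)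
    (hj : S.pr j a ≠ 0) (hl : S.pr l a = 0) :
    ∃ a', RC K a' b ∧ S.pr l a' ≠ 0 ∧ (∀ m, S.pr m a ≠ 0 → S.pr m a' ≠ 0) ∧
      ∀ m, m ≠ l → S.pr m a = 0 → S.pr m a' = 0 := by
  have h1 : ∀ m, ∃ r ∈ fixer Q (perp Q (D m)), S.pr m a ≠ 0 →
      r.1 (S.pr m a) ∉ F ∙ S.pr m a ∧ polar Q (S.pr m a) (r.1 (S.pr m a)) ≠ 0 := fun m => by
    by_cases hm : S.pr m a = 0
    · exact ⟨1, one_mem _, fun h => absurd hm h⟩
    obtain ⟨x, x1, x2, x3⟩ := (hb m).exists_third (ha m hm) (S.pr_mem m a) hm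
    obtain ⟨r, r1, r2⟩ := exists_fixer_map h2 (S.pr_mem m a) x1 (ha m hm) x2.symm
    exact ⟨r, r1, fun _ => r2 ▸ x3⟩
  choose r r1 r2 using h1
  obtain ⟨g, g1, g2⟩ := S.exists_blockwise r1
  have hjl : j ≠ l := by rintro rfl; exact hj hl
  obtain ⟨φ, hφ⟩ := S.iso j l
  obtain ⟨s, s1, s2, s3, s4⟩ := S.exists_swap_of hjl hφ
  have h3 : S.pr l (g.1 a) = 0 := by rw [g2, hl, map_zero]
  have h4 := S.rc_of_zero hE hH hb0 hb1 (S.rc_of_zero hE hH hb0 hb1 h g1 hl) s1 h3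
  have h5 : s.1 (g.1 a) = g.1 a - S.pr j (g.1 a) + φ.1 (S.pr j (g.1 a)) := by
    rw [← s4 (g.1 a - S.pr j (g.1 a)) (S.sub_pr_mem j _)
      (S.pr_eq_zero.1 (by simp [h3, S.pr_pr_ne hjl.symm])), ← s2 _ (S.pr_mem j _), ← map_add]
    simp
  have h6 := hφ _ (S.pr_mem j (g.1 a))
  have h7 : S.pr j (s.1 (g.1 a)) = 0 := by simp [h5, S.pr_of_ne hjl h6]
  have h8 : S.pr l (s.1 (g.1 a)) ≠ 0 := by
    rw [h5, map_add, map_sub, S.pr_of_mem h6, h3, S.pr_pr_ne hjl.symm, g2]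
    simpa using hj
  have h9 : ∀ m, m ≠ j → S.pr m a ≠ 0 → S.pr m (s.1 (g.1 a)) = (r m).1 (S.pr m a) :=
    fun m hm hm' => by
      simp [h5, S.pr_pr_ne hm, S.pr_of_ne (show m ≠ l by rintro rfl; exact hm' hl) h6, ← g2]
  have h9' : ∀ m, m ≠ l → S.pr m a = 0 → S.pr m (s.1 (g.1 a)) = 0 := fun m hm hm' => by
    have hmj : m ≠ j := by rintro rfl; exact hj hm'
    simp [h5, S.pr_pr_ne hmj, S.pr_of_ne hm h6, g2 m, hm']
  have key : ∀ x, RC K x b → S.pr j x = 0 → S.pr l x ≠ 0 → polar Q a x ≠ 0 →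
      (∀ m, m ≠ j → S.pr m a ≠ 0 → S.pr m x ∉ F ∙ S.pr m a) →
      (∀ m, m ≠ l → S.pr m a = 0 → S.pr m x = 0) →
      ∃ a', RC K a' b ∧ S.pr l a' ≠ 0 ∧ (∀ m, S.pr m a ≠ 0 → S.pr m a' ≠ 0) ∧
        ∀ m, m ≠ l → S.pr m a = 0 → S.pr m a' = 0 :=
    fun x x1 x2 x3 x4 x5 x6 => ⟨_, x1.refl_apply h, by simpa [refl_apply, hl], fun m hm => by
      by_cases hmj : m = j
      · simp [refl_apply, hmj, x2, x4, hj, h.1, hb1]
      · rw [refl_apply, map_sub, map_smul]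
        exact fun h0 => x5 m hmj hm (sub_eq_zero.1 h0 ▸ Submodule.smul_mem _ _ (by simp)),
      fun m hm hm' => by simp [refl_apply, hm', x6 m hm hm']⟩
  generalize s.1 (g.1 a) = x at h4 h7 h8 h9 h9'
  by_cases h10 : polar Q a x = 0
  swap
  · exact key x h4 h7 h8 h10 (fun m hm hm' => h9 m hm hm' ▸ (r2 m hm').1) h9'
  have h11 : (refl Q (S.pr i x)).1 x = x - (2 : F) • S.pr i x := by
    have : Q (S.pr i x) ≠ 0 := by rw [h9 i hij hi, O.map_Q]; exact ha i hi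
    rw [refl_apply, ← S.polar_pr (S.pr_mem i x), polar_self']
    congr 2; field_simp
  have hil : l ≠ i := by rintro rfl; exact hi hl
  refine key _ (S.rc_of_zero hE hH hb0 hb1 h4 (S.refl_mem_dstab (S.pr_mem i x)) h7)
    (by simp [h11, h7, S.pr_pr_ne hij.symm]) (by simpa [h11, S.pr_pr_ne hil]) ?_
    (fun m hm hm' => ?_) fun m hm hm' => by
      simp [h11, h9' m hm hm', S.pr_pr_ne (show m ≠ i by rintro rfl; exact hi hm')]
  · rw [h11, polar_sub_right, h10, polar_smul_right', ← S.polar_pr' (S.pr_mem i x), h9 i hij hi]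
    simpa [h2] using (r2 i hi).2
  · rw [h11, map_sub, map_smul]
    by_cases hmi : m = i
    · subst hmi
      rw [S.pr_pr, show S.pr m x - (2 : F) • S.pr m x = -S.pr m x by (module), neg_mem_iff,
        h9 m hm hm']
      exact (r2 m hm').1
    · rw [S.pr_pr_ne hmi, smul_zero, sub_zero, h9 m hm hm']
      exact (r2 m hm').1

omit hE hH hb0 hb1 [Fintype κ] in
theorem exists_norm_add (h2 : (2 : F) ≠ 0) {a : V} {i j : κ} (hi : Q (S.pr i a) ≠ 0)
    (hj : Q (S.pr j a) ≠ 0) (v : F) : ∃ c ∈ D i, ∃ d ∈ D j,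
      Q (a - (refl Q c).1 a) + Q (a - (refl Q d).1 a) = v := by
  obtain ⟨φ, a1, a2⟩ := (hb i).exists_param h2 (S.pr_mem i a) hi
  obtain ⟨ψ, b1, b2⟩ := (hb j).exists_param h2 (S.pr_mem j a) hj
  obtain ⟨x, y, h5⟩ := exists_sq_add_sq h2 a1 b1 v
  obtain ⟨c, c1, c2⟩ := a2 x
  obtain ⟨d, d1, d2⟩ := b2 y
  exact ⟨c, c1, d, d1, by rw [Q_sub_refl, Q_sub_refl, ← h5, ← c2, ← d2, S.polar_pr c1, S.polar_pr d1]⟩

omit hb hE hH hb0 hb1 [Finite F] [Fintype κ] in
theorem exists_prod_refl' {M : Type*} [CommGroup M] (χ : O Q →* M) {n : ℕ} (ε : Fin n ↪ κ)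
    {c : Fin n → V} (hc : ∀ i, c i ∈ D (ε i)) (a : V) :
    ∃ g ∈ dstab Q D, χ g = ∏ i, χ (refl Q (c i)) ∧
      (∀ i, S.pr (ε i) (a - g.1 a) = a - (refl Q (c i)).1 a) ∧
      Q (a - g.1 a) = ∑ i, Q (a - (refl Q (c i)).1 a) := by
  obtain ⟨g, g1, g2, g3⟩ := S.exists_prod_refl χ ε.injective hc univ
  have h3 : ∀ i, a - (refl Q (c i)).1 a ∈ D (ε i) := fun i => by
    rw [refl_apply, sub_sub_cancel]; exact (D _).smul_mem _ (hc i)
  have h4 : ∀ i, S.pr (ε i) (a - g.1 a) = a - (refl Q (c i)).1 a := fun i => by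
    rw [g3, map_sum, sum_eq_single i (fun j _ hj => S.pr_of_ne (ε.injective.ne hj.symm) (h3 j))
      (by simp), S.pr_of_mem (h3 i)]
  refine ⟨g, g1, g2, h4, ?_⟩
  have : a - g.1 a = ∑ i ∈ univ.map ε, S.pr i (a - g.1 a) := by
    simp only [sum_map, h4]; exact g3 a
  rw [this, S.Q_sum_pr]
  simp only [sum_map, h4]

theorem exists_rc_zero (ht : 5 ≤ Fintype.card κ) (h2 : (2 : F) ≠ 0) {a : V}
    (h : RC K a b) (ha : ∀ i, Q (S.pr i a) ≠ 0) :
    ∃ x, RC K x b ∧ (∀ i, x ∉ D i) ∧ ∃ l, S.pr l x = 0 := by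
  obtain ⟨ε⟩ := Function.Embedding.nonempty_of_card_le (α := Fin 5) (β := κ) (by simpa)
  let n : V → F := fun c => Q (a - (refl Q c).1 a)
  let χ : V → ℤˣ := fun c => classChar S.nd (Q b) (refl Q c)
  choose c hc d hd hcd using fun i : Fin 5 =>
    S.exists_norm_add hb h2 (ha (ε i)) (ha (ε (i + 1))) (Q b / 2)
  obtain ⟨i, hi⟩ : ∃ i, χ (c i) * χ (d i) * (χ (c (i + 2)) * χ (d (i + 2))) = 1 := by
    have : ∀ s : Fin 5 → ℤˣ, ∃ i, s i * s (i + 2) = 1 := by decide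
    exact this fun i => χ (c i) * χ (d i)
  let ε' : Fin 5 ↪ κ := (Equiv.addLeft i).toEmbedding.trans ε
  let w : Fin 5 → V := ![c i, d i, c (i + 2), d (i + 2), 0]
  have hw : ∀ j, w j ∈ D (ε' j) := fun j => by
    fin_cases j
    · simpa [w, ε'] using hc i
    · exact hd i
    · exact hc (i + 2)
    · simpa [w, ε', add_assoc] using hd (i + 2)
    · simp [w]
  obtain ⟨g, g1, g2, g3, g4⟩ := S.exists_prod_refl' (classChar S.nd (Q b)) ε' hw a
  have h3 := S.rc_apply hE hH hb0 hb1 h g1 (by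
    rw [g2, ← hi]; simp [Fin.prod_univ_five, w, χ, refl_of_singular, mul_assoc])
  have h4 : Q (a - g.1 a) = Q b := by
    rw [g4]
    simp only [Fin.sum_univ_five, w, Matrix.cons_val, refl_of_singular (map_zero Q), O.one_apply,
      sub_self, map_zero, add_zero]
    linear_combination (exp := 1) hcd i + hcd (i + 2) + (Q b) * (mul_inv_cancel₀ h2)
  have h5 : (refl Q (g.1 a)).1 a = a - g.1 a := by
    rw [Q_sub, O.map_Q, h.1] at h4
    rw [refl_apply, O.map_Q, h.1, polar_comm, show polar Q a (g.1 a) = Q b by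
      linear_combination -h4, inv_mul_cancel₀ hb1, one_smul]
  refine ⟨a - g.1 a, h5 ▸ h.refl_apply h3, fun m hm => ?_, ε' 4, by
    simp [g3, w, refl_of_singular, O.one_apply]⟩
  have h6 : ∀ j, ε' j ≠ m → Q (a - (refl Q (w j)).1 a) = 0 := fun j hj => by
    rw [← g3, S.pr_of_ne hj hm, map_zero]
  have h7 : Q b / 2 ≠ 0 := div_ne_zero hb1 h2
  by_cases h8 : ε' 0 = m ∨ ε' 1 = m
  · refine h7 ((hcd (i + 2)).symm.trans ?_)
    have k1 := h6 2 (by rcases h8 with rfl | rfl <;> exact ε'.injective.ne (by decide))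
    have k2 := h6 3 (by rcases h8 with rfl | rfl <;> exact ε'.injective.ne (by decide))
    simp only [w, Matrix.cons_val] at k1 k2
    rw [k1, k2, add_zero]
  · push Not at h8
    refine h7 ((hcd i).symm.trans ?_)
    have k1 := h6 0 h8.1
    have k2 := h6 1 h8.2
    simp only [w, Matrix.cons_val] at k1 k2
    rw [k1, k2, add_zero]

theorem commutator_le_of_zero (ht : 5 ≤ Fintype.card κ) (h2 : (2 : F) ≠ 0) {a : V}
    (h : RC K a b) {l : κ} (hl : S.pr l a = 0) (ha : ∀ i, i ≠ l → Q (S.pr i a) ≠ 0) :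
    commutator (O Q) ≤ K := by
  classical
  obtain ⟨ε₀⟩ := Function.Embedding.nonempty_of_card_le (α := Fin 5) (β := κ) (by simpa)
  let ε : Fin 5 ↪ κ := ε₀.trans (Equiv.swap (ε₀ 4) l).toEmbedding
  have hε : ε 4 = l := by simp [ε]
  have hε' : ∀ i, i ≠ 4 → Q (S.pr (ε i) a) ≠ 0 := fun i hi => ha _ (hε ▸ ε.injective.ne hi)
  obtain ⟨c₀, c1, c2, -, c3⟩ := (hb (ε 0)).exists_third hb1 (S.pr_mem _ a)
    (ne_zero_of_Q_ne_zero (hε' 0 (by decide)))
  have h3 : Q (a - (refl Q c₀).1 a) ≠ 0 := by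
    simpa [Q_sub_refl, c2, hb1, S.polar_pr' c1, polar_comm Q c₀] using c3
  obtain ⟨c, hc, d, hd, hcd⟩ := S.exists_norm_add hb h2 (hε' 1 (by decide)) (hε' 2 (by decide))
    (-Q (a - (refl Q c₀).1 a))
  let w : Fin 5 → V := ![c₀, c, d, 0, 0]
  have hw : ∀ j, w j ∈ D (ε j) := fun j => by fin_cases j <;> simp [w, *]
  obtain ⟨g, g1, -, g3, g4⟩ := S.exists_prod_refl' (classChar S.nd (Q b)) ε hw a
  refine S.commutator_le_of_sub hb hE hH hb1 h (S.rc_of_zero hE hH hb0 hb1 h g1 hl)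
    (fun h0 => h3 ?_) ?_ (ε.injective.ne (show (3 : Fin 5) ≠ 4 by decide))
    (by simp [g3, w, refl_of_singular, O.one_apply]) (by simp [g3, w, refl_of_singular, O.one_apply])
    (ne_zero_of_Q_ne_zero (hε' 3 (by decide)))
  · have := g3 0
    rw [h0, map_zero] at this
    exact this ▸ map_zero Q
  · rw [g4]
    simp only [Fin.sum_univ_five, w, Matrix.cons_val, refl_of_singular (map_zero Q), O.one_apply,
      sub_self, map_zero, add_zero]
    linear_combination hcd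

theorem commutator_le_of_rc_two' (ht : 5 ≤ Fintype.card κ) {a : V} (h : RC K a b)
    (ha : ∀ i, a ∉ D i) : commutator (O Q) ≤ K := by
  classical
  have key : ∀ a, (∀ i, a ∉ D i) → ∀ i, ∃ j, i ≠ j ∧ S.pr j a ≠ 0 := fun a ha i => by
    simpa [S.mem_iff, eq_comm] using ha i
  by_cases h2 : (2 : F) = 0
  · obtain ⟨i, -, hi⟩ := key a ha i₀
    obtain ⟨j, hij, hj⟩ := key a ha i
    exact S.commutator_le_of_two hb hE hH hb0 hb1 (by omega) h2 h hij hi hj
  by_contra hc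
  have h3 : ∀ a, RC K a b → (∀ i, a ∉ D i) → ∀ i, S.pr i a ≠ 0 → Q (S.pr i a) ≠ 0 :=
    fun a h ha i hi h0 => by
      obtain ⟨j, hij, hj⟩ := key a ha i
      exact hc (S.commutator_le_of_singular_pr hb hE hH hb0 hb1 (by omega) h2 h hij hi h0 hj)
  obtain ⟨x, hx, hx', l, hl⟩ : ∃ x, RC K x b ∧ (∀ i, x ∉ D i) ∧ ∃ l, S.pr l x = 0 := by
    by_cases h4 : ∃ l, S.pr l a = 0
    · exact ⟨a, h, ha, h4⟩
    · exact S.exists_rc_zero hb hE hH hb0 hb1 ht h2 h fun i => h3 a h ha i (not_exists.1 h4 i)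
  have : Finite V := finite_of_finiteDimensional F V
  obtain ⟨a, ⟨h, ha, hl⟩, hmax⟩ := Set.exists_max_image
    {a | RC K a b ∧ (∀ i, a ∉ D i) ∧ S.pr l a = 0}
    (fun a => (univ.filter fun i => S.pr i a ≠ 0).card) (Set.toFinite _) ⟨x, hx, hx', hl⟩
  refine hc (S.commutator_le_of_zero hb hE hH hb0 hb1 ht h2 h hl fun m hm => h3 a h ha m fun hm' => ?_)
  obtain ⟨i, -, hi⟩ := key a ha i₀
  obtain ⟨j, hij, hj⟩ := key a ha i
  obtain ⟨a', h4, h5, h6, h7⟩ := S.exists_grow' hb hE hH hb0 hb1 h2 h (h3 a h ha) hij hi hj hm'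
  refine absurd (hmax a' ⟨h4, fun m hm => ?_, h7 l hm.symm hl⟩) (not_le.2 (card_lt_card
    ⟨fun m => by simpa using h6 m, fun h7 => by simpa [h5, hm'] using @h7 m⟩))
  by_cases him : i = m
  · exact h6 j hj (S.pr_of_ne (him ▸ hij.symm) hm)
  · exact h6 i hi (S.pr_of_ne him hm)

omit hb0 hb1 in
theorem max_planes' (ht : 5 ≤ Fintype.card κ) : K ≤ dstab Q D ∨ commutator (O Q) ≤ K := by
  refine or_iff_not_imp_right.2 fun hc => S.le_dstab_of_big' hb hH (fun g hg i j c hc1 h0 h1 => ?_) ht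
  refine S.mem_dstab_of_big hb h0 fun l d hd h2 => by_contra fun h3 => hc ?_
  exact S.commutator_le_of_rc_two' hb hE hH hc1 h0 ht (((S.rc_of_mem hH hd hc1 h0 h2).map hg).trans
    (S.rc_of_mem hH h1 hc1 h0 (by simp))) (not_exists.1 h3)

end DecStr

variable {ι : Type} [Fintype ι] [DecidableEq ι] {Q : QuadraticForm F (ι → F)}

theorem isMaximalIn_dec_two' [Finite F] (hQ : ND Q) (hn : 9 ≤ Fintype.card ι) {t : ℕ}
    {D : Fin t → Submodule F (ι → F)} (hD : Geo.IsOrthogonalMDecomposition ⇑Q 2 D)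
    (h3 : Nat.card F ≠ 3) (h4 : (∀ i, Geo.IsPlusTypeOn ⇑Q (D i)) → 7 ≤ Nat.card F) :
    Geo.IsMaximalIn (Geo.omegaGL ⇑Q) (Geo.decompositionStabilizer D ⊓ Geo.omegaGL ⇑Q) := by
  have S := decStr_of hQ hD
  have h1 := S.finrank_eq
  have hE : ¬ Exc Q := not_exc_of_five_le (by simp; omega)
  simp only [Fintype.card_fin, finrank_fintype_fun_eq_card] at h1
  refine isMaximalIn_of mem_decompositionStabilizer_iff (S.not_commutator_le hE (by omega)
    (i := ⟨0, by omega⟩) (by simp; omega)) fun K hH _ => S.max_planes' (fun i =>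
      ⟨S.ndD i, S.dim i, h3, fun e he h0 h5 => h4 fun j => ?_⟩) hE hH (by simp; omega)
  obtain ⟨g, hg⟩ := S.iso i j
  exact isPlusTypeOn_of_singular (S.dim j) (hg e he) (O.apply_ne_zero g h0) (by simpa)

end Cfsg.Lib.OMax
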