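import Cfsg.Agent.Lib.OMax.Dec

/-!
# Orthogonal decompositions into blocks of dimension at least three
-/

set_option autoImplicit false

namespace Cfsg.Lib.OMax

open QuadraticMap Module Cfsg.Lib.Orth
open Cfsg.Lib.Unitary (finrank_span_singleton_le)

variable {F V : Type*} [Field F] [AddCommGroup V] [Module F V] {Q : QuadraticForm F V}
  {K : Subgroup (O Q)}

/-- Vectors of the same norm whose reflections are congruent modulo `K`. -/
def RC (K : Subgroup (O Q)) (a b : V) : Prop := Q a = Q b ∧ refl Q a * refl Q b ∈ K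

namespace RC

variable {a b c : V}

theorem rfl' (a : V) : RC K a a := ⟨rfl, by rw [refl_mul_self]; exact one_mem _⟩

theorem symm (h : RC K a b) : RC K b a :=
  ⟨h.1.symm, by simpa [refl_inv] using inv_mem h.2⟩

theorem trans (h : RC K a b) (h' : RC K b c) : RC K a c :=
  ⟨h.1.trans h'.1, by
    have := mul_mem h.2 h'.2
    rwa [mul_assoc, ← mul_assoc (refl Q b), refl_mul_self, one_mul] at this⟩

theorem map (h : RC K a b) {g : O Q} (hg : g ∈ K) : RC K (g.1 a) (g.1 b) :=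
  ⟨by simp [h.1], by
    have := mul_mem (mul_mem hg h.2) (inv_mem hg)
    rwa [← conj_refl, ← conj_refl, show g * refl Q a * g⁻¹ * (g * refl Q b * g⁻¹) =
      g * (refl Q a * refl Q b) * g⁻¹ by group]⟩

theorem refl_apply (h : RC K a b) (h' : RC K c b) : RC K ((refl Q c).1 a) b :=
  ⟨by simp [h.1], by
    rw [← conj_refl, refl_inv, mul_assoc]
    exact mul_mem (h'.trans h.symm).2 h'.2⟩

theorem neg (h : RC K a b) : RC K (-a) b := ⟨by simp [h.1], by rw [refl_neg]; exact h.2⟩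

theorem mem_AE (h : RC K a b) (ha : Q a ≠ 0) (hab : Q (a - b) = 0) :
    (Q a)⁻¹ • a ∈ AE K (a - b) := by
  have h1 : polar Q (a - b) a = 0 := by
    rw [Q_sub, ← h.1] at hab
    rw [polar_sub_left, polar_self', polar_comm Q b]
    linear_combination hab
  have h2 : polar Q (a - b) ((Q a)⁻¹ • a) = 0 := by rw [polar_smul_right', h1, mul_zero]
  refine ⟨h2, ?_⟩
  rw [eich_eq_refl_mul_refl hab h2 (by rw [Q_smul]; simpa), refl_smul (inv_ne_zero ha),
    show (Q a)⁻¹ • a - Q ((Q a)⁻¹ • a) • (a - b) = (Q a)⁻¹ • b by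
      rw [Q_smul]; match_scalars <;> field_simp; ring, refl_smul (inv_ne_zero ha)]
  exact h.2

end RC

theorem refl_mul_refl_apply {a b : V} (h : polar Q a b = 0) (x : V) :
    (refl Q a * refl Q b).1 x - x =
      -(((Q a)⁻¹ * polar Q a x) • a + ((Q b)⁻¹ * polar Q b x) • b) := by
  rw [O.mul_apply, refl_apply, refl_apply, polar_sub_right, polar_smul_right', h]
  (module)

/-- A hyperbolic pair together with two non-orthogonal vectors of norm `δ` orthogonal to it. -/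
def Nice (Q : QuadraticForm F V) (U : Submodule F V) (δ : F) : Prop :=
  ∃ e ∈ U, ∃ f ∈ U, ∃ u ∈ U, ∃ v ∈ U, IsHyp Q e f ∧ u ∈ hperp Q e f ∧ v ∈ hperp Q e f ∧
    Q u = δ ∧ Q v = δ ∧ polar Q u v ≠ 0

theorem Nice.map {U W : Submodule F V} {δ : F} (h : Nice Q U δ) {g : O Q}
    (hg : ∀ x ∈ U, g.1 x ∈ W) : Nice Q W δ := by
  obtain ⟨e, he, f, hf, u, hu, v, hv, h1, h2, h3, h4, h5, h6⟩ := h
  exact ⟨_, hg e he, _, hg f hf, _, hg u hu, _, hg v hv, h1.map g,
    by simpa [mem_hperp] using h2, by simpa [mem_hperp] using h3, by simpa, by simpa, by simpa⟩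

theorem Nice.exists_perp {U : Submodule F V} {δ : F} (h : Nice Q U δ) (c : V) :
    ∃ b ∈ U, Q b = δ ∧ polar Q c b = 0 := by
  obtain ⟨e, he, f, hf, u, hu, -, -, h1, h2, -, h4, -⟩ := h
  by_cases a1 : polar Q c e = 0
  · by_cases a2 : polar Q c f = 0
    · exact ⟨(1 : F) • e + δ • f, add_mem (U.smul_mem _ he) (U.smul_mem _ hf),
        by rw [h1.Q_comb, one_mul], by simp [polar_add_right, a1, a2]⟩
    · exact ⟨u - (polar Q c u / polar Q c f) • f, sub_mem hu (U.smul_mem _ hf),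
        by rw [Q_sub_smul_of_singular h1.right (mem_hperp.1 h2).2, h4],
        by rw [polar_sub_right, polar_smul_right']; field_simp; ring⟩
  · exact ⟨u - (polar Q c u / polar Q c e) • e, sub_mem hu (U.smul_mem _ he),
      by rw [Q_sub_smul_of_singular h1.left (mem_hperp.1 h2).1, h4],
      by rw [polar_sub_right, polar_smul_right']; field_simp; ring⟩

theorem exists_nice [Finite F] [FiniteDimensional F V] {U : Submodule F V}
    (hU : ND (Q.restrict U)) (h3 : 3 ≤ finrank F U) (hE : ¬ Exc (Q.restrict U)) :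
    ∃ δ, δ ≠ 0 ∧ Nice Q U δ := by
  obtain ⟨e, f, h⟩ := exists_isHyp_of_three_le hU h3
  obtain ⟨u, hu, hu0⟩ := h.exists_nonsingular hU h3
  have h' : IsHyp Q (e : V) f := ⟨h.left, h.right, h.polar_eq⟩
  have key : ∀ {x : U}, x ∈ hperp (Q.restrict U) e f → (x : V) ∈ hperp Q e f := fun hx =>
    mem_hperp.2 (mem_hperp (Q := Q.restrict U).1 hx)
  by_cases h2 : (2 : F) = 0
  swap
  · exact ⟨_, hu0, e, e.2, f, f.2, u, u.2, u, u.2, h', key hu, key hu, rfl, rfl,
      by rw [polar_self']; exact mul_ne_zero h2 hu0⟩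
  obtain ⟨v, hv, hv0, huv⟩ : ∃ v ∈ hperp (Q.restrict U) e f, Q v ≠ 0 ∧ polar Q (u : V) v ≠ 0 := by
    by_contra! hc
    have h4 := addSubgroup_eq_top_of_nonsingular (h.nd_hperp hU)
      (perp ((Q.restrict U).restrict _) (F ∙ (⟨u, hu⟩ : hperp (Q.restrict U) e f))).toAddSubgroup
      (fun v hv => mem_perp_singleton.2 (hc v v.2 hv)) (by
        rintro ⟨a1, a2, x, a3, a4⟩
        have a5 := h.finrank_hperp hU
        refine hE ⟨a1, by omega, _, ts_span_pair h.left a4 (mem_hperp.1 x.2).1, ?_⟩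
        rw [Submodule.span_insert, finrank_sup_span_singleton', finrank_span_singleton h.ne_zero]
        intro hx
        obtain ⟨c, hc⟩ := Submodule.mem_span_singleton.1 hx
        have := (mem_hperp.1 x.2).2
        rw [← hc, polar_smul_right', h.polar_eq', mul_one] at this
        exact a3 (Subtype.ext (by rw [← hc, this, zero_smul]; rfl)))
    refine hu0 ?_
    rw [show u = 0 from congrArg Subtype.val ((h.nd_hperp hU).eq_zero (x := ⟨u, hu⟩) fun y =>
      mem_perp_singleton.1 (h4.ge (AddSubgroup.mem_top y))), map_zero]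
  obtain ⟨c, hc⟩ := isSquare_of_two_eq_zero h2 (Q u / Q v)
  have hc0 : c ≠ 0 := by rintro rfl; exact div_ne_zero hu0 hv0 (by simpa using hc)
  exact ⟨_, hu0, e, e.2, f, f.2, u, u.2, c • v, U.smul_mem _ v.2, h', key hu,
    Submodule.smul_mem _ _ (key hv), rfl, by rw [Q_smul, pow_two, ← hc]; exact div_mul_cancel₀ _ hv0,
    by rw [polar_smul_right']; exact mul_ne_zero hc0 huv⟩

theorem nd_inf_perp (h2 : (2 : F) ≠ 0) {U : Submodule F V} (hU : ND (Q.restrict U)) {x : V}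
    (hx : x ∈ U) (h0 : Q x ≠ 0) : ND (Q.restrict (U ⊓ perp Q (F ∙ x))) := by
  refine nd_restrict_iff.2 fun y hy h => nd_restrict_iff.1 hU y hy.1 fun u hu => ?_
  have := h (u - (polar Q x u / (2 * Q x)) • x) ⟨sub_mem hu (U.smul_mem _ hx),
    mem_perp_singleton.2 (by rw [polar_sub_right, polar_smul_right', polar_self']; field_simp; ring)⟩
  rwa [polar_sub_right, polar_smul_right', polar_comm Q y x, mem_perp_singleton.1 hy.2, mul_zero,
    sub_zero] at this

theorem exists_refl_map (h2 : (2 : F) ≠ 0) {U : Submodule F V} {x y : V} (hx : x ∈ U) (hy : y ∈ U)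
    (h0 : Q x ≠ 0) (h : Q x = Q y) : ∃ v ∈ U, (refl Q v).1 x = y ∨ (refl Q v).1 x = -y := by
  by_cases h1 : Q (x - y) = 0
  · refine ⟨x - -y, sub_mem hx (neg_mem hy), Or.inr (refl_sub_apply (by simpa) fun h3 => ?_)⟩
    rw [Q_sub, polar_neg_right, Q.map_neg, ← h] at h3
    rw [Q_sub, ← h] at h1
    exact mul_ne_zero (mul_ne_zero h2 h2) h0 (by linear_combination h1 + h3)
  · exact ⟨x - y, sub_mem hx hy, Or.inl (refl_sub_apply h h1)⟩

theorem exists_sq_ne_one [Finite F] (h2 : (2 : F) ≠ 0) (h3 : Nat.card F ≠ 3) :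
    ∃ x : F, x ≠ 0 ∧ x ^ 2 ≠ 1 := by
  classical
  have := Fintype.ofFinite F
  by_contra! hc
  refine h3 ?_
  have h1 : (1 : F) ≠ -1 := fun h => h2 (by linear_combination h)
  rw [Nat.card_eq_fintype_card, ← Finset.card_univ, Finset.card_eq_three]
  refine ⟨0, 1, -1, by simp, by simp, h1, Finset.ext fun x => ?_⟩
  by_cases hx : x = 0
  · simp [hx]
  · simpa [hx] using hc x hx

namespace DecStr

variable {κ : Type*} {D : κ → Submodule F V} {k : ℕ} (S : DecStr Q D k) [FiniteDimensional F V]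
include S

theorem not_commutator_le (hE : ¬ Exc Q) [Finite F] (hk : k ≠ 0) {i : κ}
    (h3 : k + 3 ≤ finrank F V) : ¬ commutator (O Q) ≤ dstab Q D := by
  obtain ⟨u, hu, h0⟩ := Submodule.exists_mem_ne_zero_of_ne_bot (p := D i) fun h => by
    have := S.dim i
    rw [h, finrank_bot] at this; omega
  obtain ⟨z, hz, h1⟩ := S.exists_polar_ne hu h0
  obtain ⟨e, he, h2, h4⟩ := exists_singular_mem Q (perp Q (D i)) (by
    rw [finrank_perp S.nd, S.dim]; omega)
  refine not_commutator_le_dstab hu (eich_mem_commutator S.nd hE e z) fun j hj => ?_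
  rw [eich_apply_of_perp h4 (mem_perp'.1 he z hz) (mem_perp'.1 he u hu)] at hj
  obtain rfl : j = i := by
    by_contra h
    have := S.pr_of_ne (Ne.symm h) hj
    rw [map_add, map_smul, S.pr_eq_zero.2 he, S.pr_of_mem hu] at this
    exact h0 (by simpa using this)
  exact smul_ne_zero (show polar Q z u ≠ 0 by rwa [polar_comm]) h2
    (S.eq_zero (by simpa using sub_mem hj hu) (Submodule.smul_mem _ _ he))

theorem mem_dstab_of_nice [Finite κ] (hk : k ≠ 0) {δ : F} (hN : ∀ i, Nice Q (D i) δ) {g : O Q}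
    (h : ∀ i, ∀ c ∈ D i, Q c = δ → ∃ j, g.1 c ∈ D j) : g ∈ dstab Q D := by
  refine S.mem_dstab_of_maps hk fun i => ?_
  · obtain ⟨e, he, f, hf, u, hu, v, hv, h1, h2, h3, h4, h5, h6⟩ := hN i
    obtain ⟨j, hj⟩ := h i v hv h5
    have key : ∀ x, ∀ y ∈ D i, g.1 x ∈ D j → Q y = δ → polar Q x y ≠ 0 → g.1 y ∈ D j :=
      fun x y hy hx hy' hxy => by
        obtain ⟨l, hl⟩ := h i y hy hy'
        by_cases hjl : j = l
        · exact hjl ▸ hl
        · exact absurd (by simpa using S.orth' hjl hx hl) hxy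
    have a1 := key v u hu hj h4 (by rwa [polar_comm])
    have a2 : ∀ e ∈ D i, Q e = 0 → polar Q e u = 0 → polar Q e v = 0 → g.1 e ∈ D j :=
      fun e he b1 b2 b3 => by
        have := key v (u + (1 : F) • e) (add_mem hu ((D i).smul_mem _ he)) hj
          (by rw [Q_add_smul_of_singular b1 b2, h4])
          (by rwa [one_smul, polar_add_right, polar_comm Q v e, b3, add_zero, polar_comm])
        simpa using sub_mem this a1
    have a3 := a2 e he h1.left (mem_hperp.1 h2).1 (mem_hperp.1 h3).1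
    have a4 := a2 f hf h1.right (mem_hperp.1 h2).2 (mem_hperp.1 h3).2
    refine ⟨j, fun x hx => ?_⟩
    obtain ⟨a, b, w, hw, rfl⟩ := h1.exists_decomp x
    have hw' : w ∈ D i := by
      simpa using sub_mem hx (add_mem ((D i).smul_mem a he) ((D i).smul_mem b hf))
    have a5 : g.1 ((1 : F) • e + (δ - Q w) • f + w) ∈ D j := by
      have b1 := add_mem (add_mem ((D i).smul_mem 1 he) ((D i).smul_mem (δ - Q w) hf)) hw'
      have b2 : Q ((1 : F) • e + (δ - Q w) • f + w) = δ := by rw [h1.Q_comb' hw]; ring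
      by_cases b3 : polar Q u ((1 : F) • e + (δ - Q w) • f + w) = 0
      · exact key (u + f) _ b1 (by rw [map_add]; exact add_mem a1 a4) b2
          (by rw [polar_add_left, b3, h1.polar_right_comb hw]; simp)
      · exact key u _ b1 a1 b2 b3
    simp only [map_add, map_smul] at a5 ⊢
    exact add_mem (add_mem ((D j).smul_mem _ a3) ((D j).smul_mem _ a4)) (by
      simpa using sub_mem a5 (add_mem ((D j).smul_mem 1 a3) ((D j).smul_mem (δ - Q w) a4)))

/-- Elements with small commutator space fix all blocks. -/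
theorem mem_stab_of_small {y : O Q} (hy : y ∈ dstab Q D) {W : Submodule F V}
    (hW : ∀ x, y.1 x - x ∈ W) (h : finrank F W < k) (i : κ) : y ∈ stab Q (D i) := by
  obtain ⟨j, hj⟩ := exists_maps hy i
  obtain ⟨x, h1, h2⟩ : ∃ x : D i, x ≠ 0 ∧ y.1 x - x = 0 := by
    by_contra! hc
    have := LinearMap.finrank_le_finrank_of_injective
      (f := (((y.1 : V →ₗ[F] V) - LinearMap.id).codRestrict W hW).domRestrict (D i))
      ((injective_iff_map_eq_zero _).2 fun x hx => by_contra fun h0 =>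
        hc x h0 (congrArg Subtype.val hx))
    rw [S.dim] at this; omega
  obtain rfl := S.eq_of_mem (by simpa using h1) x.2 (sub_eq_zero.1 h2 ▸ hj x x.2)
  exact mem_stab_iff_mapsTo.2 hj

theorem pr_mem_span {a b : V} (ha : Q a ≠ 0) (hab : polar Q a b = 0) (h : a ∉ F ∙ b) {i : κ}
    (hy : refl Q a * refl Q b ∈ stab Q (D i)) : S.pr i a ∈ Submodule.span F {a, b} := by
  obtain ⟨x, h1, h2⟩ := exists_perp_polar_eq S.nd h (-Q a)
  have h3 := refl_mul_refl_apply hab x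
  rw [mem_perp_singleton.1 h1, h2] at h3
  have h4 := congrArg (S.pr i) h3
  rw [map_sub, S.pr_apply_of_stab hy, refl_mul_refl_apply hab] at h4
  simp only [mul_neg, inv_mul_cancel₀ ha, mul_zero, zero_smul, add_zero, neg_smul, one_smul,
    neg_neg] at h4
  exact h4 ▸ neg_mem (Submodule.mem_span_pair.2 ⟨_, _, rfl⟩)

variable [Finite F] (hE : ¬ Exc Q) (hH : dstab Q D ⊓ commutator (O Q) ≤ K)
include hH

theorem rc_of_mem {i j : κ} {a b : V} (ha : a ∈ D i) (hb : b ∈ D j) (h0 : Q b ≠ 0)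
    (h : Q a = Q b) : RC K a b := ⟨h, S.refl_mul_mem hH ha hb (h ▸ h0) h⟩

theorem le_dstab_of_nice [Finite κ] (hk : 3 ≤ k) (ht : ∀ i : κ, ∃ j l, j ≠ i ∧ l ≠ i ∧ j ≠ l)
    {i₀ : κ} {a : V} (ha : a ∈ D i₀) (ha0 : Q a ≠ 0) (hN : ∀ i, Nice Q (D i) (Q a))
    (hB : ∀ x, RC K x a → ∃ i, x ∈ D i) : K ≤ dstab Q D := fun g hg => by
  have key : ∀ g ∈ K, ∀ i j, ∀ c ∈ D i, Q c = Q a → g.1 c ∈ D j → g ∈ dstab Q D :=
    fun g hg i j c hc h1 h2 => S.mem_dstab_of_nice (by omega) hN fun l c' hc' h3 => hB _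
      (((S.rc_of_mem hH hc' hc (h1 ▸ ha0) (h3.trans h1.symm)).map hg).trans
        (S.rc_of_mem hH h2 ha ha0 (by simpa)))
  by_contra hg'
  have h1 : ∀ i, g.1 a ∉ D i := fun i h => hg' (key g hg _ _ a ha rfl h)
  obtain ⟨c, hc, h2, h3⟩ := (hN i₀).exists_perp (g.1 a)
  obtain ⟨j, h4⟩ := S.exists_pr_ne (ne_zero_of_Q_ne_zero (show Q (g.1 a) ≠ 0 by simpa))
  have h5 : ∀ i, i ≠ i₀ → ∃ b ∈ D i, b ≠ 0 ∧
      S.pr j (g.1 a) ∈ Submodule.span F {g.1 a, g.1 b} := fun i hi => by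
    obtain ⟨b, hb, h5, h6⟩ := (hN i).exists_perp ((g⁻¹).1 c)
    have h7 : polar Q (g.1 a) (g.1 b) = 0 := by simpa using S.orth' hi.symm ha hb
    have hb0 := ne_zero_of_Q_ne_zero (h5 ▸ ha0 : Q b ≠ 0)
    refine ⟨b, hb, hb0, S.pr_mem_span (by simpa) h7 (fun h => ?_) (S.mem_stab_of_small
      (key _ ((S.rc_of_mem hH ha hb (h5 ▸ ha0) h5.symm).map hg).2 _ i₀ c hc h2 ?_)
      (W := Submodule.span F {g.1 a, g.1 b}) (fun x => ?_) ?_ j)⟩
    · obtain ⟨t, ht⟩ := Submodule.mem_span_singleton.1 h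
      rw [← map_smul, g.1.injective.eq_iff] at ht
      exact hi (S.eq_of_mem (ne_zero_of_Q_ne_zero ha0) (ht ▸ (D i).smul_mem t hb) ha)
    · rwa [O.mul_apply, refl_apply_of_perp (v := g.1 b) (by rwa [O.polar_left, polar_comm]),
        refl_apply_of_perp h3]
    · rw [refl_mul_refl_apply h7]
      exact neg_mem (Submodule.mem_span_pair.2 ⟨_, _, rfl⟩)
    · exact (finrank_span_pair_le _ _).trans_lt (by omega)
  obtain ⟨i, l, hi, hl, hil⟩ := ht i₀
  obtain ⟨b, hb, hb0, h6⟩ := h5 i hi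
  obtain ⟨b', hb', -, h7⟩ := h5 l hl
  obtain ⟨s, t, h6⟩ := Submodule.mem_span_pair.1 h6
  obtain ⟨s', t', h7⟩ := Submodule.mem_span_pair.1 h7
  have h8 := congrArg (S.pr i) (g.1.injective (show g.1 (s • a + t • b) = g.1 (s' • a + t' • b') by
    simp [h6, h7]))
  simp only [map_add, map_smul, S.pr_of_ne hi ha, S.pr_of_ne hil hb', S.pr_of_mem hb, smul_zero,
    zero_add, smul_eq_zero, hb0, or_false] at h8
  rw [h8, zero_smul, add_zero] at h6
  exact h1 j ((Submodule.smul_mem_iff _ (by rintro rfl; simp [← h6] at h4)).1 (h6 ▸ S.pr_mem j _))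

include hE

theorem commutator_le_of_singular (hk : 3 ≤ k) {i₀ i : κ} {b a e : V} (hb : b ∈ D i₀) (hb0 : Q b ≠ 0)
    (h : RC K a b) (ha : a ∉ D i) (hai : Q (S.pr i a) ≠ 0) (he : e ∈ D i) (he0 : e ≠ 0)
    (he1 : Q e = 0) (hea : polar Q a e = 0) : commutator (O Q) ≤ K := by
  obtain ⟨j, hj, -⟩ : ∃ j, j ≠ i ∧ S.pr j a ≠ 0 := by simpa [S.mem_iff] using ha
  obtain ⟨c, hc, h1⟩ := exists_Q_eq_mem (S.ndD j) (by rw [S.dim]; omega) (Q b)
  obtain ⟨z, h2, h3⟩ := exists_perp_polar_eq S.nd (W := F ∙ e) (u := S.pr i a) (fun h => by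
    obtain ⟨t, ht⟩ := Submodule.mem_span_singleton.1 h
    simp [← ht, Q_smul, he1] at hai) (-1)
  have h4 := (h.trans (S.rc_of_mem hH hc hb hb0 h1).symm).2
  have h5 : S.pr i z ∈ AE K e := ⟨by rw [S.polar_pr he, mem_perp_singleton.1 h2],
    S.full hE hH i e he _ (S.pr_mem i z)⟩
  have h6 := sub_mem (apply_mem_AE h4 (by
    rw [O.mul_apply, refl_apply_of_perp (S.orth' hj hc he), refl_apply_of_perp hea]) h5) h5
  rw [O.mul_apply, refl_apply_of_perp (S.orth' hj hc (S.pr_mem i z)), refl_apply,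
    ← S.polar_pr' (S.pr_mem i z), S.polar_pr (S.pr_mem i a), h3] at h6
  refine S.commutator_le_of_full hE hH (by omega) (by omega) (i := i) (j := i)
    (by rw [sup_idem, S.dim]; exact hk) ((S.full hE hH i).grow
      (good_of_nd (S.ndD i) (by rw [S.dim]; exact hk) he he1 he0)) le_sup_left le_sup_left
    (Submodule.mem_sup_right (Submodule.subset_span h6)) fun h7 => ha ?_
  simpa [Submodule.smul_mem_iff, h.1, hb0] using h7

theorem commutator_le_of_sq (h2 : (2 : F) ≠ 0) (hk : 3 ≤ k) {i₀ i : κ} {b a : V} (hb : b ∈ D i₀)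
    (hb0 : Q b ≠ 0) (hN : Nice Q (D i) (Q b)) (h : RC K a b) (ha : a ∉ D i) {c : F} (hc : c ≠ 0)
    (hai : Q (S.pr i a) = c ^ 2 * Q b) : commutator (O Q) ≤ K := by
  obtain ⟨e, he, f, -, u, hu, v, -, h1, h3, -, h4, -⟩ := hN
  have h5 : Q (c • u) = Q (S.pr i a) := by rw [Q_smul, h4, hai]
  have h6 : Q (S.pr i a) ≠ 0 := by rw [hai]; simp [hc, hb0]
  obtain ⟨v, hv, h7⟩ := exists_refl_map h2 ((D i).smul_mem c hu) (S.pr_mem i a) (h5 ▸ h6) h5
  have h8 := apply_mem_of_mem_stab (refl_mem_stab_of_mem (Q := Q) hv) he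
  have h9 : polar Q ((refl Q v).1 (c • u)) ((refl Q v).1 e) = 0 := by
    rw [O.map_polar, polar_smul_left', polar_comm, (mem_hperp.1 h3).1, mul_zero]
  refine S.commutator_le_of_singular hE hH hk hb hb0 h ha h6 h8 (O.apply_ne_zero _ h1.ne_zero)
    (by simp [h1.left]) ?_
  rw [← S.polar_pr' h8]
  rcases h7 with h7 | h7 <;> simpa [h7] using h9

omit hE hH in
theorem exists_polar_eq (h2 : (2 : F) ≠ 0) (hk : 3 ≤ k) {i : κ} {a : V} (hai : Q (S.pr i a) ≠ 0)
    (δ μ : F) : ∃ b ∈ D i, Q b = δ ∧ polar Q a b = μ := by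
  obtain ⟨w, hw, h1⟩ := exists_Q_eq_mem (nd_inf_perp h2 (S.ndD i) (S.pr_mem i a) hai) (by
    have := finrank_le_inf_perp S.nd (D i) (F ∙ S.pr i a)
    have := finrank_span_singleton_le (F := F) (S.pr i a)
    rw [S.dim] at *; omega) (δ - μ ^ 2 / (4 * Q (S.pr i a)))
  have h3 := mem_perp_singleton.1 hw.2
  have h4 := add_mem ((D i).smul_mem (μ / (2 * Q (S.pr i a))) (S.pr_mem i a)) hw.1
  have h5 : (4 : F) ≠ 0 := by simpa [← two_mul, show (2 : F) * 2 = 4 by norm_num] using mul_ne_zero h2 h2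
  refine ⟨_, h4, ?_, ?_⟩
  · rw [Q_add, polar_smul_left', h3, h1, Q_smul]; field_simp; ring
  · rw [← S.polar_pr' h4, polar_add_right, h3, polar_smul_right', polar_self']; field_simp; ring

theorem commutator_le_of_ne (h2 : (2 : F) ≠ 0) (hk : 3 ≤ k) {i₀ i : κ} {b a : V} (hb : b ∈ D i₀)
    (hb0 : Q b ≠ 0) (hN : Nice Q (D i) (Q b)) (h : RC K a b) (ha : a ∉ D i)
    (h0 : Q (S.pr i a) ≠ 0) (h1 : Q (S.pr i a) ≠ 2 * Q b) : commutator (O Q) ≤ K := by
  have h3 := sub_ne_zero.2 h1.symm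
  obtain ⟨c, hc, h4, h5⟩ := S.exists_polar_eq h2 hk h0 (Q b) (2 * Q b ^ 2 / (2 * Q b - Q (S.pr i a)))
  refine S.commutator_le_of_sq hE hH h2 hk hb hb0 hN ((S.rc_of_mem hH hc hb hb0 h4).refl_apply h)
    (fun h6 => ha ?_) (c := Q (S.pr i a) / (2 * Q b - Q (S.pr i a))) (div_ne_zero h0 h3) ?_
  · rw [refl_apply, h5] at h6
    simpa [Submodule.smul_mem_iff, h.1, hb0, h2, h3] using sub_mem hc h6
  · rw [refl_apply, map_sub, map_smul, S.pr_of_mem hc, Q_sub, Q_smul, polar_smul_right',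
      S.polar_pr hc, polar_comm Q c, h5, h4, h.1]
    obtain ⟨d, hd⟩ : ∃ d, d = 2 * Q b - Q (S.pr i a) := ⟨_, rfl⟩
    rw [← hd] at h3 ⊢
    rw [show Q (S.pr i a) = 2 * Q b - d by rw [hd]; ring]
    field_simp; ring

theorem commutator_le_of_rc [Finite κ] (hk : 3 ≤ k) (h3 : k = 3 → Nat.card F ≠ 3) {i₀ : κ} {b a : V}
    (hb : b ∈ D i₀) (hb0 : Q b ≠ 0) (hN : ∀ i, Nice Q (D i) (Q b)) (h : RC K a b)
    (ha : ∀ i, a ∉ D i) : commutator (O Q) ≤ K := by
  obtain ⟨i, hi⟩ := S.exists_Q_pr_ne (h.1 ▸ hb0 : Q a ≠ 0)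
  by_cases hk3 : k = 3
  swap
  · obtain ⟨e, he, h1, h2⟩ := exists_singular_mem Q (D i ⊓ perp Q (F ∙ a)) (by
      have := finrank_le_inf_perp S.nd (D i) (F ∙ a)
      have := finrank_span_singleton_le (F := F) a
      rw [S.dim] at *; omega)
    exact S.commutator_le_of_singular hE hH hk hb hb0 h (ha i) hi he.1 h1 h2
      (mem_perp_singleton.1 he.2)
  have h2 : (2 : F) ≠ 0 := fun h2 => by
    have := even_finrank_of_two_eq_zero (S.ndD i) h2
    rw [S.dim, hk3] at this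
    exact absurd this (by decide)
  by_contra hc
  have h4 : ∀ i, Q (S.pr i a) ≠ 0 → Q (S.pr i a) = 2 * Q b := fun i hi => by_contra fun h1 =>
    hc (S.commutator_le_of_ne hE hH h2 hk hb hb0 (hN i) h (ha i) hi h1)
  obtain ⟨j, hj⟩ := S.exists_Q_pr_ne (x := a - S.pr i a) fun h0 => hb0 (by
    have := S.Q_pr_add i a
    rw [h0, h4 i hi, h.1] at this
    linear_combination -this)
  have hij : j ≠ i := by rintro rfl; simp at hj
  rw [map_sub, S.pr_pr_ne hij, sub_zero] at hj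
  obtain ⟨μ, h5, h6⟩ := exists_sq_ne_one h2 (h3 hk3)
  obtain ⟨c, hc', h7, h8⟩ := S.exists_polar_eq h2 hk hi (Q b) (μ * Q b)
  have h9 : Q (S.pr j ((refl Q a).1 c)) = μ ^ 2 * (2 * Q b) := by
    rw [refl_apply, map_sub, map_smul, S.pr_of_ne hij hc', zero_sub, Q.map_neg, Q_smul, h4 j hj, h8,
      h.1]
    field_simp
  by_cases h10 : (refl Q a).1 c ∈ D j
  · rw [S.pr_of_mem h10, O.map_Q, h7] at h9
    exact hc (S.commutator_le_of_sq hE hH h2 hk hb hb0 (hN i) h (ha i) (inv_ne_zero h5) (by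
      rw [h4 i hi]; field_simp; exact (mul_left_cancel₀ hb0 (by linear_combination h9)).symm))
  · exact hc (S.commutator_le_of_ne hE hH h2 hk hb hb0 (hN j)
      ((S.rc_of_mem hH hc' hb hb0 h7).refl_apply h) h10 (by simp [h9, h5, h2, hb0])
      (by simpa [h9, h2, hb0] using h6))

theorem max_two (hk : 5 ≤ k) {i j : κ} (hij : i ≠ j) (ht : ∀ l, l = i ∨ l = j) :
    K ≤ dstab Q D ∨ commutator (O Q) ≤ K := by
  have : Finite κ := Finite.of_surjective (fun b : Bool => if b then i else j) fun l => by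
    rcases ht l with rfl | rfl
    exacts [⟨true, rfl⟩, ⟨false, rfl⟩]
  have h1 : ∀ {i j}, i ≠ j → (∀ l, l = i ∨ l = j) → perp Q (D i) = D j := fun {i j} hij ht =>
    le_antisymm (fun x hx => S.mem_iff.2 fun l hl => by
      rw [(ht l).resolve_right hl, S.pr_eq_zero.2 hx]) (S.orth i j hij)
  have h2 := h1 hij ht
  have h3 : stab Q (D i) ≤ dstab Q D := fun g hg => mem_dstab_of_forall fun l => by
    rcases ht l with rfl | rfl
    exacts [hg, h2 ▸ stab_le_stab_perp _ hg]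
  refine (nd_dichotomy S.nd (S.ndD i) (by rwa [S.dim]) (by rw [h2, S.dim]; omega)
    ((inf_le_inf_right _ h3).trans hH)).imp_left fun h g hg => (h g hg).elim (h3 ·) fun h4 => ?_
  have h5 : ∀ x ∈ D i, g.1 x ∈ D j := fun x hx => h2 ▸ le_perp_comm.1 h4 ⟨x, hx, rfl⟩
  refine S.mem_dstab_of_maps (by omega) fun l => ?_
  rcases ht l with rfl | rfl
  · exact ⟨_, h5⟩
  · refine ⟨i, fun x hx => ?_⟩
    rw [← h1 hij.symm fun l => (ht l).symm, ← S.map_eq h5, ← O.map_perp, h2]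
    exact ⟨x, hx, rfl⟩

theorem max_three [Fintype κ] (hk : 3 ≤ k) (h3 : k = 3 → Nat.card F ≠ 3)
    (h4 : ∀ i, ¬ Exc (Q.restrict (D i))) (ht : 2 ≤ Fintype.card κ) (h5 : Fintype.card κ = 2 → 5 ≤ k) :
    K ≤ dstab Q D ∨ commutator (O Q) ≤ K := by
  classical
  by_cases h2 : Fintype.card κ = 2
  · obtain ⟨i, j, hij, h⟩ := Finset.card_eq_two.1 h2
    exact S.max_two hE hH (h5 h2) hij fun l => by simpa using h.le (Finset.mem_univ l)
  obtain ⟨i₀⟩ : Nonempty κ := Fintype.card_pos_iff.1 (by omega)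
  obtain ⟨δ, hδ, hN⟩ := exists_nice (S.ndD i₀) (by rwa [S.dim]) (h4 i₀)
  obtain ⟨b, hb, rfl, -⟩ := hN.exists_perp 0
  have hN' := fun i => (S.iso i₀ i).elim fun g hg => hN.map hg
  by_cases hB : ∀ x, RC K x b → ∃ i, x ∈ D i
  · refine Or.inl (S.le_dstab_of_nice hH hk (fun i => ?_) hb hδ hN' hB)
    obtain ⟨j, hj, l, hl, h⟩ := Finset.one_lt_card.1 (show 1 < (Finset.univ.erase i).card by
      rw [Finset.card_erase_of_mem (Finset.mem_univ i), Finset.card_univ]; omega)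
    exact ⟨j, l, Finset.ne_of_mem_erase hj, Finset.ne_of_mem_erase hl, h⟩
  · push Not at hB
    obtain ⟨a, h, ha⟩ := hB
    exact Or.inr (S.commutator_le_of_rc hE hH hk h3 hb hδ hN' h ha)

end DecStr

variable {ι : Type} [Fintype ι] [DecidableEq ι] {Q : QuadraticForm F (ι → F)}

theorem decStr_of (hQ : ND Q) {t k : ℕ} {D : Fin t → Submodule F (ι → F)}
    (hD : Geo.IsOrthogonalMDecomposition ⇑Q k D) : DecStr Q D k where
  nd := hQ
  ndD i := nd_restrict_of (hD.decomp.nondegenerate i)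
  orth i j h _ hv := mem_perp.2 fun u hu => hD.decomp.orthogonal i j h u hu _ hv
  top := hD.decomp.decomp.iSup_eq_top
  dim := hD.decomp.decomp.finrank_eq
  iso i j := by
    obtain ⟨e, he⟩ := hD.isometric i j
    obtain ⟨g, hg⟩ := witt_equiv hQ e he
    exact ⟨g, fun x hx => hg ⟨x, hx⟩ ▸ (e ⟨x, hx⟩).2⟩

theorem isMaximalIn_dec_three [Finite F] (hQ : ND Q) (hn : 9 ≤ Fintype.card ι) {t k : ℕ}
    {D : Fin t → Submodule F (ι → F)} (hD : Geo.IsOrthogonalMDecomposition ⇑Q k D) (hk : 3 ≤ k)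
    (h3 : k = 3 → Nat.card F ≠ 3)
    (h4 : ¬ (k = 4 ∧ Nat.card F = 2 ∧ ∀ i, Geo.IsPlusTypeOn ⇑Q (D i))) :
    Geo.IsMaximalIn (Geo.omegaGL ⇑Q) (Geo.decompositionStabilizer D ⊓ Geo.omegaGL ⇑Q) := by
  have S := decStr_of hQ hD
  have h1 := S.finrank_eq
  have ht := hD.decomp.decomp.two_le
  have hE : ¬ Exc Q := not_exc_of_five_le (by simp; omega)
  rw [Fintype.card_fin] at h1
  refine isMaximalIn_of mem_decompositionStabilizer_iff (S.not_commutator_le hE (by omega)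
    (i := ⟨0, by omega⟩) (by nlinarith)) fun K hH _ => S.max_three hE hH hk h3 (fun i h => ?_)
      (by simpa) fun h => ?_
  · obtain ⟨a1, a2, W, a3, a4⟩ := h
    refine h4 ⟨(S.dim i).symm.trans a2, a1, fun j => ?_⟩
    obtain ⟨g, hg⟩ := S.iso i j
    refine ⟨(W.map (D i).subtype).map (g.1 : (ι → F) →ₗ[F] (ι → F)), ?_, ?_, ?_⟩
    · rintro _ ⟨_, ⟨x, -, rfl⟩, rfl⟩; exact hg _ x.2
    · rintro _ ⟨_, ⟨x, hx, rfl⟩, rfl⟩; exact (O.map_Q g _).trans (a3 x hx)
    · rw [LinearEquiv.finrank_map_eq, Submodule.finrank_map_subtype_eq, a4, S.dim, ← S.dim i, a2]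
  · simp at h h1; subst h; omega

end Cfsg.Lib.OMax
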