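import Cfsg.Agent.Lib.OMax.Low

/-!
# Stabilisers of non-degenerate `4`-spaces in dimensions `7` and `8`
-/

set_option autoImplicit false

namespace Cfsg.Lib.OMax

open QuadraticMap Module Cfsg.Lib.Orth
open Cfsg.Lib.Unitary (exists_notMem_of_lt finrank_span_singleton_le)

section General

variable {F V : Type*} [Field F] [AddCommGroup V] [Module F V] {Q : QuadraticForm F V}
  {K : Subgroup (O Q)}

theorem le_of_singular_mem [Finite F] [FiniteDimensional F V] {U X : Submodule F V}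
    (hU : ND (Q.restrict U)) (h3 : 3 ≤ finrank F U) (h : ∀ v ∈ U, Q v = 0 → v ∈ X) : U ≤ X := by
  obtain ⟨e, f, hef⟩ := exists_isHyp_of_three_le hU h3
  have := addSubgroup_eq_top_of_singular hef (X.comap U.subtype).toAddSubgroup
    fun v hv => h v v.2 hv
  intro u hu
  have h1 : (⟨u, hu⟩ : U) ∈ (X.comap U.subtype).toAddSubgroup := by rw [this]; trivial
  exact h1

/-- An Eichler map at a mixed vector stabilising `U`. -/
theorem mixed_eich [FiniteDimensional F V] (hQ : ND Q) {U : Submodule F V}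
    (hU : ND (Q.restrict U)) {u w y : V} (hu : u ∈ U) (hw : w ∈ perp Q U) (hu0 : u ≠ 0)
    (hw0 : w ≠ 0) (h0 : Q (u + w) = 0) (hy : polar Q (u + w) y = 0) (hy' : y ∉ F ∙ (u + w))
    (h : ∀ t : F, eich Q (u + w) (t • y) ∈ stab Q U) :
    u ∈ Submodule.span F {u + w, y} ∧ ∀ t : F, t = 0 ∨ t = 1 := by
  have hW := nd_restrict_perp hQ hU
  have hc := isCompl_perp hU
  obtain ⟨u', hu', w', hw', rfl⟩ := Submodule.mem_sup.1 (hc.sup_eq_top ▸ Submodule.mem_top :
    y ∈ U ⊔ perp Q U)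
  have dis : ∀ v ∈ U, v ∈ perp Q U → v = 0 := fun v h1 h2 => hc.disjoint.le_bot ⟨h1, h2⟩
  have key : ∀ {u w u' w' : V} {U : Submodule F V}, ND (Q.restrict U) → u ∈ U → w ∈ perp Q U →
      u' ∈ U → w' ∈ perp Q U → Q (u + w) = 0 → polar Q (u + w) (u' + w') = 0 → ∀ t : F, t ≠ 0 →
      eich Q (u + w) (t • (u' + w')) ∈ stab Q U → ∀ x ∈ U,
      (polar Q u' x - t * Q (u' + w') * polar Q u x) • w = polar Q u x • w' := by
    intro u w u' w' U hU hu hw hu' hw' h0 hy t ht h x hx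
    have h1 := sub_mem (apply_mem_of_mem_stab h hx) hx
    rw [eich_apply h0 (by rw [polar_smul_right', hy, mul_zero])] at h1
    simp only [polar_smul_left', polar_add_left, mem_perp'.1 hw x hx, mem_perp'.1 hw' x hx,
      add_zero, Q_smul] at h1
    have h2 := sub_mem h1 (sub_mem (U.smul_mem (t * polar Q u' x - t ^ 2 * Q (u' + w') *
      polar Q u x) hu) (U.smul_mem (t * polar Q u x) hu'))
    have h3 : t • ((polar Q u' x - t * Q (u' + w') * polar Q u x) • w - polar Q u x • w') = 0 :=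
      (nd_restrict_iff_disjoint.1 hU).le_bot ⟨show _ ∈ U by convert h2 using 1; (module),
        Submodule.smul_mem _ _ (sub_mem (Submodule.smul_mem _ _ hw) (Submodule.smul_mem _ _ hw'))⟩
    exact sub_eq_zero.1 ((smul_eq_zero.1 h3).resolve_left ht)
  obtain ⟨x, hx, hx1⟩ : ∃ x ∈ U, polar Q u x ≠ 0 := by
    by_contra! hn
    exact hu0 (dis u hu (mem_perp'.2 hn))
  obtain ⟨z, hz, hz1⟩ : ∃ z ∈ perp Q U, polar Q w z ≠ 0 := by
    by_contra! hn
    exact hw0 (dis w (perp_perp hQ U ▸ mem_perp'.2 hn) hw)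
  have hp : U ≤ perp Q (perp Q U) := (perp_perp hQ U).ge
  have k1 := fun t ht => key hU hu hw hu' hw' h0 hy t ht (h t) x hx
  have k2 := key hW hw (hp hu) hw' (hp hu') (by rwa [add_comm]) (by rwa [add_comm, add_comm w'])
    1 one_ne_zero (by rw [add_comm, add_comm w', stab_perp hQ]; exact h 1) z hz
  obtain ⟨β, rfl⟩ : ∃ β : F, u' = β • u := ⟨_, by
    rw [← inv_smul_smul₀ hz1 u', ← k2, smul_smul]⟩
  obtain ⟨α, rfl⟩ : ∃ α : F, w' = α • w := ⟨_, by
    rw [← inv_smul_smul₀ hx1 w', ← k1 1 one_ne_zero, smul_smul]⟩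
  have k3 : ∀ t : F, t ≠ 0 → β - α = t * Q (β • u + α • w) := fun t ht => by
    have := k1 t ht
    rw [smul_smul, polar_smul_left'] at this
    have := smul_left_injective F hw0 this
    exact mul_right_cancel₀ hx1 (by linear_combination this)
  have hne : β - α ≠ 0 := fun hab => hy' (by
    rw [sub_eq_zero.1 hab, ← smul_add]
    exact Submodule.smul_mem _ _ (Submodule.mem_span_singleton_self _))
  refine ⟨Submodule.mem_span_pair.2 ⟨-((β - α)⁻¹ * α), (β - α)⁻¹, ?_⟩, fun t => ?_⟩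
  · match_scalars <;> field_simp <;> ring
  · refine or_iff_not_imp_left.2 fun ht => ?_
    have h1 := k3 1 one_ne_zero
    rw [one_mul] at h1
    exact mul_right_cancel₀ hne (by rw [one_mul, h1, ← k3 t ht, h1])

variable [Finite F] [FiniteDimensional F V]

theorem maxFull_of (hQ : ND Q) {U : Submodule F V} (hU : ND (Q.restrict U))
    (h3 : 3 ≤ finrank F U) (h3' : 3 ≤ finrank F (perp Q U))
    (hH : stab Q U ⊓ commutator (O Q) ≤ K) (hK' : ¬ commutator (O Q) ≤ K) : MaxFull K U := by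
  have hn := finrank_add_finrank_perp hQ U
  have hE := not_exc_of_five_le (Q := Q) (by omega)
  have A : Full K U := fun u hu z hz =>
    hH ⟨eich_mem_stab_of_mem hu hz, eich_mem_commutator hQ hE _ _⟩
  obtain ⟨e, he⟩ := exists_good hU h3
  obtain ⟨M, hM, hmax⟩ := A.exists_maxFull he
  rcases le_perp_or_le (nd_restrict_perp hQ hU) h3' fun u hu z hz x hx => apply_mem_of_mem_stab
    (hmax.mem_stab he hM (hH ⟨eich_mem_stab_of_perp hu hz, eich_mem_commutator hQ hE _ _⟩)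
      (eich_mem_stab_of_perp hu hz)) hx with h | h
  · rw [perp_perp hQ] at h
    rwa [le_antisymm hM h]
  · refine absurd ((hmax.full.mono ?_).commutator_le hQ (by omega)) hK'
    rw [← (isCompl_perp hU).sup_eq_top]
    exact sup_le hM h

theorem MaxFull.exists_eich {U Y : Submodule F V} (h : MaxFull K U) (hU : ND (Q.restrict U))
    (h3 : 3 ≤ finrank F U) (hY : Full K Y) (hY' : ND (Q.restrict Y)) {e : V} (heU : e ∈ U)
    (heY : e ∈ Y) (he : Q e = 0) (h0 : e ≠ 0) :
    ∃ z, polar Q e z = 0 ∧ ∀ y ∈ Y, (eich Q e z).1 y ∈ U := by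
  have hG := good_of_nd hU h3 heU he h0
  obtain ⟨-, f, hf, -, -, hh, -⟩ := id hG
  obtain ⟨⟨f', hf'⟩, hh'⟩ := exists_isHyp hY' (e := ⟨e, heY⟩) he (by simpa)
  have h1 : polar Q e f' = 1 := hh'.polar_eq
  obtain ⟨z, hz, h2⟩ := hh.exists_eich_of_polar_ne (x := f') hh'.right (by simp [h1])
  have h4 := (mem_hperp.1 hz).1
  refine ⟨z, h4, fun y hy => ?_⟩
  have h5 : polar Q e (y - polar Q e y • f') = 0 := by simp [polar_sub_right, h1]
  have h6 := h.mem_of_full hY hG heY (sub_mem hy (Y.smul_mem _ hf')) h5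
  rw [← sub_add_cancel y (polar Q e y • f'), map_add, map_smul, h2, eich_apply_of_perp he h4 h5]
  exact add_mem (add_mem h6 (U.smul_mem _ heU)) (U.smul_mem _ (U.smul_mem _ hf))

/-- An element of `K` mapping a singular vector of `U` into `U` stabilises `U`. -/
theorem MaxFull.mem_stab_of_apply_mem (hQ : ND Q) (h5 : 5 ≤ finrank F V) {U : Submodule F V}
    (h : MaxFull K U) (hU : ND (Q.restrict U)) (h3 : 3 ≤ finrank F U)
    (hH : stab Q U ⊓ commutator (O Q) ≤ K) (hK : K ≤ commutator (O Q)) {x : O Q} (hx : x ∈ K)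
    {e : V} (heU : e ∈ U) (he : Q e = 0) (h0 : e ≠ 0) (hxe : x.1 e ∈ U) : x ∈ stab Q U := by
  have he' : Q (x.1 e) = 0 := by rwa [O.map_Q]
  have h0' : x.1 e ≠ 0 := by simpa
  obtain ⟨z, hz, h1⟩ := h.exists_eich hU h3 (h.full.map hx) (nd_map hU x) hxe ⟨e, heU, rfl⟩ he' h0'
  have h2 : eich Q (x.1 e) z * x ∈ stab Q U :=
    mem_stab_iff_mapsTo.2 fun w hw => h1 _ ⟨w, hw, rfl⟩
  have h4 := (mul_mem_cancel_right hx).1 (hH ⟨h2, mul_mem
    (eich_mem_commutator hQ (not_exc_of_five_le h5) _ _) (hK hx)⟩)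
  exact (mul_mem_cancel_left (eich_mem_stab_of_mem hxe
    (h.max _ (good_of_nd hU h3 hxe he' h0') z ⟨hz, h4⟩))).1 h2

theorem max_four (hQ : ND Q) {U : Submodule F V} (hU : ND (Q.restrict U))
    (h4 : 4 ≤ finrank F U) (h3 : 3 ≤ finrank F (perp Q U))
    (h2 : (∀ t : F, t = 0 ∨ t = 1) → ∀ a ∈ U, ∀ b ∈ U, Q a = 0 → Q b = 0 → polar Q a b = 0 →
      a ≠ 0 → b ∈ F ∙ a)
    (hni : ∀ g : O Q, ¬ U.map (g.1 : V →ₗ[F] V) ≤ perp Q U)
    (hH : stab Q U ⊓ commutator (O Q) ≤ K) (hK : K ≤ commutator (O Q)) :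
    K ≤ stab Q U ∨ commutator (O Q) ≤ K := by
  refine or_iff_not_imp_right.2 fun hK' g hg => ?_
  by_contra hgU
  have hn := finrank_add_finrank_perp hQ U
  have hW := nd_restrict_perp hQ hU
  have hc := isCompl_perp hU
  have M1 := maxFull_of hQ hU (by omega) h3 hH hK'
  have M2 := maxFull_of hQ hW h3 (by rw [perp_perp hQ]; omega) (by rwa [stab_perp hQ]) hK'
  set Y := U.map (g.1 : V →ₗ[F] V) with hYdef
  have hY : Full K Y := M1.full.map hg
  have hY' : ND (Q.restrict Y) := nd_map hU g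
  have hY4 : 4 ≤ finrank F Y := by rwa [hYdef, LinearEquiv.finrank_map_eq]
  have n1 : ∀ y ∈ Y, y ∈ U → Q y = 0 → y = 0 := by
    rintro _ ⟨e, he, rfl⟩ h1 h2
    by_contra h0
    exact hgU (M1.mem_stab_of_apply_mem hQ (by omega) hU (by omega) hH hK hg he
      (by simpa using h2) (by simpa using h0) h1)
  have n2 : ∀ y ∈ Y, y ∈ perp Q U → Q y = 0 → y = 0 := fun y h0 h1 h2 => by
    by_contra h5
    obtain ⟨z, -, h6⟩ := M2.exists_eich hW h3 hY hY' h1 h0 h2 h5
    exact hni (eich Q y z * g) (by rintro _ ⟨w, hw, rfl⟩; exact h6 _ ⟨w, hw, rfl⟩)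
  have n3 : ∀ y ∈ Y, Q y = 0 → y ≠ 0 → y ∈ (Y ⊓ U) ⊔ (Y ⊓ perp Q U) ∧ ∀ t : F, t = 0 ∨ t = 1 := by
    intro y hy h0 h1
    obtain ⟨u, hu, w, hw, rfl⟩ := Submodule.mem_sup.1 (hc.sup_eq_top ▸ Submodule.mem_top :
      y ∈ U ⊔ perp Q U)
    have d1 := finrank_le_inf_perp hQ U (F ∙ (u + w))
    have d2 := finrank_span_singleton_le (F := F) (u + w)
    obtain ⟨e, he, he0, he1⟩ := exists_singular_mem Q (U ⊓ perp Q (F ∙ (u + w))) (by omega)
    have d3 := finrank_le_inf_perp hQ Y (Submodule.span F {u + w, e})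
    have d4 := finrank_span_pair_le (F := F) (u + w) e
    obtain ⟨y, hy1, hy2⟩ := exists_notMem_of_lt (W := Y ⊓ perp Q (Submodule.span F {u + w, e}))
      (Z := F ∙ (u + w)) (by omega)
    have hy3 := mem_perp_pair.1 hy1.2
    obtain ⟨k1, k2⟩ := mixed_eich hQ hU hu hw (by
      rintro rfl; exact h1 (n2 _ hy (by simpa) h0)) (by
      rintro rfl; exact h1 (n1 _ hy (by simpa) h0)) h0 hy3.1 hy2 fun t =>
      M1.mem_stab_of_apply_mem hQ (by omega) hU (by omega) hH hK
        (hY _ hy _ (Y.smul_mem t hy1.1)) he.1 he1 he0 (by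
          rw [eich_apply_of_perp' (mem_perp_singleton.1 he.2)
            (by simp [polar_comm Q y e, hy3.2])]
          exact he.1)
    have k3 : u ∈ Y := (Submodule.span_le.2 (by simp [Set.insert_subset_iff, hy, hy1.1]) : _ ≤ Y) k1
    exact ⟨Submodule.add_mem_sup ⟨k3, hu⟩ ⟨(Y.add_mem_iff_right k3).1 hy, hw⟩, k2⟩
  obtain ⟨y₀, a1, a2, a3⟩ := exists_singular_mem Q Y (by omega)
  have ht := (n3 y₀ a1 a3 a2).2
  have h11 : (1 : F) + 1 = 0 := (ht _).resolve_right (by simp)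
  have hle := Submodule.finrank_mono (le_of_singular_mem (X := (Y ⊓ U) ⊔ (Y ⊓ perp Q U)) hY'
    (by omega) fun v hv h0 => by
      by_cases h1 : v = 0
      · simp [h1]
      · exact (n3 v hv h0 h1).1)
  have d5 := Submodule.finrank_add_le_finrank_add_finrank (Y ⊓ U) (Y ⊓ perp Q U)
  have an : ∀ X : Submodule F V, (∀ y ∈ X, Q y = 0 → y = 0) → finrank F X ≤ 2 ∧
      (2 ≤ finrank F X → ∃ a ∈ X, ∃ b ∈ X, b ∉ F ∙ a ∧ Q a = 1 ∧ Q b = 1 ∧ polar Q a b = 1) := by
    intro X hX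
    refine ⟨by
      by_contra! hlt
      obtain ⟨v, v1, v2, v3⟩ := exists_singular_mem Q X hlt
      exact v2 (hX v v1 v3), fun h2 => ?_⟩
    obtain ⟨a, ha, ha0⟩ := exists_notMem_of_lt (W := X) (Z := ⊥) (by rw [finrank_bot]; omega)
    have := finrank_span_singleton_le (F := F) a
    obtain ⟨b, hb, hb0⟩ := exists_notMem_of_lt (W := X) (Z := F ∙ a) (by omega)
    have q : ∀ v ∈ X, v ≠ 0 → Q v = 1 := fun v hv h0 =>
      (ht _).resolve_left fun h => h0 (hX v hv h)
    have q1 := q a ha (by simpa using ha0)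
    have q2 := q b hb (by rintro rfl; simp at hb0)
    have q3 := q _ (add_mem ha hb) fun h => hb0 (by
      rw [eq_neg_of_add_eq_zero_right h]; exact neg_mem (Submodule.mem_span_singleton_self a))
    rw [Orth.Q_add, q1, q2, h11, zero_add] at q3
    exact ⟨a, ha, b, hb, hb0, q1, q2, q3⟩
  obtain ⟨b1, b2⟩ := an (Y ⊓ U) fun y hy => n1 y hy.1 hy.2
  obtain ⟨c1, c2⟩ := an (Y ⊓ perp Q U) fun y hy => n2 y hy.1 hy.2
  obtain ⟨a, ha, b, hb, hab, q1, q2, q3⟩ := b2 (by omega)
  obtain ⟨a', ha', b', hb', -, r1, r2, r3⟩ := c2 (by omega)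
  obtain ⟨x, hx, hxa⟩ := add_mem ha.1 ha'.1
  obtain ⟨y, hy, hyb⟩ := add_mem hb.1 hb'.1
  have hxa : g.1 x = a + a' := hxa
  have hyb : g.1 y = b + b' := hyb
  have o : ∀ u ∈ U, ∀ w ∈ perp Q U, polar Q u w = 0 := fun u hu w hw => mem_perp.1 hw u hu
  have := h2 ht x hx y hy
    (by rw [← O.map_Q g, hxa, Orth.Q_add, q1, r1, o _ ha.2 _ ha'.2, h11, add_zero])
    (by rw [← O.map_Q g, hyb, Orth.Q_add, q2, r2, o _ hb.2 _ hb'.2, h11, add_zero])
    (by rw [← O.map_polar g, hxa, hyb, polar_add_left, polar_add_right, polar_add_right, q3, r3,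
      o _ ha.2 _ hb'.2, polar_comm, o _ hb.2 _ ha'.2, add_zero, zero_add, h11])
    (by
      rintro rfl
      have : a = 0 := hc.disjoint.le_bot ⟨ha.2, by
        rw [eq_neg_of_add_eq_zero_left (hxa.symm.trans (map_zero _))]; exact neg_mem ha'.2⟩
      simp [this] at q1)
  obtain ⟨s, rfl⟩ := Submodule.mem_span_singleton.1 this
  rw [map_smul, hxa] at hyb
  have : b - s • a = 0 := hc.disjoint.le_bot ⟨sub_mem hb.2 (U.smul_mem _ ha.2), by
    rw [show b - s • a = s • a' - b' by linear_combination (norm := module) -hyb]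
    exact sub_mem (Submodule.smul_mem _ _ ha'.2) hb'.2⟩
  exact hab (Submodule.mem_span_singleton.2 ⟨s, (sub_eq_zero.1 this).symm⟩)

end General

variable {F : Type*} [Field F] [Finite F] {ι : Type} [Fintype ι] [DecidableEq ι]
  {Q : QuadraticForm F (ι → F)}

/-- A small non-degenerate subspace with a large complement. -/
theorem isMaximalIn_nd_lt (hQ : ND Q) {W : Submodule F (ι → F)}
    (hW : Geo.IsNondegenerateOn (polar ⇑Q) W) (h0 : W ≠ ⊥)
    (h5 : finrank F W + 5 ≤ Fintype.card ι) (h2 : 2 * finrank F W < Fintype.card ι)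
    (hex : ¬ (Nat.card F ≤ 3 ∧ finrank F W = 2 ∧ Geo.IsPlusTypeOn ⇑Q W)) :
    Geo.IsMaximalIn (Geo.omegaGL ⇑Q) (Geo.subspaceStabilizer W ⊓ Geo.omegaGL ⇑Q) := by
  have h1 := finrank_add_finrank_perp hQ W
  rw [finrank_fintype_fun_eq_card] at h1
  refine isMaximalIn_of mem_subspaceStabilizer_iff (not_commutator_le_stab hQ (by simp; omega)
    h0 (ne_top_of_finrank (by omega))) fun K hH _ => ?_
  rw [← stab_perp hQ] at hH ⊢
  refine (nd_dichotomy hQ (nd_restrict_perp hQ (nd_restrict_of hW)) (by omega) ?_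
    hH).imp_left fun h g hg => (h g hg).resolve_right fun h3 => ?_
  · rw [perp_perp hQ]
    rintro ⟨h2, h3, e, h4, h5, h6⟩
    exact hex ⟨h2, h3, isPlusTypeOn_of_singular h3 h4 h5 h6⟩
  · have h4 := Submodule.finrank_mono (le_perp_comm.1 h3)
    rw [LinearEquiv.finrank_map_eq, perp_perp hQ] at h4
    omega

/-- A large non-degenerate subspace. -/
theorem isMaximalIn_nd_gt (hQ : ND Q) {W : Submodule F (ι → F)}
    (hW : Geo.IsNondegenerateOn (polar ⇑Q) W) (h0 : W ≠ ⊤) (h5 : 5 ≤ finrank F W)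
    (h2 : Fintype.card ι < 2 * finrank F W) (hex : finrank F W + 2 ≠ Fintype.card ι) :
    Geo.IsMaximalIn (Geo.omegaGL ⇑Q) (Geo.subspaceStabilizer W ⊓ Geo.omegaGL ⇑Q) := by
  have h1 := finrank_add_finrank_perp hQ W
  rw [finrank_fintype_fun_eq_card] at h1
  refine isMaximalIn_of mem_subspaceStabilizer_iff (not_commutator_le_stab hQ (by simp; omega)
    (ne_bot_of_finrank (by omega)) h0) fun K hH _ => ?_
  refine (nd_dichotomy hQ (nd_restrict_of hW) h5 (by omega)
    hH).imp_left fun h g hg => (h g hg).resolve_right fun h3 => ?_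
  have h4 := Submodule.finrank_mono (le_perp_comm.1 h3)
  rw [LinearEquiv.finrank_map_eq] at h4
  omega

/-- A non-degenerate `4`-space in dimension `7`, `q` odd. -/
theorem isMaximalIn_four_seven (hQ : ND Q) (h7 : Fintype.card ι = 7) (ho : (2 : F) ≠ 0)
    {W : Submodule F (ι → F)} (hW : Geo.IsNondegenerateOn (polar ⇑Q) W) (h4 : finrank F W = 4) :
    Geo.IsMaximalIn (Geo.omegaGL ⇑Q) (Geo.subspaceStabilizer W ⊓ Geo.omegaGL ⇑Q) := by
  have h1 := finrank_add_finrank_perp hQ W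
  rw [finrank_fintype_fun_eq_card] at h1
  refine isMaximalIn_of mem_subspaceStabilizer_iff (not_commutator_le_stab hQ (by simp; omega)
    (ne_bot_of_finrank (by omega)) (ne_top_of_finrank (by omega))) fun K hH hK =>
      max_four hQ (nd_restrict_of hW) h4.ge (by omega) (fun ht => absurd ?_ ho) (fun g h => ?_)
        hH hK
  · exact (ht 2).resolve_right (by rw [← one_add_one_eq_two]; simp)
  · have h4 := Submodule.finrank_mono h
    rw [LinearEquiv.finrank_map_eq] at h4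
    omega

/-- A non-degenerate `4`-space in dimension `8`, minus type. -/
theorem isMaximalIn_four_eight (hQ : ND Q) (h8 : Fintype.card ι = 8)
    (hm : ¬ Geo.IsPlusTypeOn ⇑Q ⊤) {W : Submodule F (ι → F)}
    (hW : Geo.IsNondegenerateOn (polar ⇑Q) W) (h4 : finrank F W = 4) :
    Geo.IsMaximalIn (Geo.omegaGL ⇑Q) (Geo.subspaceStabilizer W ⊓ Geo.omegaGL ⇑Q) := by
  have h1 := finrank_add_finrank_perp hQ W
  rw [finrank_fintype_fun_eq_card] at h1
  have hW' := nd_restrict_of hW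
  have hni : ∀ {U : Submodule F (ι → F)}, ND (Q.restrict U) → finrank F U = 4 → ∀ g : O Q,
      ¬ U.map (g.1 : (ι → F) →ₗ[F] (ι → F)) ≤ perp Q U := fun {U} hU h4 g h => by
    have h1 := finrank_add_finrank_perp hQ U
    rw [finrank_fintype_fun_eq_card] at h1
    have h2 := Submodule.eq_of_le_of_finrank_le h (by rw [LinearEquiv.finrank_map_eq]; omega)
    refine hm (isPlusTypeOn_top_of_osign ?_)
    rw [(isOSum_perp hU).osign_eq hQ (by rw [h4]; decide)
      (by rw [show finrank F (perp Q U) = 4 by omega]; decide),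
      osign_congr (equivalent_of_map h2), Int.units_mul_self]
  have key : ∀ U : Submodule F (ι → F), (∀ a ∈ U, ∀ b ∈ U, Q a = 0 → Q b = 0 → polar Q a b = 0 →
      a ≠ 0 → b ∈ F ∙ a) ∨ ∃ S ≤ U, TS Q S ∧ finrank F S = 2 := fun U => by
    refine or_iff_not_imp_left.2 fun hn => ?_
    push Not at hn
    obtain ⟨a, ha, b, hb, h1, h2, h3, h5, h6⟩ := hn
    refine ⟨Submodule.span F {a, b}, Submodule.span_le.2 (by simp [Set.insert_subset_iff, ha, hb]),
      ts_span_pair h1 h2 h3, ?_⟩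
    rw [Submodule.span_insert, finrank_sup_span_singleton' h6, finrank_span_singleton h5]
  refine isMaximalIn_of mem_subspaceStabilizer_iff (not_commutator_le_stab hQ (by simp; omega)
    (ne_bot_of_finrank (by omega)) (ne_top_of_finrank (by omega))) fun K hH hK => ?_
  rcases key W with h | ⟨S, s1, s2, s3⟩
  · exact max_four hQ hW' h4.ge (by omega) (fun _ => h) (hni hW' h4) hH hK
  rcases key (perp Q W) with h | ⟨S', t1, t2, t3⟩
  · rw [← stab_perp hQ] at hH ⊢
    exact max_four hQ (nd_restrict_perp hQ hW') (by omega) (by rw [perp_perp hQ]; omega)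
      (fun _ => h) (hni (nd_restrict_perp hQ hW') (by omega)) hH hK
  refine absurd ⟨S ⊔ S', le_top, s2.sup t2 (t1.trans (perp_anti s1)), ?_⟩ hm
  have h2 := Submodule.finrank_sup_add_finrank_inf_eq S S'
  rw [((isCompl_perp hW').disjoint.mono s1 t1).eq_bot, finrank_bot] at h2
  simp only [finrank_top, finrank_fintype_fun_eq_card]
  omega

end Cfsg.Lib.OMax
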