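import Cfsg.Agent.Lib.OMax.FrameE

/-!
# Orthogonal frames in dimensions five and six: new reflections in the class of the frame
-/

set_option autoImplicit false

namespace Cfsg.Lib.OMax

open QuadraticMap Module Cfsg.Lib.Orth Finset

variable {F V : Type*} [Field F] [AddCommGroup V] [Module F V] {Q : QuadraticForm F V}
  {K : Subgroup (O Q)}

namespace Fr

variable {κ : Type*} [DecidableEq κ] {e : κ → V} (S : Fr Q e) [Fintype κ] [FiniteDimensional F V]
  (hH : mon Q e ⊓ commutator (O Q) ≤ K)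
include S hH

omit [Fintype κ] [FiniteDimensional F V] hH in
theorem exists_rt_perp {a : V} {k l : κ} (h : polar Q (e k) a ^ 2 = polar Q (e l) a ^ 2) :
    ∃ ε : F, ε * ε = 1 ∧ polar Q (e k + ε • e l) a = 0 := by
  rcases sq_eq_sq_iff_eq_or_eq_neg.1 h with h | h
  · exact ⟨-1, by simp, by simp [polar_add_left, h]⟩
  · exact ⟨1, by simp, by simp [polar_add_left, h]⟩

theorem swap_mem' {a : V} (ha : refl Q a ∈ K) {i o k l : κ} (h : i ≠ o) (h' : k ≠ l)
    (hkl : polar Q (e k) a ^ 2 = polar Q (e l) a ^ 2) :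
    refl Q ((refl Q (e i - e o)).1 a) ∈ K := by
  obtain ⟨ε, h1, h2⟩ := S.exists_rt_perp hkl
  have := refl_map_mem (S.rc_rt hH h h' (ε := -1) (ε' := ε) (by simp) h1).2 ha
  rwa [O.mul_apply, refl_apply_of_perp h2, neg_one_smul, ← sub_eq_add_neg] at this

variable (h0 : ∀ i, refl Q (e i) ∈ K) {a : V} (ha : Q a = 2⁻¹) (ha' : refl Q a ∈ K)
  (ha'' : refl Q a ∉ mon Q e) [Finite F]
include h0 ha ha' ha''

theorem core_e_of_ne' (h3 : (3 : F) ≠ 0) (hn : 5 ≤ Fintype.card κ) (hn' : Fintype.card κ ≤ 6) :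
    commutator (O Q) ≤ K := by
  classical
  by_contra hc
  have h2 := S.two
  have R := S.rg_e hH h0 ha ha' ha'' (by omega)
  have A : ∀ u v, Q u = 2⁻¹ → refl Q u ∈ K → Q v = 2⁻¹ → refl Q v ∈ K → u ≠ v → u ≠ -v →
      Ang (4 * polar Q u v ^ 2) := fun u v h1 h4 h5 h6 h7 h8 => by
    convert R.ang h3 hc (by rw [S.card_eq]; omega) h1 h4 h5 h6 h7 h8 using 1
    field_simp; ring
  have B : ∀ i, Ang (4 * polar Q (e i) a ^ 2) := fun i => A _ _ (S.Q_e i) (h0 i) ha ha'
    (fun h => ha'' (h ▸ S.refl_e_mem i)) fun h => ha'' (refl_neg (Q := Q) a ▸ h ▸ S.refl_e_mem i)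
  have C : ∀ i j, i ≠ j → polar Q (e j) a ≠ 0 →
      Ang (4 * polar Q (e i) a ^ 2 * (4 * polar Q (e j) a ^ 2)) := fun i j hij hj => by
    convert A _ _ (S.Q_e i) (h0 i) ((O.map_Q _ _).trans (S.Q_e j)) (refl_map_mem ha' (h0 j))
      (fun h => ha'' (S.mem_of_apply (ha ▸ inv_ne_zero h2) hj (h.symm.trans (one_smul F _).symm)))
      fun h => ha'' (S.mem_of_apply (ha ▸ inv_ne_zero h2) hj (ε := -1) (m := i) (by simp [h]))
      using 1
    rw [refl_apply, polar_sub_right, S.pol, if_neg hij, polar_smul_right', ha, inv_inv,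
      polar_comm Q a]
    ring
  have n4' : (4 : F) ≠ 0 := fun h4 => mul_ne_zero h2 h2 (by linear_combination h4)
  have n4 : ∀ i, polar Q (e i) a ≠ 0 → 4 * polar Q (e i) a ^ 2 ≠ 0 := fun i h =>
    mul_ne_zero n4' (pow_ne_zero _ h)
  have h4 : (univ.filter fun i => polar Q (e i) a ≠ 0 ∧ 4 * polar Q (e i) a ^ 2 ≠ 1).card ≤ 2 := by
    by_contra! h4
    obtain ⟨i, j, k, hi, hj, hk, a1, a2, a3⟩ := two_lt_card_iff.1 h4
    simp only [mem_filter, mem_univ, true_and] at hi hj hk
    rcases (B i).three h2 h3 (B j) (B k) (n4 i hi.1) (n4 j hj.1) (n4 k hk.1) (C i j a1 hj.1)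
      (C i k a2 hk.1) (C j k a3 hk.1) with h | h | h
    exacts [hi.2 h, hj.2 h, hk.2 h]
  obtain ⟨o, ho⟩ : ∃ o, polar Q (e o) a = 0 := by
    by_contra! h
    simp only [h, ne_eq, not_false_eq_true, true_and] at h4
    have h5 : ∑ i, (4 * polar Q (e i) a ^ 2 - 1) = 4 - (Fintype.card κ : F) := by
      have := S.polar_sum a a
      rw [polar_self', ha, mul_inv_cancel₀ h2] at this
      simp only [sum_sub_distrib, ← mul_sum, pow_two, ← this]
      simp
    rw [← sum_filter_ne_zero] at h5
    simp only [sub_ne_zero] at h5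
    generalize hN : (univ.filter fun i => 4 * polar Q (e i) a ^ 2 ≠ 1) = N at h4 h5
    have hN' : ∀ i ∈ N, 4 * polar Q (e i) a ^ 2 ≠ 1 := fun i hi => by
      rw [← hN, mem_filter] at hi; exact hi.2
    have hc' : (Fintype.card κ : F) = 5 ∨ (Fintype.card κ : F) = 6 := by
      rcases (show Fintype.card κ = 5 ∨ Fintype.card κ = 6 by omega) with h | h <;> simp [h]
    rcases (show N.card = 0 ∨ N.card = 1 ∨ N.card = 2 by omega) with h6 | h6 | h6
    · rw [card_eq_zero.1 h6, sum_empty] at h5
      rcases hc' with h7 | h7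
      · exact one_ne_zero (α := F) (by linear_combination h5 - h7)
      · exact h2 (by linear_combination h5 - h7)
    · obtain ⟨i, rfl⟩ := card_eq_one.1 h6
      rw [sum_singleton] at h5
      rcases hc' with h7 | h7
      · exact n4 i (h i) (by linear_combination h5 - h7)
      · have h8 : 4 * polar Q (e i) a ^ 2 = -1 := by linear_combination h5 - h7
        obtain ⟨b1, b2 | b2 | b2 | b2⟩ := h8 ▸ B i
        · exact one_ne_zero (α := F) (by linear_combination -b2)
        · exact h2 (by linear_combination -b2)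
        · exact h3 (by linear_combination -b2)
        · exact b1 (by linear_combination -b2)
    · obtain ⟨i, j, hij, rfl⟩ := card_eq_two.1 h6
      rw [sum_pair hij] at h5
      rcases (B i).mul h2 h3 (B j) (n4 i (h i)) (n4 j (h j)) (C i j hij (h j)) with b | b | b
      · exact hN' i (by simp) b
      · exact hN' j (by simp) b
      rcases hc' with h7 | h7
      · exact h2 (by linear_combination h5 - h7 - b.2.1)
      · exact h3 (by linear_combination h5 - h7 - b.2.1)
  obtain ⟨k, l, hkl, hkl'⟩ : ∃ k l, k ≠ l ∧ polar Q (e k) a ^ 2 = polar Q (e l) a ^ 2 := by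
    by_contra! h
    have h1 : (univ.filter fun i => polar Q (e i) a = 0).card ≤ 1 := card_le_one.2 fun i hi j hj =>
      by_contra fun h1 => h i j h1 (by rw [(mem_filter.1 hi).2, (mem_filter.1 hj).2])
    have h5 : (univ.filter fun i => 4 * polar Q (e i) a ^ 2 = 1).card ≤ 1 :=
      card_le_one.2 fun i hi j hj => by_contra fun h1 => h i j h1
        (mul_left_cancel₀ n4' (by rw [(mem_filter.1 hi).2, (mem_filter.1 hj).2]))
    have := card_le_card (s := univ) (t := (univ.filter fun i => 4 * polar Q (e i) a ^ 2 = 1) ∪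
      ((univ.filter fun i => polar Q (e i) a = 0) ∪
      (univ.filter fun i => polar Q (e i) a ≠ 0 ∧ 4 * polar Q (e i) a ^ 2 ≠ 1)))
      fun i _ => by simp; tauto
    have := this.trans ((card_union_le _ _).trans (add_le_add_right (card_union_le _ _) _))
    rw [card_univ] at this
    omega
  have D : ∀ i j, i ≠ j → polar Q (e i) a ≠ 0 → polar Q (e j) a ≠ 0 →
      Ang (4 * (1 - polar Q (e i) a ^ 2) ^ 2) ∧
      Ang (4 * (1 - polar Q (e i) a ^ 2 - 2 * polar Q (e j) a ^ 2) ^ 2) := fun i j hij hi hj => by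
    have a1 : i ≠ o := by rintro rfl; exact hi ho
    have a2 : j ≠ o := by rintro rfl; exact hj ho
    have a3 := S.swap_mem' hH ha' a1 hkl hkl'
    generalize hu : (refl Q (e i - e o)).1 a = u at a3
    have a4 : Q u = 2⁻¹ := by rw [← hu, O.map_Q, ha]
    have a5 : polar Q (e o) u = polar Q (e i) a := by simp [← hu, S.pol_swap a1, a1.symm]
    have a6 : polar Q (e j) u = polar Q (e j) a := by simp [← hu, S.pol_swap a1, hij.symm, a2]
    have a7 : polar Q a u = 1 - polar Q (e i) a ^ 2 := by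
      rw [← hu, refl_apply, S.Q_sub' a1, polar_sub_right, polar_self', ha,
        mul_inv_cancel₀ h2, polar_smul_right', polar_comm Q a]
      simp [polar_sub_left, ho, pow_two]
    have a8 : ∀ v, polar Q (e o) v = polar Q (e i) a → a ≠ v ∧ a ≠ -v := fun v hv =>
      ⟨fun h => hi (by rw [← hv, ← h, ho]), fun h => hi (by
        rw [← hv, ← neg_neg v, ← h, polar_neg_right, ho, neg_zero])⟩
    have a9 := a8 ((refl Q (e j)).1 u) (by rw [S.pol_refl_e, if_neg a2.symm, a5])
    refine ⟨a7 ▸ A _ _ ha ha' a4 a3 (a8 u a5).1 (a8 u a5).2, ?_⟩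
    convert A _ _ ha ha' ((O.map_Q _ _).trans a4) (refl_map_mem (h0 j) a3) a9.1 a9.2 using 3
    rw [S.refl_e, polar_sub_right, a7, polar_smul_right', a6, polar_comm Q a]; ring
  obtain ⟨i, j, hij, hi, hj⟩ := S.exists_two ha''
  exact (B i).pairR h2 h3 (B j) (n4 i hi) (n4 j hj) (C i j hij hj) (D i j hij hi hj).1 (by ring)
    (D j i hij.symm hj hi).1 (by ring) (D i j hij hi hj).2 (by ring) (D j i hij.symm hj hi).2
    (by ring)

theorem core_e_of_three' (h3 : (3 : F) = 0) (hn : Fintype.card κ = 5) :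
    commutator (O Q) ≤ K := by
  classical
  have h2 := S.two
  have R := S.rg_e hH h0 ha ha' ha'' (by omega)
  have h1 := S.polar_self_of_three h3 a
  rw [ha, mul_inv_cancel₀ h2] at h1
  generalize hI : (univ.filter fun i => polar Q (e i) a ≠ 0) = I at h1
  have hI' : ∀ i, i ∈ I ↔ polar Q (e i) a ≠ 0 := by simp [← hI]
  have h4 : I.card = 4 := by
    obtain ⟨i, j, hij, hi, hj⟩ := S.exists_two ha''
    have : 1 < I.card := one_lt_card.2 ⟨i, (hI' _).2 hi, j, (hI' _).2 hj, hij⟩
    have h5 : I.card ≤ 5 := hn ▸ card_le_univ I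
    generalize I.card = k at *
    interval_cases k
    · exact absurd (by linear_combination h1) (one_ne_zero (α := F))
    · exact absurd (by linear_combination h3 - h1) (one_ne_zero (α := F))
    · rfl
    · exact absurd (by linear_combination h1 - h3) (one_ne_zero (α := F))
  obtain ⟨o, -, ho⟩ := exists_mem_notMem_of_card_lt_card (s := I) (t := univ)
    (by rw [card_univ]; omega)
  obtain ⟨i, j, k, m, c1, c2, c3, c4, c5, c6, rfl⟩ := card_eq_four.1 h4
  have hi := (hI' i).1 (by simp)
  have hj := (hI' j).1 (by simp)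
  have hk := (hI' k).1 (by simp)
  have hm := (hI' m).1 (by simp)
  have hz : ∀ l, l ≠ i → l ≠ j → l ≠ k → l ≠ m → polar Q (e l) a = 0 := fun l b1 b2 b3 b4 =>
    by_contra fun h => by simpa [b1, b2, b3, b4] using (hI' l).2 h
  simp only [mem_insert, mem_singleton, not_or] at ho
  obtain ⟨o1, o2, o3, o4⟩ := ho
  have si := S.prime.sq_eq_one h3 hi
  have sj := S.prime.sq_eq_one h3 hj
  have sk := S.prime.sq_eq_one h3 hk
  have sm := S.prime.sq_eq_one h3 hm
  have b1 := S.swap_mem' hH ha' (Ne.symm o3) c1 (si.trans sj.symm)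
  have b2 := refl_map_mem (h0 j) b1
  have hoa := hz o o1 o2 o3 o4
  have e1 : a = polar Q (e i) a • e i + polar Q (e j) a • e j + polar Q (e k) a • e k +
      polar Q (e m) a • e m := S.ext fun l => by
    simp only [polar_add_right, polar_smul_right', S.pol]
    grind
  generalize polar Q (e i) a = x at *
  generalize polar Q (e j) a = y at *
  generalize polar Q (e k) a = z at *
  generalize polar Q (e m) a = w at *
  have e2 : (refl Q (e j)).1 ((refl Q (e k - e o)).1 a) = x • e i - y • e j + z • e o + w • e m :=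
    S.ext fun l => by
      rw [S.pol_refl_e, S.pol_swap (Ne.symm o3), e1]
      simp only [polar_add_right, polar_sub_right, polar_smul_right', S.pol]
      grind
  have e3 : a - -(refl Q (e m)).1 a = (2 : F) • (x • e i + y • e j + z • e k) := by
    rw [S.refl_e, e1]
    simp only [polar_add_right, polar_smul_right', S.pol, c3.symm, c5.symm, c6.symm, if_true,
      if_false]
    module
  rw [e2] at b2
  have b3 : Q (x • e i - y • e j + z • e o + w • e m) = 2⁻¹ := by rw [← e2, O.map_Q, O.map_Q, ha]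
  have h10 : Q (x • e i + y • e j + z • e k) = 0 := by
    rw [← mul_right_inj' h2, ← polar_self']
    simp only [polar_add_right, polar_add_left, polar_smul_right', polar_smul_left', S.pol, c1, c2,
      c4, c1.symm, c2.symm, c4.symm, if_true, if_false]
    linear_combination si + sj + sk + h3
  have h11 := mem_AE_smul h10 h2 (e3 ▸ mem_AE_of_sub ha' (b := -(refl Q (e m)).1 a)
    (by rw [refl_neg]; exact refl_map_mem (h0 m) ha') (ha ▸ R.ne) (by simp)
    (by rw [e3, Q_smul, h10, mul_zero]))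
  have h0' : x • e i + y • e j + z • e k ≠ 0 := fun h => by
    have := congrArg (polar Q (e i)) h
    simp [polar_add_right, S.pol, c1, c2, hi] at this
  have h12 := R.mem_AE (S.Q_e m) (h0 m) (by
    simp [polar_add_left, S.pol, c3, c5, c6]) h11 (by
    rw [ha, e1]; simp [polar_add_right, S.pol, c3.symm, c5.symm, c6.symm, h2, hm])
  have h13 := R.mem_AE b3 b2 (by
    simp only [polar_add_right, polar_add_left, polar_sub_right, polar_smul_right',
      polar_smul_left', S.pol]
    grind) h12 (by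
    simp [polar_add_left, polar_sub_left, S.pol, c3, c5, o4, hm])
  have h14 := R.mem_AE (S.Q_e o) (h0 o) (by
    simp [polar_add_left, S.pol, Ne.symm o1, Ne.symm o2, Ne.symm o3]) h13 (by
    simp [polar_add_right, polar_sub_right, S.pol, o1, o2, o4, hk])
  refine R.commutator_le_of_hyp h0' h10 (sub_mem h13 (R.prime.smul_mem h14 z)) ?_ h12 ?_
  · rw [← mul_right_inj' h2, ← polar_self']
    simp only [polar_add_right, polar_add_left, polar_sub_left, polar_sub_right, polar_smul_right',
      polar_smul_left', S.pol]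
    grind
  · simp [polar_add_left, polar_sub_left, S.pol, c3, c5, o4, hm]

theorem core_e' (hn : 5 ≤ Fintype.card κ) : commutator (O Q) ≤ K := by
  by_cases h7 : 7 ≤ Fintype.card κ
  · exact S.core_e hH h0 ha ha' ha'' h7
  by_cases h3 : (3 : F) = 0
  · by_cases h6 : 6 ≤ Fintype.card κ
    · exact S.core_e_of_three hH h0 ha ha' ha'' h3 h6
    · exact S.core_e_of_three' hH h0 ha ha' ha'' h3 (by omega)
  · exact S.core_e_of_ne' hH h0 ha ha' ha'' h3 hn (by omega)

end Fr

namespace Fr

variable {κ : Type*} [DecidableEq κ] {e : κ → V} (S : Fr Q e) [Fintype κ] [FiniteDimensional F V]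
  (hH : mon Q e ⊓ commutator (O Q) ≤ K)
include S hH

theorem exists_ext' (hK : K ≤ commutator (O Q)) {b : V} (h1 : Q b ≠ 0) (h2 : refl Q b ∈ mon Q e) :
    ∃ L : Subgroup (O Q), mon Q e ⊓ commutator (O Q) ≤ L ∧ (∀ a, RC K a b → refl Q a ∈ L) ∧
      (commutator (O Q) ≤ L → commutator (O Q) ≤ K) := by
  obtain ⟨L, h3, h4⟩ := exists_ext S.nd hK h1
  exact ⟨L, fun g hg => h3 g (hH hg) (hH ⟨mul_mem (mul_mem h2 hg.1) h2, by
    simpa [refl_inv] using (inferInstance : (commutator (O Q)).Normal).conj_mem g hg.2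
      (refl Q b)⟩), h4⟩

theorem commutator_le_of_rc_e [Finite F] (hn : 5 ≤ Fintype.card κ) (hK : K ≤ commutator (O Q))
    {a : V} {j : κ} (h1 : RC K a (e j)) (h2 : refl Q a ∉ mon Q e) : commutator (O Q) ≤ K := by
  obtain ⟨L, h3, h4, h5⟩ := S.exists_ext' hH hK (S.Q_ne j) (S.refl_e_mem j)
  exact h5 (S.core_e' h3 (fun i => h4 _ (S.rc_e hH i j)) (h1.1.trans (S.Q_e j)) (h4 a h1) h2 hn)

/-- The stabiliser of an orthonormal frame is maximal in odd dimension at least five. -/
theorem max_odd [Finite F] (hn : 5 ≤ Fintype.card κ) (ho : Odd (Fintype.card κ))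
    (hK : K ≤ commutator (O Q)) : K ≤ mon Q e ∨ commutator (O Q) ≤ K := by
  by_cases hN : ∀ a j, RC K a (e j) → refl Q a ∈ mon Q e
  · exact Or.inl (S.le_mon_of_odd' hH hN (by omega) ho)
  · push Not at hN
    obtain ⟨a, j, h1, h2⟩ := hN
    exact Or.inr (S.commutator_le_of_rc_e hH hn hK h1 h2)

end Fr

end Cfsg.Lib.OMax
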