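import Cfsg.Agent.Lib.OMax.Refl
import Cfsg.Agent.Lib.OMax.Dec2B

/-!
# Orthogonal frames: overgroups without new reflections
-/

set_option autoImplicit false

namespace Cfsg.Lib.OMax

open QuadraticMap Module Cfsg.Lib.Orth Finset

variable {F V : Type*} [Field F] [AddCommGroup V] [Module F V] {Q : QuadraticForm F V}
  {K : Subgroup (O Q)}

/-- Products of two orthogonal reflections of the same norm. -/
def Bi (t : O Q) : Prop := ∃ a b, Q a ≠ 0 ∧ Q a = Q b ∧ polar Q a b = 0 ∧ t = refl Q a * refl Q b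

theorem refl_mul_refl_mul_self {a b : V} (h : polar Q a b = 0) :
    refl Q a * refl Q b * (refl Q a * refl Q b) = 1 := by
  rw [← pow_two, refl_mul_refl_sq_of_perp h]

theorem Bi.mul_self {t : O Q} (h : Bi t) : t * t = 1 := by
  obtain ⟨a, b, -, -, h, rfl⟩ := h
  exact refl_mul_refl_mul_self h

theorem Bi.apply_apply {t : O Q} (h : Bi t) (v : V) : t.1 (t.1 v) = v := by
  rw [← O.mul_apply, h.mul_self, O.one_apply]

theorem exists_comb_of_neg (h2 : (2 : F) ≠ 0) {a b v : V} (h : polar Q a b = 0)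
    (hv : (refl Q a * refl Q b).1 v = -v) : ∃ α β : F, v = α • a + β • b := by
  have := refl_mul_refl_apply h v
  rw [hv] at this
  exact ⟨2⁻¹ * ((Q a)⁻¹ * polar Q a v), 2⁻¹ * ((Q b)⁻¹ * polar Q b v), smul_right_injective V h2 (by
    simp only [smul_add, smul_smul, mul_inv_cancel_left₀ h2]
    linear_combination (norm := module) -this)⟩

theorem Bi.split (h2 : (2 : F) ≠ 0) {t : O Q} (h : Bi t) {x : V} (hx : t.1 x = -x)
    (h0 : Q x ≠ 0) : ∃ y, Q x = Q y ∧ polar Q x y = 0 ∧ t = refl Q x * refl Q y := by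
  obtain ⟨a, b, h1, h3, h4, rfl⟩ := h
  obtain ⟨α, β, rfl⟩ := exists_comb_of_neg h2 h4 hx
  have h5 : ∀ s t : F, Q (s • a + t • b) = (s ^ 2 + t ^ 2) * Q a := fun s t => by
    rw [Q_add, Q_smul, Q_smul, polar_smul_left', polar_smul_right', h4, ← h3]; ring
  have h6 : polar Q (α • a + β • b) ((-β) • a + α • b) = 0 := by
    simp only [polar_add_left, polar_add_right, polar_smul_left', polar_smul_right', polar_self',
      h4, polar_comm Q b a, ← h3]
    ring
  refine ⟨_, by rw [h5, h5]; ring, h6, O.ext fun v => ?_⟩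
  rw [h5] at h0
  have h7 := left_ne_zero_of_mul h0
  rw [eq_add_of_sub_eq (refl_mul_refl_apply h4 v), eq_add_of_sub_eq (refl_mul_refl_apply h6 v),
    h5, h5, neg_sq, add_comm (β ^ 2), ← h3]
  simp only [polar_add_left, polar_smul_left']
  match_scalars <;> field_simp <;> ring

theorem Bi.sub_mem_of_singular (h2 : (2 : F) ≠ 0) {t : O Q} (h : Bi t) {x : V} (hx : t.1 x = -x)
    (h0 : x ≠ 0) (h1 : Q x = 0) : (∃ i : F, i ^ 2 = -1) ∧
      ∀ v, polar Q x v = 0 → ∃ c : F, t.1 v = v + c • x := by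
  obtain ⟨a, b, h3, h4, h5, rfl⟩ := h
  obtain ⟨α, β, rfl⟩ := exists_comb_of_neg h2 h5 hx
  rw [Q_add, Q_smul, Q_smul, polar_smul_left', polar_smul_right', h5, ← h4] at h1
  have h6 : α ^ 2 + β ^ 2 = 0 := mul_right_cancel₀ h3 (by linear_combination h1)
  have h7 : α ≠ 0 := by rintro rfl; simp_all
  refine ⟨⟨β / α, by field_simp; linear_combination h6⟩, fun v hv =>
    ⟨-((Q a)⁻¹ * polar Q a v / α), ?_⟩⟩
  simp only [polar_add_left, polar_smul_left'] at hv
  rw [eq_add_of_sub_eq (refl_mul_refl_apply h5 v), ← h4]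
  have h8 : polar Q b v * α = β * polar Q a v :=
    mul_left_cancel₀ h7 (by linear_combination polar Q b v * h6 - β * hv)
  match_scalars <;> field_simp
  linear_combination -h8

/-- An orthonormal basis for the polar form. -/
structure Fr (Q : QuadraticForm F V) {κ : Type*} [DecidableEq κ] (e : κ → V) : Prop where
  nd : ND Q
  two : (2 : F) ≠ 0
  prime : PrimeF F
  pol : ∀ i j, polar Q (e i) (e j) = if i = j then 1 else 0
  eq_zero : ∀ x, (∀ i, polar Q (e i) x = 0) → x = 0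

/-- The monomial group. -/
abbrev mon (Q : QuadraticForm F V) {κ : Type*} (e : κ → V) : Subgroup (O Q) :=
  dstab Q fun i => F ∙ e i

namespace Fr

variable {κ : Type*} [DecidableEq κ] {e : κ → V} (S : Fr Q e)
include S

theorem Q_e (i : κ) : Q (e i) = 2⁻¹ :=
  eq_inv_of_mul_eq_one_right (by simpa [polar_self'] using S.pol i i)

theorem Q_ne (i : κ) : Q (e i) ≠ 0 := S.Q_e i ▸ inv_ne_zero S.two

theorem ext {x y : V} (h : ∀ i, polar Q (e i) x = polar Q (e i) y) : x = y :=
  sub_eq_zero.1 (S.eq_zero _ fun i => by rw [polar_sub_right, h, sub_self])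

theorem exists_ne {x : V} (h : x ≠ 0) : ∃ i, polar Q (e i) x ≠ 0 := by
  by_contra! h1; exact h (S.eq_zero x h1)

theorem refl_e (i : κ) (x : V) : (refl Q (e i)).1 x = x - (2 * polar Q (e i) x) • e i := by
  rw [refl_apply, S.Q_e, inv_inv]

theorem Q_rt {i j : κ} (h : i ≠ j) {ε : F} (hε : ε * ε = 1) : Q (e i + ε • e j) = 1 := by
  rw [Q_add, Q_smul, S.Q_e, S.Q_e, polar_smul_right', S.pol, if_neg h, pow_two, hε]
  have := S.two
  field_simp; ring

theorem pol_refl_e (i k : κ) (x : V) : polar Q (e k) ((refl Q (e i)).1 x) =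
    if k = i then -polar Q (e k) x else polar Q (e k) x := by
  rw [S.refl_e, polar_sub_right, polar_smul_right', S.pol]
  split_ifs with h
  · subst h; ring
  · ring

theorem pol_refl_rt {i j : κ} (h : i ≠ j) {ε : F} (hε : ε * ε = 1) (k : κ) (x : V) :
    polar Q (e k) ((refl Q (e i + ε • e j)).1 x) = if k = i then -ε * polar Q (e j) x
      else if k = j then -ε * polar Q (e i) x else polar Q (e k) x := by
  simp only [refl_apply, S.Q_rt h hε, polar_sub_right, polar_smul_right', polar_add_right,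
    polar_add_left, polar_smul_left', S.pol]
  split_ifs with h1 h2 h2
  · exact (h (h1.symm.trans h2)).elim
  · subst h1; ring
  · subst h2; linear_combination -polar Q (e k) x * hε
  · ring

variable [FiniteDimensional F V]

theorem decStr : DecStr Q (fun i => F ∙ e i) 1 where
  nd := S.nd
  ndD i := nd_span_singleton S.two (S.Q_ne i)
  orth i j h := by simp [mem_perp_singleton, S.pol, h]
  top := perp_inj S.nd (by
    rw [perp_top S.nd, eq_bot_iff]
    exact fun x hx => S.eq_zero x fun i => mem_perp.1 hx _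
      (Submodule.mem_iSup_of_mem i (Submodule.mem_span_singleton_self _)))
  dim i := finrank_span_singleton (ne_zero_of_Q_ne_zero (S.Q_ne i))
  iso i j := by
    obtain ⟨g, hg⟩ := witt_vec S.nd (ne_zero_of_Q_ne_zero (S.Q_ne i))
      (ne_zero_of_Q_ne_zero (S.Q_ne j)) ((S.Q_e i).trans (S.Q_e j).symm)
    refine ⟨g, fun x hx => ?_⟩
    obtain ⟨c, rfl⟩ := Submodule.mem_span_singleton.1 hx
    rw [map_smul, hg]; exact Submodule.smul_mem _ _ (Submodule.mem_span_singleton_self _)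

omit [FiniteDimensional F V] in
theorem mul_self_of_apply {g : O Q} {i j : κ} {c : F} (h : g.1 (e i) = c • e j) : c * c = 1 := by
  have := O.map_Q g (e i)
  rw [h, Q_smul, S.Q_e, S.Q_e] at this
  exact mul_right_cancel₀ (inv_ne_zero S.two) (by linear_combination this)

omit [FiniteDimensional F V] in
theorem exists_apply {g : O Q} (hg : g ∈ mon Q e) (i : κ) :
    ∃ j, ∃ ε : F, ε * ε = 1 ∧ g.1 (e i) = ε • e j := by
  obtain ⟨j, hj⟩ := DecStr.exists_maps hg i
  obtain ⟨c, hc⟩ := Submodule.mem_span_singleton.1 (hj _ (Submodule.mem_span_singleton_self _))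
  exact ⟨j, c, S.mul_self_of_apply hc.symm, hc.symm⟩

omit [FiniteDimensional F V] in
theorem card_le {g : O Q} (hg : g ∈ mon Q e) (d : ℕ) : ∀ (U : Submodule F V) [Module.Finite F U]
    (T : Finset κ), finrank F U ≤ d → (∀ k ∈ T, g.1 (e k) ≠ e k ∧ g.1 (e k) - e k ∈ U) →
    T.card ≤ 2 * d := by
  induction d with
  | zero =>
    intro U _ T h1 h2
    rw [Nat.le_zero, Submodule.finrank_eq_zero] at h1
    simpa [eq_empty_iff_forall_notMem] using fun k hk =>
      (h2 k hk).1 (by simpa [h1, sub_eq_zero] using (h2 k hk).2)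
  | succ d ih =>
    intro U _ T h1 h2
    rcases T.eq_empty_or_nonempty with rfl | ⟨k, hk⟩
    · simp
    obtain ⟨m, ε, h3, h4⟩ := S.exists_apply (inv_mem hg) k
    have h5 : ∀ l, polar Q (e k) (g.1 (e l) - e l) =
        (if m = l then ε else 0) - if k = l then 1 else 0 := fun l => by
      rw [polar_sub_right, O.polar_right, h4, polar_smul_left', S.pol, S.pol]; simp
    have h6 : U ⊓ perp Q (F ∙ e k) < U := inf_lt_left.2 fun h => (h2 k hk).1 (by
      have h7 := mem_perp_singleton.1 (h (h2 k hk).2)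
      rw [h5, if_pos rfl, sub_eq_zero] at h7
      split_ifs at h7 with h8
      · rw [eq_comm, ← O.inv_apply_eq, h4, h7, h8, one_smul]
      · exact absurd h7 zero_ne_one)
    have h7 := ih (U ⊓ perp Q (F ∙ e k)) ((T.erase k).erase m)
      (by have := Submodule.finrank_lt_finrank_of_lt h6; omega) fun l hl => by
        simp only [mem_erase] at hl
        exact ⟨(h2 l hl.2.2).1, (h2 l hl.2.2).2, mem_perp_singleton.2 (by
          rw [h5, if_neg (Ne.symm hl.1), if_neg (Ne.symm hl.2.1), sub_self])⟩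
    have := pred_card_le_card_erase (s := T) (a := k)
    have := pred_card_le_card_erase (s := T.erase k) (a := m)
    omega

variable [Fintype κ]

theorem mem_mon {g : O Q} (h : ∀ i, ∃ j, ∃ c : F, g.1 (e i) = c • e j) : g ∈ mon Q e :=
  S.decStr.mem_dstab_of_maps one_ne_zero fun i => by
    obtain ⟨j, c, hc⟩ := h i
    refine ⟨j, fun x hx => ?_⟩
    obtain ⟨d, rfl⟩ := Submodule.mem_span_singleton.1 hx
    rw [map_smul, hc, smul_smul]; exact Submodule.smul_mem _ _ (Submodule.mem_span_singleton_self _)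

omit [Fintype κ] in
theorem refl_e_mem (i : κ) : refl Q (e i) ∈ mon Q e :=
  S.decStr.refl_mem_dstab (Submodule.mem_span_singleton_self _)

theorem refl_rt_mem {i j : κ} (h : i ≠ j) {ε : F} (hε : ε * ε = 1) :
    refl Q (e i + ε • e j) ∈ mon Q e := S.mem_mon fun k => by
  rw [refl_apply, S.Q_rt h hε, polar_add_left, polar_smul_left', S.pol, S.pol]
  by_cases h1 : i = k
  · exact ⟨j, -ε, by rw [if_pos h1, if_neg (h1 ▸ h.symm), h1]; module⟩
  by_cases h2 : j = k
  · refine ⟨i, -ε, ?_⟩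
    rw [if_neg h1, if_pos h2, h2]
    match_scalars
    · linear_combination -hε
    · ring
  · exact ⟨k, 1, by rw [if_neg h1, if_neg h2]; module⟩

omit [Fintype κ] [FiniteDimensional F V] in
theorem cases_of_apply {v : V} (h0 : Q v ≠ 0) {k m : κ} (hk : polar Q (e k) v ≠ 0) {ε : F}
    (h : (refl Q v).1 (e k) = ε • e m) : ∃ c : F, c ≠ 0 ∧ (v = c • e k ∨
      ∃ ε : F, k ≠ m ∧ ε * ε = 1 ∧ v = c • (e k + ε • e m)) := by
  have h1 := S.mul_self_of_apply h
  rw [refl_apply, polar_comm] at h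
  have h2 : v = (Q v / polar Q (e k) v) • (e k + (-ε) • e m) := by
    rw [neg_smul, ← h, ← sub_eq_add_neg, sub_sub_cancel, smul_smul]
    field_simp; simp
  by_cases hkm : k = m
  · subst hkm
    have h3 : v = (Q v / polar Q (e k) v * (1 - ε)) • e k := h2.trans (by module)
    exact ⟨_, fun h4 => h0 (by rw [h3, h4, zero_smul, map_zero]), Or.inl h3⟩
  · exact ⟨_, div_ne_zero h0 hk, Or.inr ⟨-ε, hkm, by simpa, h2⟩⟩

theorem mem_of_apply {v : V} (h0 : Q v ≠ 0) {k m : κ} (hk : polar Q (e k) v ≠ 0) {ε : F}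
    (h : (refl Q v).1 (e k) = ε • e m) : refl Q v ∈ mon Q e := by
  obtain ⟨c, hc, rfl | ⟨ε, h1, h2, rfl⟩⟩ := S.cases_of_apply h0 hk h <;> rw [refl_smul hc]
  exacts [S.refl_e_mem k, S.refl_rt_mem h1 h2]

omit [Fintype κ] [FiniteDimensional F V] in
theorem cases_of_mem {v : V} (h0 : Q v ≠ 0) (h : refl Q v ∈ mon Q e) : ∃ c : F, c ≠ 0 ∧ ∃ k,
    (v = c • e k ∨ ∃ m, ∃ ε : F, k ≠ m ∧ ε * ε = 1 ∧ v = c • (e k + ε • e m)) := by
  obtain ⟨k, hk⟩ := S.exists_ne (ne_zero_of_Q_ne_zero h0)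
  obtain ⟨m, ε, -, h1⟩ := S.exists_apply h k
  obtain ⟨c, hc, h2⟩ := S.cases_of_apply h0 hk h1
  exact ⟨c, hc, k, h2.imp_right fun h => ⟨m, h⟩⟩

omit [FiniteDimensional F V] in
theorem exists_fix {g g' : O Q} (hg : g ∈ mon Q e) (hg' : g' ∈ mon Q e) {U U' : Submodule F V}
    [Module.Finite F U] [Module.Finite F U'] (h1 : ∀ x, g.1 x - x ∈ U) (h2 : ∀ x, g'.1 x - x ∈ U')
    (h : 2 * (finrank F U + finrank F U') < Fintype.card κ) :
    ∃ k, g.1 (e k) = e k ∧ g'.1 (e k) = e k := by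
  classical
  have a1 := S.card_le hg _ U (univ.filter fun k => g.1 (e k) ≠ e k) le_rfl
    fun k hk => ⟨(mem_filter.1 hk).2, h1 _⟩
  have a2 := S.card_le hg' _ U' (univ.filter fun k => g'.1 (e k) ≠ e k) le_rfl
    fun k hk => ⟨(mem_filter.1 hk).2, h2 _⟩
  obtain ⟨k, -, hk⟩ := exists_mem_notMem_of_card_lt_card (t := univ)
    ((card_union_le _ _).trans_lt ((add_le_add a1 a2).trans_lt (by rw [card_univ]; omega)))
  exact ⟨k, by simpa using hk⟩

variable (hH : mon Q e ⊓ commutator (O Q) ≤ K)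
include hH

omit [Fintype κ] in
theorem rc_of_mem {a b : V} (ha : refl Q a ∈ mon Q e) (hb : refl Q b ∈ mon Q e) (h0 : Q a ≠ 0)
    (h : Q a = Q b) : RC K a b :=
  ⟨h, hH ⟨mul_mem ha hb, refl_mul_refl_mem_commutator S.nd h0 h⟩⟩

omit [Fintype κ] in
theorem rc_e (i j : κ) : RC K (e i) (e j) :=
  S.rc_of_mem hH (S.refl_e_mem i) (S.refl_e_mem j) (S.Q_ne i) ((S.Q_e i).trans (S.Q_e j).symm)

theorem rc_rt {i j k l : κ} (h : i ≠ j) (h' : k ≠ l) {ε ε' : F} (hε : ε * ε = 1)
    (hε' : ε' * ε' = 1) : RC K (e i + ε • e j) (e k + ε' • e l) :=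
  S.rc_of_mem hH (S.refl_rt_mem h hε) (S.refl_rt_mem h' hε') (S.Q_rt h hε ▸ one_ne_zero)
    ((S.Q_rt h hε).trans (S.Q_rt h' hε').symm)

end Fr

end Cfsg.Lib.OMax
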