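import Cfsg.Agent.Lib.OMax.ReflDick

/-!
# Arithmetic of the admissible angles between reflections
-/

set_option autoImplicit false

namespace Cfsg.Lib.OMax

variable {F : Type*} [Field F] (h2 : (2 : F) ≠ 0) (h3 : (3 : F) ≠ 0)

theorem eq_four {s : F} (hs : s ^ 2 - 3 * s + 1 = 0) (h : (5 : F) = 0) : s = 4 :=
  sub_eq_zero.1 (pow_eq_zero_iff two_ne_zero |>.1 (by linear_combination hs + (3 - s) * h))

include h2 h3

theorem eq_of_six (a b : ℕ) {x y : F} (h : 2 ^ a * 3 ^ b * (x - y) = 0) : x = y := by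
  simpa [h2, h3, sub_eq_zero] using h

theorem elim_six (a b : ℕ) {p : Prop} (h : (2 : F) ^ a * 3 ^ b = 0) : p := by
  simp [h2, h3] at h

namespace Ang

theorem not_sq {s : F} (hs : s ^ 2 - 3 * s + 1 = 0) (h4 : s ≠ 4) : ¬ Ang (s ^ 2) := by
  rintro ⟨-, h | h | h | h⟩
  · exact elim_six h2 h3 0 0 (by clear h2 h3 h4; grind)
  · exact h4 (eq_four hs (by clear h2 h3 h4; grind))
  · exact elim_six h2 h3 0 2 (by clear h2 h3 h4; grind)
  · exact elim_six h2 h3 4 0 (by clear h2 h3 h4; grind)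

theorem not_two_mul {s : F} (hs : s ^ 2 - 3 * s + 1 = 0) : ¬ Ang (2 * s) := by
  rintro ⟨-, h | h | h | h⟩
  · exact elim_six h2 h3 1 0 (by clear h2 h3; grind)
  · exact elim_six h2 h3 0 0 (by clear h2 h3; grind)
  · exact elim_six h2 h3 2 0 (by clear h2 h3; grind)
  · exact elim_six h2 h3 0 2 (by clear h2 h3; grind)

theorem four_mul {s : F} (hs : s ^ 2 - 3 * s + 1 = 0) (h4 : s ≠ 4) (h : Ang (4 * s)) :
    s = 5 ∧ (11 : F) = 0 := by
  obtain ⟨-, h | h | h | h⟩ := h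
  · exact elim_six h2 h3 2 0 (by clear h2 h3 h4; grind)
  · exact (h4 (eq_four hs (by clear h2 h3 h4; grind))).elim
  · exact elim_six h2 h3 2 0 (by clear h2 h3 h4; grind)
  · have : (11 : F) = 0 := eq_of_six h2 h3 0 2 (by clear h2 h3 h4; grind)
    exact ⟨eq_of_six h2 h3 0 1 (by clear h2 h3 h4; grind), this⟩

theorem five_mul {s x : F} (hs : s ^ 2 - 3 * s + 1 = 0) (h4 : s ≠ 4) (h : Ang x)
    (hx : 4 * x = 5 * s) : 5 * s = 4 ∨ 5 * s = 8 ∨ 5 * s = 3 := by
  obtain ⟨-, h | h | h | h⟩ := h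
  · exact (h4 (eq_four hs (by clear h2 h3 h4; grind))).elim
  · exact Or.inl (by linear_combination 4 * h - hx)
  · exact Or.inr (Or.inl (by linear_combination 4 * h - hx))
  · exact Or.inr (Or.inr (eq_of_six h2 h3 0 1 (by clear h2 h3 h4; grind)))

theorem roots {s t : F} (hs : s ^ 2 - 3 * s + 1 = 0) (ht : t ^ 2 - 3 * t + 1 = 0) :
    s = t ∨ (s + t = 3 ∧ s * t = 1) := by
  rcases mul_eq_zero.1 (show (s - t) * (s + t - 3) = 0 by linear_combination hs - ht) with h | h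
  · exact Or.inl (sub_eq_zero.1 h)
  · exact Or.inr ⟨sub_eq_zero.1 h, by linear_combination s * h - hs⟩

theorem mul {s t : F} (hs : Ang s) (ht : Ang t) (s0 : s ≠ 0) (t0 : t ≠ 0) (h : Ang (s * t)) :
    s = 1 ∨ t = 1 ∨ (s ^ 2 - 3 * s + 1 = 0 ∧ s + t = 3 ∧ s * t = 1) := by
  obtain ⟨s4, rfl | rfl | rfl | hs⟩ := hs
  · exact (s0 rfl).elim
  · exact Or.inl rfl
  · obtain ⟨-, rfl | rfl | rfl | ht⟩ := ht
    · exact (t0 rfl).elim
    · exact Or.inr (Or.inl rfl)
    · exact (h.1 (by norm_num)).elim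
    · exact (not_two_mul h2 h3 ht h).elim
  · obtain ⟨-, rfl | rfl | rfl | ht⟩ := ht
    · exact (t0 rfl).elim
    · exact Or.inr (Or.inl rfl)
    · exact (not_two_mul h2 h3 hs (mul_comm s 2 ▸ h)).elim
    · rcases roots h2 h3 hs ht with rfl | h1
      · exact (not_sq h2 h3 hs s4 (pow_two s ▸ h)).elim
      · exact Or.inr (Or.inr ⟨hs, h1⟩)

theorem three {s t u : F} (hs : Ang s) (ht : Ang t) (hu : Ang u) (s0 : s ≠ 0) (t0 : t ≠ 0)
    (u0 : u ≠ 0) (h : Ang (s * t)) (h' : Ang (s * u)) (h'' : Ang (t * u)) :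
    s = 1 ∨ t = 1 ∨ u = 1 := by
  by_contra! hc
  obtain ⟨a1, a2, -⟩ := ((hs.mul h2 h3 ht s0 t0 h).resolve_left hc.1).resolve_left hc.2.1
  obtain ⟨-, a3, -⟩ := ((hs.mul h2 h3 hu s0 u0 h').resolve_left hc.1).resolve_left hc.2.2
  obtain ⟨-, a4, -⟩ := ((ht.mul h2 h3 hu t0 u0 h'').resolve_left hc.2.1).resolve_left hc.2.2
  exact hs.1 (eq_four a1 (by clear * - a1 a2 a3 a4; grind))

theorem one {t x y : F} (ht : Ang t) (t0 : t ≠ 0) (h : Ang x) (hx : 4 * x = 9) (h' : Ang y)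
    (hy : 4 * y = (3 - 2 * t) ^ 2) : False := by
  have h1 : (5 : F) = 0 ∨ (11 : F) = 0 := by
    obtain ⟨-, h | h | h | h⟩ := h
    · exact elim_six h2 h3 0 2 (by clear * - h hx; grind)
    · exact Or.inl (by linear_combination 4 * h - hx)
    · exact elim_six h2 h3 0 0 (by clear * - h hx; grind)
    · exact Or.inr (by clear * - h hx; grind)
  have h4 : 4 * y ≠ 1 := fun hy => by
    obtain ⟨y4, h | h | h | h⟩ := h'
    · exact elim_six h2 h3 0 0 (by clear * - h hy; grind)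
    · exact elim_six h2 h3 0 1 (by clear * - h hy; grind)
    · rcases h1 with h1 | h1
      · exact elim_six h2 h3 1 0 (by clear * - h hy h1; grind)
      · exact elim_six h2 h3 2 0 (by clear * - h hy h1; grind)
    · exact y4 (eq_four h (by clear * - h hy; grind))
  obtain ⟨t4, rfl | rfl | rfl | ht⟩ := ht
  · exact t0 rfl
  · exact h4 (by linear_combination hy)
  · exact h4 (by linear_combination hy)
  · rcases h1 with h1 | h1
    · exact t4 (eq_four ht h1)
    · exact h'.1 (eq_of_six h2 h3 2 0 (by linear_combination hy + 4 * ht - h1))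

/-- The arithmetic for new reflections of the class of the frame vectors. -/
theorem pairR {s t x y z w : F} (hs : Ang s) (ht : Ang t) (s0 : s ≠ 0) (t0 : t ≠ 0)
    (h : Ang (s * t)) (hx : Ang x) (hx' : 4 * x = (4 - s) ^ 2) (hy : Ang y)
    (hy' : 4 * y = (4 - t) ^ 2) (hz : Ang z) (hz' : 4 * z = (4 - s - 2 * t) ^ 2) (hw : Ang w)
    (hw' : 4 * w = (4 - t - 2 * s) ^ 2) : False := by
  rcases hs.mul h2 h3 ht s0 t0 h with rfl | rfl | ⟨a1, a2, a3⟩
  · exact one h2 h3 ht t0 hx (by linear_combination hx') hz (by linear_combination hz')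
  · exact one h2 h3 hs s0 hy (by linear_combination hy') hw (by linear_combination hw')
  have a4 : t ^ 2 - 3 * t + 1 = 0 := by linear_combination t * a2 - a3
  rcases five_mul h2 h3 a1 hs.1 hy (by linear_combination hy' + a4 - 5 * a2) with b | b | b <;>
    rcases five_mul h2 h3 a4 ht.1 hx (by linear_combination hx' + a1 - 5 * a2) with c | c | c
  · exact elim_six h2 h3 0 2 (by clear * - a2 a3 b c; grind)
  · exact elim_six h2 h3 0 1 (by clear * - a2 a3 b c; grind)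
  · exact elim_six h2 h3 3 0 (by clear * - a2 a3 b c; grind)
  · exact elim_six h2 h3 0 1 (by clear * - a2 a3 b c; grind)
  · exact elim_six h2 h3 0 0 (by clear * - a2 a3 b c; grind)
  · exact elim_six h2 h3 2 0 (by clear * - a2 a3 b c; grind)
  · exact elim_six h2 h3 3 0 (by clear * - a2 a3 b c; grind)
  · exact elim_six h2 h3 2 0 (by clear * - a2 a3 b c; grind)
  · exact elim_six h2 h3 0 2 (by clear * - a2 a3 b c; grind)

/-- The arithmetic for new reflections of the class of the roots with a zero coordinate. -/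
theorem zeroR {s t : F} (hs : Ang s) (ht : Ang t) (s0 : s ≠ 0) (t0 : t ≠ 0)
    (h : Ang ((2 - 2 * s) ^ 2)) (h' : Ang ((2 - 2 * t) ^ 2)) (h'' : Ang ((2 - s - 2 * t) ^ 2))
    (h''' : Ang ((2 - t - 2 * s) ^ 2)) : s = 1 := by
  have key : ∀ s : F, Ang s → s ≠ 0 → Ang ((2 - 2 * s) ^ 2) → s = 1 ∨ (s = 5 ∧ (11 : F) = 0) := by
    rintro s ⟨s4, rfl | rfl | rfl | hs⟩ s0 h
    · exact (s0 rfl).elim
    · exact Or.inl rfl
    · exact (h.1 (by norm_num)).elim
    · exact Or.inr (four_mul h2 h3 hs s4 (by convert h using 1; linear_combination -4 * hs))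
  refine (key s hs s0 h).elim id fun ⟨a1, a2⟩ => ?_
  rcases key t ht t0 h' with rfl | ⟨rfl, -⟩ <;> subst a1
  · exact (h'''.1 (by linear_combination 7 * a2)).elim
  · exact (h''.1 (by linear_combination 15 * a2)).elim

/-- The arithmetic for new reflections of the class of the roots without zero coordinates. -/
theorem fullR {a b : F} (a0 : a ≠ 0) (b0 : b ≠ 0) (hs : Ang ((a + b) ^ 2))
    (ht : Ang ((a - b) ^ 2)) (h : Ang ((2 - 2 * (a ^ 2 + b ^ 2)) ^ 2))
    (h' : 2 * (a ^ 2 + b ^ 2) ≠ 3) : a ^ 2 = b ^ 2 ∨ ∃ p, p ≠ 4 ∧ p ^ 2 - 3 * p + 1 = 0 ∧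
      2 * (a ^ 2 + b ^ 2) = 1 + p ∧ 16 * (a ^ 2 * b ^ 2) = p := by
  have h1 : 2 * (a ^ 2 + b ^ 2) = (a + b) ^ 2 + (a - b) ^ 2 := by ring
  have h4 : 16 * (a ^ 2 * b ^ 2) = ((a + b) ^ 2 - (a - b) ^ 2) ^ 2 := by ring
  have h5 : (a + b) ^ 2 ≠ (a - b) ^ 2 := fun h => mul_ne_zero a0 b0
    (eq_of_six h2 h3 2 0 (by linear_combination h))
  have h6 : (a + b) ^ 2 * (a - b) ^ 2 = 0 → a ^ 2 = b ^ 2 := fun h =>
    sub_eq_zero.1 (pow_eq_zero_iff two_ne_zero |>.1 (by linear_combination h))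
  rw [h1] at h h' ⊢
  rw [h4]
  generalize (a + b) ^ 2 = s at *
  generalize (a - b) ^ 2 = t at *
  obtain ⟨s4, rfl | rfl | rfl | hs⟩ := hs
  · exact Or.inl (h6 (zero_mul _))
  · obtain ⟨t4, rfl | rfl | rfl | ht⟩ := ht
    · exact Or.inl (h6 (mul_zero _))
    · exact (h5 rfl).elim
    · exact (h' (by norm_num)).elim
    · exact Or.inr ⟨t, t4, ht, rfl, by linear_combination ht⟩
  · obtain ⟨t4, rfl | rfl | rfl | ht⟩ := ht
    · exact Or.inl (h6 (mul_zero _))
    · exact (h' (by norm_num)).elim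
    · exact (h5 rfl).elim
    · exact (not_sq h2 h3 ht t4 (by convert h using 1; ring)).elim
  · obtain ⟨t4, rfl | rfl | rfl | ht⟩ := ht
    · exact Or.inl (h6 (mul_zero _))
    · exact Or.inr ⟨s, s4, hs, add_comm _ _, by linear_combination hs⟩
    · exact (not_sq h2 h3 hs s4 (by convert h using 1; ring)).elim
    · exact (h' ((roots h2 h3 hs ht).resolve_left h5).1).elim

end Ang

end Cfsg.Lib.OMax
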