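import Cfsg.Agent.Lib.OMax.FrameA

/-!
# Orthogonal frames: overgroups without new reflections are monomial
-/

set_option autoImplicit false

namespace Cfsg.Lib.OMax

open QuadraticMap Module Cfsg.Lib.Orth Finset

variable {F V : Type*} [Field F] [AddCommGroup V] [Module F V] {Q : QuadraticForm F V}
  {K : Subgroup (O Q)}

theorem exists_mem_notMem_list {κ : Type*} [DecidableEq κ] (I : Finset κ) (l : List κ)
    (h : l.length < I.card) : ∃ i ∈ I, i ∉ l := by
  simpa using exists_mem_notMem_of_card_lt_card ((List.toFinset_card_le l).trans_lt h)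

namespace Fr

variable {κ : Type*} [DecidableEq κ] {e : κ → V} (S : Fr Q e) [FiniteDimensional F V] [Fintype κ]
  (hH : mon Q e ⊓ commutator (O Q) ≤ K)
  (hN : ∀ a b, Q b ≠ 0 → refl Q b ∈ mon Q e → RC K a b → refl Q a ∈ mon Q e)
include S hH hN

section
variable (hn : 3 ≤ Fintype.card κ)
include hn

theorem mem_of_rc {g : O Q} (hg : g ∈ K) {i j : κ} (h : RC K (g.1 (e i)) (e j)) :
    g ∈ mon Q e := S.mem_mon fun l => by
  have h2 := S.two
  have h1 : Q (g.1 (e l)) = 2⁻¹ := by rw [O.map_Q, S.Q_e]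
  obtain ⟨c, hc, k, h3 | ⟨m, ε, hkm, hε, h3⟩⟩ := S.cases_of_mem (h1 ▸ inv_ne_zero h2)
    (hN _ _ (S.Q_ne j) (S.refl_e_mem j) (((S.rc_e hH l i).map hg).trans h))
  · exact ⟨k, c, h3⟩
  exfalso
  rw [h3, Q_smul, S.Q_rt hkm hε, mul_one] at h1
  obtain ⟨o, -, ho⟩ := exists_mem_notMem_list univ [k, m] hn
  simp only [List.mem_cons, List.not_mem_nil, or_false, not_or] at ho
  have h4 : Q (c • (e k + (1 : F) • e o)) = 2⁻¹ := by
    rw [Q_smul, S.Q_rt (Ne.symm ho.1) (one_mul 1), mul_one, h1]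
  have h5 := (S.rc_of_mem hH (by rw [refl_smul hc]; exact S.refl_rt_mem (Ne.symm ho.1) (one_mul 1))
    (S.refl_e_mem j) (h4 ▸ inv_ne_zero h2) (h4.trans (S.Q_e j).symm)).map (inv_mem hg)
  have h6 := h.map (inv_mem hg)
  rw [O.inv_apply_apply] at h6
  have h7 : polar Q (e l) ((g⁻¹).1 (c • (e k + (1 : F) • e o))) = 2⁻¹ := by
    rw [← O.polar_left, h3, ← h1]
    simp [S.pol, polar_add_left, polar_add_right, ho.1, ho.2, Ne.symm ho.1, Ne.symm ho.2, hkm.symm,
      pow_two]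
  have h8 : Q ((g⁻¹).1 (c • (e k + (1 : F) • e o))) = 2⁻¹ := by rw [O.map_Q, h4]
  obtain ⟨d, -, s, h9 | ⟨t, η, hst, hη, h9⟩⟩ := S.cases_of_mem (h8 ▸ inv_ne_zero h2)
    (hN _ _ (S.Q_ne i) (S.refl_e_mem i) (h5.trans h6.symm)) <;> rw [h9] at h7 h8
  · rw [Q_smul, S.Q_e] at h8
    rw [polar_smul_right', S.pol] at h7
    split_ifs at h7
    · rw [mul_one] at h7
      refine S.prime.two_mul_sq_ne ?_ c (by rw [h1, mul_inv_cancel₀ h2])
      rw [h7] at h8; field_simp at h8; linear_combination -h8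
    · exact inv_ne_zero h2 (by simpa using h7.symm)
  · rw [Q_smul, S.Q_rt hst hη, mul_one] at h8
    simp only [polar_smul_right', polar_add_right, S.pol] at h7
    have h10 : (2⁻¹ : F) ^ 2 ≠ 2⁻¹ := fun h => by field_simp at h; exact one_ne_zero (α := F) (by
      linear_combination -h)
    split_ifs at h7 with a1 a2 a2
    · exact hst (a1.symm.trans a2)
    · exact h10 (by rw [← h7]; linear_combination h8 - h7)
    · exact h10 (by rw [← h7]; linear_combination h8 - h7 + d ^ 2 * hη)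
    · exact inv_ne_zero h2 (by simpa using h7.symm)

theorem mem_of_smul {g : O Q} (hg : g ∈ K) {i j : κ} {c : F} (h : g.1 (e i) = c • e j) :
    g ∈ mon Q e := by
  refine S.mem_of_rc hH hN hn hg (i := i) (j := j) ⟨by simp [S.Q_e], ?_⟩
  rw [h, refl_smul (left_ne_zero_of_mul_eq_one (S.mul_self_of_apply h)), refl_mul_self]
  exact one_mem _

theorem false_of_zero {m : O Q} (hm : m ∈ K) (hm' : m ∉ mon Q e) {I : Finset κ} (hI : 5 ≤ I.card)
    {k₀ : κ} (h0 : ∀ i ∈ I, polar Q (e i) (m.1 (e k₀)) = 0) : False := by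
  have h2 := S.two
  obtain ⟨k, hk⟩ := card_pos.1 (show 0 < I.card by omega)
  obtain ⟨l, hl⟩ := S.exists_ne (O.apply_ne_zero m⁻¹ (ne_zero_of_Q_ne_zero (S.Q_ne k)))
  rw [← O.polar_left, polar_comm] at hl
  have hP : ∀ s ∈ K, s.1 (m.1 (e k₀)) = m.1 (e k₀) → (∃ ε : F, s.1 (m.1 (e l)) = ε • m.1 (e l)) ∨
      polar Q (m.1 (e l)) (s.1 (m.1 (e l))) = 0 := fun s hs h => by
    obtain ⟨j, ε, -, h1⟩ := S.exists_apply (S.mem_of_smul hH hN hn (g := m⁻¹ * s * m)
      (mul_mem (mul_mem (inv_mem hm) hs) hm) (i := k₀) (j := k₀) (c := 1)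
      (by simp [O.mul_apply, h])) l
    rw [O.mul_apply, O.mul_apply, O.inv_apply_eq, map_smul] at h1
    by_cases hj : l = j
    · exact Or.inl ⟨ε, hj ▸ h1⟩
    · exact Or.inr (by rw [h1, polar_smul_right', O.map_polar, S.pol, if_neg hj, mul_zero])
  have h1 : polar Q (m.1 (e l)) (m.1 (e l)) = 1 := by rw [O.map_polar, S.pol, if_pos rfl]
  have h3 : ∃ j, j ≠ k ∧ polar Q (e j) (m.1 (e l)) ≠ 0 := by
    by_contra! h
    exact hm' (S.mem_of_smul hH hN hn hm (c := polar Q (e k) (m.1 (e l))) (i := l) (j := k)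
      (S.ext fun j => by
      by_cases hj : j = k <;> simp [S.pol, hj, h]))
  generalize m.1 (e l) = c at hl hP h1 h3
  generalize m.1 (e k₀) = a at h0 hP
  have fx : ∀ i ∈ I, (refl Q (e i)).1 a = a := fun i hi => refl_apply_of_perp (h0 i hi)
  have fx' : ∀ i ∈ I, ∀ j ∈ I, (refl Q (e i + (-1 : F) • e j)).1 a = a := fun i hi j hj =>
    refl_apply_of_perp (by simp [polar_add_left, h0 i hi, h0 j hj])
  have pe : ∀ i x, polar Q c ((refl Q (e i)).1 x) =
      polar Q c x - 2 * polar Q (e i) x * polar Q (e i) c := fun i x => by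
    rw [S.refl_e, polar_sub_right, polar_smul_right', polar_comm Q c (e i)]
  have D : ∀ i ∈ I, ∀ j ∈ I, i ≠ j → polar Q (e i) c ≠ 0 → (∀ o, o ≠ i → o ≠ j →
      polar Q (e o) c = 0) ∨ 2 * polar Q (e i) c ^ 2 + 2 * polar Q (e j) c ^ 2 = 1 :=
    fun i hi j hj hij h => by
    rcases hP _ (S.rc_e hH i j).2 (by rw [O.mul_apply, fx j hj, fx i hi]) with ⟨ε, h4⟩ | h4
    · refine Or.inl fun o o1 o2 => ?_
      have a1 := congrArg (polar Q (e i)) h4
      have a2 := congrArg (polar Q (e o)) h4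
      simp only [O.mul_apply, S.pol_refl_e, o1, o2, hij, if_true, if_false,
        polar_smul_right'] at a1 a2
      have a3 : ε = -1 := mul_right_cancel₀ h (by linear_combination -a1)
      exact mul_left_cancel₀ h2 (by rw [a3] at a2; linear_combination a2)
    · simp only [O.mul_apply, pe, S.pol_refl_e, hij, if_false, h1] at h4
      exact Or.inr (by linear_combination -h4)
  have Z : ∀ l₁ ∈ I, ∀ l₂ ∈ I, ∀ l₃ ∈ I, l₁ ∉ [k] → l₂ ∉ [k, l₁] → l₃ ∉ [k, l₁, l₂] →
      polar Q (e l₁) c = 0 → polar Q (e l₂) c = 0 → polar Q (e l₃) c = 0 →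
      2 * polar Q (e k) c ^ 2 ≠ 1 := fun l₁ a1 l₂ a2 l₃ a3 b1 b2 b3 c1 c2 c3 h4 => by
    simp only [List.mem_cons, List.not_mem_nil, or_false, not_or] at b1 b2 b3
    have h5 : (refl Q (e l₂ + (-1 : F) • e l₃)).1 c = c :=
      refl_apply_of_perp (by simp [polar_add_left, c2, c3])
    rcases hP _ (S.rc_rt hH (Ne.symm b1) (Ne.symm b3.2.2) (ε := -1) (ε' := -1) (by simp)
      (by simp)).2 (by rw [O.mul_apply, fx' _ a2 _ a3, fx' _ hk _ a1]) with ⟨ε, h6⟩ | h6 <;>
      rw [O.mul_apply, h5] at h6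
    · have := congrArg (polar Q (e l₁)) h6
      rw [S.pol_refl_rt (Ne.symm b1) (by simp), if_neg b1, if_pos rfl, polar_smul_right', c1] at this
      exact hl (by simpa using this)
    · rw [refl_apply, S.Q_rt (Ne.symm b1) (by simp), polar_sub_right, h1, polar_smul_right',
        polar_comm Q c, polar_add_left, polar_smul_left', c1] at h6
      exact one_ne_zero (α := F) (by linear_combination 2 * h6 + h4)
  by_cases hA : ∃ l₀, ∀ o, o ≠ k → o ≠ l₀ → polar Q (e o) c = 0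
  · obtain ⟨l₀, hA⟩ := hA
    obtain ⟨l₁, a1, b1⟩ := exists_mem_notMem_list I [k, l₀] (by simp; omega)
    obtain ⟨l₂, a2, b2⟩ := exists_mem_notMem_list I [k, l₀, l₁] (by simp; omega)
    obtain ⟨l₃, a3, b3⟩ := exists_mem_notMem_list I [k, l₀, l₁, l₂] (by simp; omega)
    simp only [List.mem_cons, List.not_mem_nil, or_false, not_or] at b1 b2 b3
    refine Z l₁ a1 l₂ a2 l₃ a3 (by simp [b1]) (by simp [b2]) (by simp [b3]) (hA _ b1.1 b1.2)
      (hA _ b2.1 b2.2.1) (hA _ b3.1 b3.2.1) ?_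
    rcases D k hk l₁ a1 (Ne.symm b1.1) hl with h4 | h4
    · obtain ⟨j, j1, j2⟩ := h3
      by_cases hj : j = l₁
      · exact (j2 (hj ▸ hA _ b1.1 b1.2)).elim
      · exact (j2 (h4 j j1 hj)).elim
    · simpa [hA _ b1.1 b1.2] using h4
  have h4 : ∀ j ∈ I, j ≠ k → 2 * polar Q (e k) c ^ 2 + 2 * polar Q (e j) c ^ 2 = 1 :=
    fun j hj hjk => (D k hk j hj hjk.symm hl).resolve_left fun h => hA ⟨j, h⟩
  obtain ⟨l₁, a1, b1⟩ := exists_mem_notMem_list I [k] (by simp; omega)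
  obtain ⟨l₂, a2, b2⟩ := exists_mem_notMem_list I [k, l₁] (by simp; omega)
  obtain ⟨l₃, a3, b3⟩ := exists_mem_notMem_list I [k, l₁, l₂] (by simp; omega)
  obtain ⟨l₄, a4, b4⟩ := exists_mem_notMem_list I [k, l₁, l₂, l₃] (by simp; omega)
  have Z' := Z l₁ a1 l₂ a2 l₃ a3 b1 b2 b3
  simp only [List.mem_cons, List.not_mem_nil, or_false, not_or] at b1 b2 b3 b4
  have c1 := h4 l₁ a1 b1
  have c2 := h4 l₂ a2 b2.1
  have c3 := h4 l₃ a3 b3.1
  have c4 := h4 l₄ a4 b4.1
  have sq : ∀ x : F, 2 * x ^ 2 = 0 → x = 0 := fun x h => by simpa [h2] using h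
  by_cases h5 : 2 * polar Q (e k) c ^ 2 = 1
  · exact Z' (sq _ (by linear_combination c1 - h5)) (sq _ (by linear_combination c2 - h5))
      (sq _ (by linear_combination c3 - h5)) h5
  have h6 := (D l₁ a1 l₂ a2 (Ne.symm b2.2) fun h => h5 (by simpa [h] using c1)).resolve_left
    fun h => hl (h k (Ne.symm b1) (Ne.symm b2.1))
  rcases hP _ (mul_mem (S.rc_e hH k l₁).2 (S.rc_e hH l₂ l₃).2) (by
    simp only [O.mul_apply, fx _ hk, fx _ a1, fx _ a2, fx _ a3]) with ⟨ε, h7⟩ | h7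
  · have d1 := congrArg (polar Q (e k)) h7
    have d2 := congrArg (polar Q (e l₄)) h7
    simp only [O.mul_apply, S.pol_refl_e, b4, Ne.symm b1, Ne.symm b2.1, Ne.symm b3.1, if_true,
      if_false, polar_smul_right'] at d1 d2
    have d3 : ε = -1 := mul_right_cancel₀ hl (by linear_combination -d1)
    have d4 : polar Q (e l₄) c = 0 := mul_left_cancel₀ h2 (by rw [d3] at d2; linear_combination d2)
    exact h5 (by simpa [d4] using c4)
  · simp only [O.mul_apply, pe, S.pol_refl_e, Ne.symm b1, Ne.symm b2.1, Ne.symm b3.1, Ne.symm b2.2,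
      Ne.symm b3.2.1, Ne.symm b3.2.2, if_false, h1] at h7
    exact one_ne_zero (α := F) (by linear_combination -h7 - h6 - c3)

theorem le_mon_of_odd (ho : Odd (Fintype.card κ)) : K ≤ mon Q e :=
  fun g hg => by
  have key : ∀ (i : κ) (T : Finset κ), ∃ σ : O Q, (∀ j x, polar Q (e j) (σ.1 x) =
      if j ∈ T then -polar Q (e j) x else polar Q (e j) x) ∧
      (if Even T.card then σ else refl Q (e i) * σ) ∈ K := fun i T => by
    induction T using Finset.induction_on with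
    | empty => exact ⟨1, fun j x => by simp [O.one_apply], by simp⟩
    | insert a T ha ih =>
      obtain ⟨σ, h1, h2⟩ := ih
      refine ⟨refl Q (e a) * σ, fun j x => ?_, ?_⟩
      · rw [O.mul_apply, S.pol_refl_e, h1]
        by_cases hj : j = a <;> simp [hj, ha]
      · rw [card_insert_of_notMem ha]
        by_cases h : Even T.card <;> simp only [h, Nat.even_add_one, if_true, if_false,
          not_true, not_false_iff] at h2 ⊢
        · exact mul_assoc _ _ σ ▸ mul_mem (S.rc_e hH i a).2 h2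
        · simpa [mul_assoc, ← mul_assoc (refl Q (e i)), refl_mul_self] using
            mul_mem (S.rc_e hH a i).2 h2
  obtain ⟨i⟩ : Nonempty κ := Fintype.card_pos_iff.1 (by omega)
  obtain ⟨σ, h1, h2⟩ := key i (univ.erase i)
  rw [if_pos (by rw [card_erase_of_mem (mem_univ _), card_univ]; exact ho.tsub_odd odd_one)] at h2
  have h3 : σ = O.neg Q * refl Q (e i) := O.ext fun x => S.ext fun j => by
    rw [h1, O.mul_apply, O.neg_apply, polar_neg_right, S.pol_refl_e]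
    by_cases hj : j = i <;> simp [hj]
  refine S.mem_of_rc hH hN hn hg (i := i) (j := i) ⟨by simp, ?_⟩
  convert mul_mem (mul_mem (mul_mem hg h2) (inv_mem hg)) h2 using 1
  refine O.ext fun x => ?_
  simp [← conj_refl, h3, O.mul_apply]

end

variable (hn : 9 ≤ Fintype.card κ)
include hn

theorem bi_notMem {g : O Q} (hg : g ∈ K) (hg' : g ∉ mon Q e) {i j : κ} (hij : i ≠ j) :
    refl Q (g.1 (e i)) * refl Q (g.1 (e j)) ∉ mon Q e := fun h => by
  classical
  generalize ht : refl Q (g.1 (e i)) * refl Q (g.1 (e j)) = t at h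
  have h1 := S.card_le h 2 _ (univ.filter fun k => t.1 (e k) ≠ e k) (finrank_span_pair_le _ _)
    fun k hk => ⟨(mem_filter.1 hk).2, ht ▸ refl_mul_refl_sub_mem _ _ _⟩
  refine S.false_of_zero hH hN (by omega) hg hg' (I := (univ.filter fun k => t.1 (e k) ≠ e k)ᶜ)
    (by rw [card_compl]; omega) (k₀ := i) fun k hk => ?_
  have h2 : t.1 (g.1 (e i)) = -g.1 (e i) := by
    rw [← ht, O.mul_apply, refl_apply_of_perp (v := g.1 (e j))
      (by rw [O.map_polar, S.pol, if_neg hij.symm]),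
      refl_apply_self (by simpa using S.Q_ne i)]
  have h3 := O.map_polar t (e k) (g.1 (e i))
  rw [h2, show t.1 (e k) = e k by simpa using hk, polar_neg_right] at h3
  exact mul_left_cancel₀ S.two (by linear_combination -h3)

omit hH hN hn [FiniteDimensional F V] [Fintype κ] in
theorem Q_ne_of_neg {t t' : O Q} (ht : Bi t) (ht' : Bi t') (hne : t ≠ t') (h : t * t' ∈ mon Q e)
    {x : V} (h0 : x ≠ 0) (hx : t.1 x = -x) (hx' : t'.1 x = -x) : Q x ≠ 0 := fun h1 => by
  have h2 := S.two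
  obtain ⟨⟨i, hi⟩, h3⟩ := ht.sub_mem_of_singular h2 hx h0 h1
  have h4 : (3 : F) ≠ 0 := fun h => S.prime.two_mul_sq_ne h i (by linear_combination 2 * hi - h)
  have h5 : ∀ v, polar Q x v = 0 → ∃ c : F, (t * t').1 v = v + c • x := fun v hv => by
    obtain ⟨c, hc⟩ := h3 v hv
    obtain ⟨d, hd⟩ := (ht'.sub_mem_of_singular h2 hx' h0 h1).2 v hv
    exact ⟨c - d, by rw [O.mul_apply, hd, map_add, map_smul, hc, hx]; module⟩
  have h6 : (t * t').1 x = x := by rw [O.mul_apply, hx', map_neg, hx, neg_neg]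
  have h7 : t * t' ≠ 1 := fun h => hne (by rw [← mul_one t, ← ht'.mul_self, ← mul_assoc, h, one_mul])
  generalize t * t' = g at h h5 h6 h7
  have h8 : ∀ v, polar Q x v = 0 → polar Q v (g.1 v) = polar Q v v := fun v hv => by
    obtain ⟨c, hc⟩ := h5 v hv
    rw [hc, polar_add_right, polar_smul_right', polar_comm Q v x, hv, mul_zero, add_zero]
  obtain ⟨k, hk⟩ : ∃ k, g.1 (e k) ≠ e k := by
    by_contra! h9
    exact h7 (O.ext fun v => S.ext fun k => by rw [O.one_apply, ← O.map_polar g (e k) v, h9])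
  obtain ⟨m, ε, hε, h9⟩ := S.exists_apply h k
  have h10 := O.map_polar g (e k) x
  rw [h6, h9, polar_smul_left'] at h10
  have h11 : ε ≠ 1 ∨ k ≠ m := by
    by_contra! h11; exact hk (by rw [h9, h11.1, h11.2, one_smul])
  by_cases hkx : polar Q (e k) x = 0
  · have := h8 (e k) (polar_comm Q x _ ▸ hkx)
    rw [h9, polar_smul_right', S.pol, S.pol] at this
    split_ifs at this <;> simp_all
  have hkm : k ≠ m := h11.elim (fun h11 h12 => h11 (mul_right_cancel₀ hkx (by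
    rw [← h12] at h10; rw [h10, one_mul]))) id
  obtain ⟨o, η, hη, h12⟩ := S.exists_apply h m
  have h13 := h8 (e k + (-ε) • e m) (by
    rw [polar_comm, polar_add_left, polar_smul_left', ← h10]; ring)
  rw [polar_self', S.Q_rt hkm (by simpa), map_add, map_smul, h9, h12] at h13
  simp only [polar_add_left, polar_add_right, polar_smul_left', polar_smul_right', S.pol, hkm,
    if_true, if_false] at h13
  have h14 : ∀ y : F, y * y = 1 → y ≠ -3 := fun y a1 a2 => by
    rw [a2] at a1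
    exact pow_ne_zero 3 h2 (by linear_combination a1)
  split_ifs at h13 with a1 a2 a2
  · exact hkm (a1.trans a2.symm)
  · exact h14 (ε * η) (by linear_combination η * η * hε + hη) (by linear_combination -h13 - hε)
  · exact h14 (-η) (by simpa) (by linear_combination -h13 + (η - 1) * hε)
  · exact h4 (by linear_combination -h13 - hε)

theorem card_bi_le (T : Finset (O Q)) (hT : ∀ t ∈ T, t ∈ K ∧ t ∉ mon Q e ∧ Bi t)
    (h : ∀ t ∈ T, ∀ t' ∈ T, t * t' ∈ mon Q e) : T.card ≤ 2 * Fintype.card κ := by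
  classical
  by_contra hc
  have h2 := S.two
  have A : ∀ t ∈ T, ∀ t' ∈ T, ∀ k, (t * t').1 (e k) = e k →
      t'.1 (t.1 (e k) - e k) = -(t.1 (e k) - e k) := fun t h1 t' h3 k hk => by
    have : t'.1 (e k) = t.1 (e k) := by
      rw [← (hT t h1).2.2.apply_apply (t'.1 (e k)), ← O.mul_apply t t', hk]
    rw [← this, map_sub, (hT t' h3).2.2.apply_apply, neg_sub]
  have A' : ∀ t ∈ T, ∀ k, t.1 (e k) - e k ≠ 0 := fun t h1 k h3 => (hT t h1).2.1
    (S.mem_of_smul hH hN (by omega) (hT t h1).1 ((sub_eq_zero.1 h3).trans (one_smul F _).symm))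
  have A'' : ∀ t ∈ T, ∀ k, t.1 (t.1 (e k) - e k) = -(t.1 (e k) - e k) := fun t h1 k =>
    A t h1 t h1 k (by rw [(hT t h1).2.2.mul_self, O.one_apply])
  have B : ∀ t ∈ T, ∀ t' ∈ T, ∀ x, Q x ≠ 0 → t.1 x = -x → t'.1 x = -x → ∃ y y', Q x = Q y ∧
      Q x = Q y' ∧ polar Q x y = 0 ∧ polar Q x y' = 0 ∧ t = refl Q x * refl Q y ∧
      t' = refl Q x * refl Q y' ∧ t * t' = refl Q y * refl Q y' := fun t h1 t' h3 x h4 h5 h6 => by
    obtain ⟨y, a1, a2, a3⟩ := (hT t h1).2.2.split h2 h5 h4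
    obtain ⟨y', b1, b2, b3⟩ := (hT t' h3).2.2.split h2 h6 h4
    refine ⟨y, y', a1, b1, a2, b2, a3, b3, ?_⟩
    rw [a3, b3, refl_comm_of_perp a2, mul_assoc, ← mul_assoc (refl Q x), refl_mul_self, one_mul]
  have C : ∀ t ∈ T, ∀ t' ∈ T, t ≠ t' → ∃ x, Q x ≠ 0 ∧ t.1 x = -x ∧ t'.1 x = -x :=
    fun t h1 t' h3 h4 => by
    obtain ⟨a, b, -, -, -, a1⟩ := (hT t h1).2.2
    obtain ⟨a', b', -, -, -, a2⟩ := (hT t' h3).2.2
    obtain ⟨k, hk, -⟩ := S.exists_fix (h t h1 t' h3) (one_mem _) (U' := ⊥)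
      (U := Submodule.span F {a, b} ⊔ Submodule.span F {a', b'}) (fun x => by
        rw [O.mul_apply, ← sub_add_sub_cancel _ (t'.1 x)]
        exact add_mem (Submodule.mem_sup_left (a1 ▸ refl_mul_refl_sub_mem _ _ _))
          (Submodule.mem_sup_right (a2 ▸ refl_mul_refl_sub_mem _ _ _)))
      (fun x => by simp [O.one_apply]) (by
        have := Submodule.finrank_add_le_finrank_add_finrank (Submodule.span F {a, b})
          (Submodule.span F {a', b'})
        have := finrank_span_pair_le (F := F) a b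
        have := finrank_span_pair_le (F := F) a' b'
        rw [finrank_bot]; omega)
    exact ⟨_, S.Q_ne_of_neg (hT t h1).2.2 (hT t' h3).2.2 h4 (h t h1 t' h3) (A' t h1 k) (A'' t h1 k)
      (A t h1 t' h3 k hk), A'' t h1 k, A t h1 t' h3 k hk⟩
  obtain ⟨t₁, h1, t₂, h3, h4⟩ := one_lt_card.1 (show 1 < T.card by omega)
  obtain ⟨x, x0, x1, x2⟩ := C t₁ h1 t₂ h3 h4
  obtain ⟨y, y₂, a1, a2, a3, a4, a5, a6, a7⟩ := B t₁ h1 t₂ h3 x x0 x1 x2
  have D : ∀ t ∈ T, t.1 x = -x := fun t h5 => by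
    by_cases h6 : t₁ = t
    · exact h6 ▸ x1
    obtain ⟨x', b0, b1, b2⟩ := C t₁ h1 t h5 h6
    obtain ⟨y', y'', -, -, -, -, -, -, b3⟩ := B t₁ h1 t h5 x' b0 b1 b2
    obtain ⟨k, k1, k2⟩ := S.exists_fix (h t₁ h1 t₂ h3) (h t₁ h1 t h5)
      (a7 ▸ refl_mul_refl_sub_mem _ _) (b3 ▸ refl_mul_refl_sub_mem _ _) (by
        have := finrank_span_pair_le (F := F) y y₂
        have := finrank_span_pair_le (F := F) y' y''
        omega)
    obtain ⟨α, β, h7⟩ := exists_comb_of_neg h2 a3 (a5 ▸ A'' t₁ h1 k)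
    have h8 := A t₁ h1 t₂ h3 k k1
    have h9 := A t₁ h1 t h5 k k2
    have h10 := A' t₁ h1 k
    rw [← a5] at h7
    rw [h7] at h8 h9 h10
    have h11 : β = 0 := by_contra fun hβ => h4 (by
      have c1 : t₂.1 y = -y := smul_right_injective V hβ (by
        rw [map_add, map_smul, map_smul, x2] at h8
        linear_combination (norm := module) h8)
      rw [a6, O.mul_apply, eq_comm, ← O.inv_apply_eq, refl_inv, map_neg, refl_apply_of_perp a3,
        refl_apply, eq_comm] at c1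
      have c2 : y = (2⁻¹ * ((Q y₂)⁻¹ * polar Q y₂ y)) • y₂ := smul_right_injective V h2 (by
        simp only [smul_smul, mul_inv_cancel_left₀ h2]
        linear_combination (norm := module) c1)
      rw [a5, a6, c2, refl_smul fun c3 => x0 (by rw [a1, c2, c3, zero_smul, map_zero])])
    rw [h11, zero_smul, add_zero] at h9 h10
    exact smul_right_injective V (left_ne_zero_of_smul h10) (by simpa using h9)
  have h5 : refl Q y ∉ mon Q e := fun h5 => (hT t₁ h1).2.1 (a5 ▸ mul_mem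
    (hN x y (a1 ▸ x0) h5 ⟨a1, a5 ▸ (hT t₁ h1).1⟩) h5)
  obtain ⟨k, hk⟩ := S.exists_ne (ne_zero_of_Q_ne_zero (a1 ▸ x0 : Q y ≠ 0))
  have E : ∀ t ∈ T, ∃ z, Q x = Q z ∧ t = refl Q x * refl Q z ∧ t₁ * t = refl Q y * refl Q z :=
    fun t h6 => by
    obtain ⟨z, b1, -, b3⟩ := (hT t h6).2.2.split h2 (D t h6) x0
    refine ⟨z, b1, b3, ?_⟩
    rw [a5, b3, refl_comm_of_perp a3, mul_assoc, ← mul_assoc (refl Q x), refl_mul_self, one_mul]
  refine hc ((card_le_card_of_injOn (t := (univ ×ˢ ({1, -1} : Finset F)).image fun p => p.2 • e p.1)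
    (fun t => (t₁ * t).1 (e k)) (fun t h6 => ?_) fun t h6 t' h7 h8 => ?_).trans
    (card_image_le.trans ?_))
  · obtain ⟨m, ε, b1, b2⟩ := S.exists_apply (h t₁ h1 t h6) k
    exact mem_coe.2 (mem_image.2 ⟨(m, ε), by simpa using mul_self_eq_one_iff.1 b1, b2.symm⟩)
  · obtain ⟨z, b1, b2, b3⟩ := E t h6
    obtain ⟨z', c1, c2, c3⟩ := E t' h7
    have b4 : polar Q z (e k) ≠ 0 := fun b4 => by
      obtain ⟨m, ε, -, b5⟩ := S.exists_apply (h t₁ h1 t h6) k
      rw [b3, O.mul_apply, refl_apply_of_perp b4] at b5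
      exact h5 (S.mem_of_apply (a1 ▸ x0) hk b5)
    simp only [b3, c3, O.mul_apply, EmbeddingLike.apply_eq_iff_eq] at h8
    rw [refl_apply, refl_apply, sub_right_inj] at h8
    have b5 : (Q z)⁻¹ * polar Q z (e k) ≠ 0 := mul_ne_zero (inv_ne_zero (b1 ▸ x0)) b4
    rw [b2, c2, ← refl_smul b5 z, h8, refl_smul fun b6 => smul_ne_zero b5
      (ne_zero_of_Q_ne_zero (b1 ▸ x0 : Q z ≠ 0)) (by rw [h8, b6, zero_smul])]
  · rw [card_product, card_univ, mul_comm]
    exact Nat.mul_le_mul_right _ card_le_two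

omit hH hN hn [FiniteDimensional F V] [Fintype κ] in
theorem pair_eq [LinearOrder κ] {i j k l : κ} (h1 : i ≠ j) (h2 : k ≠ l)
    (h : refl Q (e i) * refl Q (e j) = refl Q (e k) * refl Q (e l)) (h' : i < j ↔ k < l) :
    i = k ∧ j = l := by
  have a5 : ∀ m, m = i ∨ m = j ↔ m = k ∨ m = l := fun m => by
    have := congrArg (fun g : O Q => polar Q (e m) (g.1 (e m))) h
    have h2 : (-1 : F) ≠ 1 := fun h => S.two (by linear_combination -h)
    simp only [O.mul_apply, S.pol_refl_e, S.pol, if_true] at this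
    clear h
    split_ifs at this <;> grind
  have a6 := (a5 i).1 (Or.inl rfl)
  have a7 := (a5 j).1 (Or.inr rfl)
  grind

theorem mem_of_bi_eq {g g' : O Q} (hg : g ∈ K) (hg' : g' ∈ K) {i j k l : κ} (h2 : k ≠ l)
    (h : refl Q (g.1 (e i)) * refl Q (g.1 (e j)) = refl Q (g'.1 (e k)) * refl Q (g'.1 (e l))) :
    g⁻¹ * g' ∈ mon Q e ∧ (g = g' → refl Q (e i) * refl Q (e j) = refl Q (e k) * refl Q (e l)) := by
  have a3 : refl Q (e i) * refl Q (e j) = refl Q ((g⁻¹ * g').1 (e k)) *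
      refl Q ((g⁻¹ * g').1 (e l)) := by
    have := congrArg (fun x => g⁻¹ * x * g) h
    simp only [← conj_refl] at this ⊢
    simpa [mul_assoc] using this
  refine ⟨by_contra fun a4 => S.bi_notMem hH hN hn (mul_mem (inv_mem hg) hg') a4 h2
    (a3 ▸ mul_mem (S.refl_e_mem i) (S.refl_e_mem j)), fun h3 => ?_⟩
  simpa [h3, O.one_apply] using a3

theorem le_mon [Finite F] : K ≤ mon Q e := fun g₀ hg₀ => by
  classical
  by_contra hg₀'
  have : Finite V := finite_of_finiteDimensional F V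
  let _ : LinearOrder κ := LinearOrder.lift' _ (Fintype.equivFin κ).injective
  obtain ⟨H', hH'⟩ : ∃ H' : Subgroup K, ∀ g, g ∈ H' ↔ g.1 ∈ mon Q e :=
    ⟨(mon Q e).subgroupOf K, fun g => Subgroup.mem_subgroupOf⟩
  have := Fintype.ofFinite (K ⧸ H')
  have h1 : ∀ g : K, (g : K ⧸ H') = (1 : K) ↔ g.1 ∈ mon Q e := fun g => by
    rw [eq_comm, QuotientGroup.eq, inv_one, one_mul, hH']
  obtain ⟨X, hX'⟩ : ∃ X : Finset (K ⧸ H'), ∀ q, q ∈ X ↔ q ≠ (1 : K) :=
    ⟨univ.erase (1 : K), by simp⟩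
  have hX : ∀ q ∈ X, (q.out : K).1 ∉ mon Q e := fun q hq h =>
    (hX' q).1 hq (by rw [← h1, QuotientGroup.out_eq'] at h; exact h)
  obtain ⟨t, ht'⟩ : ∃ t : (K ⧸ H') × κ × κ → K, ∀ p, (t p).1 =
      refl Q (p.1.out.1.1 (e p.2.1)) * refl Q (p.1.out.1.1 (e p.2.2)) :=
    ⟨fun p => ⟨_, ((S.rc_e hH p.2.1 p.2.2).map p.1.out.2).2⟩, fun p => rfl⟩
  have ht : ∀ p ∈ X ×ˢ (univ : Finset κ).offDiag, (t p).1 ∉ mon Q e ∧ Bi (t p).1 := fun p hp => by
    simp only [mem_product, mem_offDiag] at hp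
    rw [ht']
    exact ⟨S.bi_notMem hH hN hn p.1.out.2 (hX _ hp.1) hp.2.2.2, _, _, by simpa using S.Q_ne _,
      by simp [S.Q_e], by rw [O.map_polar, S.pol, if_neg hp.2.2.2], rfl⟩
  obtain ⟨y, -, h2⟩ := exists_lt_card_fiber_of_mul_lt_card_of_maps_to
    (s := X ×ˢ (univ : Finset κ).offDiag) (t := X) (f := fun p => (t p : K ⧸ H'))
    (n := 4 * Fintype.card κ) (fun p hp => (hX' _).2 (mt (h1 _).1 (ht p hp).1)) (by
      rw [card_product, offDiag_card, card_univ]
      refine Nat.mul_lt_mul_of_pos_left ?_ (card_pos.2 ⟨(⟨g₀, hg₀⟩ : K), (hX' _).2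
        (mt (h1 _).1 hg₀')⟩)
      have := Nat.mul_le_mul_right (Fintype.card κ) hn
      omega)
  generalize hY : (X ×ˢ (univ : Finset κ).offDiag).filter (fun p => (t p : K ⧸ H') = y) = Y at h2
  have hY' : ∀ p ∈ Y, p ∈ X ×ˢ (univ : Finset κ).offDiag ∧ (t p : K ⧸ H') = y :=
    fun p hp => mem_filter.1 (hY ▸ hp)
  have h3 := S.card_bi_le hH hN hn (Y.image fun p => (t p).1) (by
    simp only [forall_mem_image]
    exact fun p hp => ⟨(t _).2, ht _ (hY' _ hp).1⟩) (by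
    simp only [forall_mem_image]
    intro p hp p' hp'
    have := QuotientGroup.eq.1 ((hY' p hp).2.trans (hY' p' hp').2.symm)
    rwa [hH', Subgroup.coe_mul, Subgroup.coe_inv,
      inv_eq_of_mul_eq_one_left (ht p (hY' p hp).1).2.mul_self] at this)
  have h4 := card_le_card_of_injOn (s := Y) (t := (Y.image fun p => (t p).1) ×ˢ (univ : Finset Bool))
    (fun p => ((t p).1, decide (p.2.1 < p.2.2)))
    (fun p hp => mem_coe.2 (mem_product.2 ⟨mem_image_of_mem _ hp, mem_univ _⟩)) (by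
    rintro ⟨q, i, j⟩ hp ⟨q', k, l⟩ hp' h
    have a1 := (hY' _ hp).1
    have a2 := (hY' _ hp').1
    simp only [mem_product, mem_offDiag, Prod.mk.injEq, decide_eq_decide, ht'] at a1 a2 h
    obtain ⟨a3, a4⟩ := S.mem_of_bi_eq hH hN hn q.out.2 q'.out.2 a2.2.2.2 h.1
    have a5 : q = q' := by
      rw [← QuotientGroup.out_eq' q, ← QuotientGroup.out_eq' q', QuotientGroup.eq, hH']
      exact a3
    obtain ⟨rfl, rfl⟩ := S.pair_eq a1.2.2.2 a2.2.2.2 (a4 (by rw [a5])) h.2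
    rw [a5])
  rw [card_product, card_univ, Fintype.card_bool] at h4
  omega

end Fr

end Cfsg.Lib.OMax
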