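import Cfsg.Agent.Lib.OMax.FrameAlg
import Cfsg.Agent.Lib.OMax.FrameB

/-!
# Orthogonal frames: overgroups with a new reflection in the class of the frame
-/

set_option autoImplicit false

namespace Cfsg.Lib.OMax

open QuadraticMap Module Cfsg.Lib.Orth Finset

variable {F V : Type*} [Field F] [AddCommGroup V] [Module F V] {Q : QuadraticForm F V}
  {K : Subgroup (O Q)}

theorem PrimeF.sq_eq_one (h : PrimeF F) (h3 : (3 : F) = 0) {x : F} (hx : x ≠ 0) : x ^ 2 = 1 := by
  obtain ⟨n, rfl⟩ := h x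
  have : (n : F) ^ 3 = n := by
    clear hx
    induction n with
    | zero => simp
    | succ n ih => push_cast; linear_combination ih + ((n : F) ^ 2 + n) * h3
  exact mul_left_cancel₀ hx (by linear_combination this)

namespace Fr

variable {κ : Type*} [DecidableEq κ] {e : κ → V} (S : Fr Q e) [Fintype κ]
include S

theorem eq_sum (x : V) : ∑ i, polar Q (e i) x • e i = x := S.ext fun j => by
  rw [← polarBilin_apply_apply, map_sum]
  simp [S.pol]

theorem polar_sum (x y : V) : polar Q x y = ∑ i, polar Q (e i) x * polar Q (e i) y := by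
  conv_lhs => rw [← S.eq_sum x, polar_comm, ← polarBilin_apply_apply, map_sum]
  simp [polar_comm Q y]

omit [Fintype κ] in
theorem pol_swap {i j : κ} (h : i ≠ j) (k : κ) (x : V) : polar Q (e k) ((refl Q (e i - e j)).1 x) =
    if k = i then polar Q (e j) x else if k = j then polar Q (e i) x else polar Q (e k) x := by
  simpa [sub_eq_add_neg] using S.pol_refl_rt h (ε := -1) (by simp) k x

omit [Fintype κ] in
theorem Q_sub' {i j : κ} (h : i ≠ j) : Q (e i - e j) = 1 := by
  simpa [sub_eq_add_neg] using S.Q_rt h (ε := -1) (by simp)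

omit [Fintype κ] in
theorem swap_apply {i j : κ} (h : i ≠ j) : (refl Q (e i - e j)).1 (e i) = e j := S.ext fun k => by
  simp only [S.pol_swap h, S.pol]; grind

theorem polar_self_of_three (h3 : (3 : F) = 0) (x : V) [DecidablePred fun i => polar Q (e i) x ≠ 0] :
    ((univ.filter fun i => polar Q (e i) x ≠ 0).card : F) = 2 * Q x := by
  rw [← polar_self', S.polar_sum, card_filter, Nat.cast_sum]
  refine sum_congr rfl fun i _ => ?_
  split_ifs with h
  · simpa [pow_two] using (S.prime.sq_eq_one h3 h).symm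
  · simp [not_not.1 h]

theorem card_eq [FiniteDimensional F V] : finrank F V = Fintype.card κ := by
  simpa using S.decStr.finrank_eq

theorem irr_of {P : V → Prop} (h : ∀ N N' : Submodule F V, (∀ x ∈ N, ∀ y ∈ N', polar Q x y = 0) →
    (∀ w, P w → w ∈ N ∨ w ∈ N') → (∀ i, e i ∈ N) ∨ ∀ i, e i ∈ N') (M : Submodule F V)
    (hM : ∀ w, P w → w ∈ M ∨ w ∈ perp Q M) : M = ⊥ ∨ M = ⊤ := by
  rcases h M (perp Q M) (fun x hx y hy => mem_perp.1 hy x hx) hM with h1 | h1
  · exact Or.inr (eq_top_iff.2 fun x _ => S.eq_sum x ▸ M.sum_mem fun i _ => M.smul_mem _ (h1 i))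
  · exact Or.inl (eq_bot_iff.2 fun x hx => S.eq_zero x fun i => mem_perp'.1 (h1 i) x hx)

theorem mem_of_supp_one [FiniteDimensional F V] {a : V} {i : κ}
    (h : ∀ j, j ≠ i → polar Q (e j) a = 0) : refl Q a ∈ mon Q e := by
  have h1 : a = polar Q (e i) a • e i := S.ext fun j => by
    by_cases hj : j = i <;> simp [S.pol, hj, h]
  by_cases h2 : polar Q (e i) a = 0
  · rw [h1, h2, zero_smul, refl_of_singular (map_zero Q)]; exact one_mem _
  · rw [h1, refl_smul h2]; exact S.refl_e_mem i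

theorem exists_two [FiniteDimensional F V] {a : V} (h : refl Q a ∉ mon Q e) :
    ∃ i j, i ≠ j ∧ polar Q (e i) a ≠ 0 ∧ polar Q (e j) a ≠ 0 := by
  obtain ⟨i, hi⟩ := S.exists_ne (x := a) (by rintro rfl; exact h (by
    rw [refl_of_singular (map_zero Q)]; exact one_mem _))
  by_contra! h1
  exact h (S.mem_of_supp_one (i := i) fun j hj => h1 i j hj.symm hi)

theorem mem_of_supp_two [FiniteDimensional F V] {a : V} {i j : κ} (hij : i ≠ j)
    (h : ∀ k, k ≠ i → k ≠ j → polar Q (e k) a = 0)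
    (h1 : polar Q (e i) a ^ 2 = polar Q (e j) a ^ 2) : refl Q a ∈ mon Q e := by
  by_cases h2 : polar Q (e i) a = 0
  · exact S.mem_of_supp_one (i := j) fun k hk => by
      by_cases h3 : k = i
      exacts [h3 ▸ h2, h k h3 hk]
  have h3 : a = polar Q (e i) a • (e i + (polar Q (e j) a / polar Q (e i) a) • e j) :=
    S.ext fun k => by
      by_cases h3 : k = i
      · simp [S.pol, h3, hij, polar_add_right]
      · by_cases h4 : k = j
        · simp [S.pol, h4, hij.symm, polar_add_right, mul_div_cancel₀, h2]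
        · simp [S.pol, h3, h4, polar_add_right, h k h3 h4]
  rw [h3, refl_smul h2]
  exact S.refl_rt_mem hij (by field_simp; exact h1.symm)

theorem notMem_of_three {a : V} (h0 : Q a ≠ 0) {i j k : κ} (hij : i ≠ j) (hik : i ≠ k)
    (hjk : j ≠ k) (hi : polar Q (e i) a ≠ 0) (hj : polar Q (e j) a ≠ 0)
    (hk : polar Q (e k) a ≠ 0) : refl Q a ∉ mon Q e := fun h => by
  obtain ⟨c, -, l, rfl | ⟨m, ε, -, -, rfl⟩⟩ := S.cases_of_mem h0 h <;>
    simp only [polar_smul_right', polar_add_right, S.pol] at hi hj hk <;> grind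

variable [FiniteDimensional F V] (hH : mon Q e ⊓ commutator (O Q) ≤ K)
include hH

omit [Fintype κ] in
theorem exists_flip' (i : κ) (T : Finset κ) : ∃ σ : O Q, (∀ j x, polar Q (e j) (σ.1 x) =
    if j ∈ T then -polar Q (e j) x else polar Q (e j) x) ∧
    (if Even T.card then σ else refl Q (e i) * σ) ∈ K := by
  induction T using Finset.induction_on with
  | empty => exact ⟨1, fun j x => by simp [O.one_apply], by simp⟩
  | insert a T ha ih =>
    obtain ⟨σ, h1, h2⟩ := ih
    refine ⟨refl Q (e a) * σ, fun j x => ?_, ?_⟩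
    · rw [O.mul_apply, S.pol_refl_e, h1]
      by_cases hj : j = a <;> simp [hj, ha]
    · rw [card_insert_of_notMem ha]
      by_cases h : Even T.card <;> simp only [h, Nat.even_add_one, if_true, if_false,
        not_true, not_false_iff] at h2 ⊢
      · exact mul_assoc _ _ σ ▸ mul_mem (S.rc_e hH i a).2 h2
      · simpa [mul_assoc, ← mul_assoc (refl Q (e i)), refl_mul_self] using
          mul_mem (S.rc_e hH a i).2 h2

theorem exists_flip {T : Finset κ} (h : Even T.card ∨ ∃ i, refl Q (e i) ∈ K) : ∃ σ ∈ K,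
    (∀ j x, polar Q (e j) (σ.1 x) = if j ∈ T then -polar Q (e j) x else polar Q (e j) x) ∧
    ∀ x y, polar Q y (σ.1 x) = polar Q y x - 2 * ∑ i ∈ T, polar Q (e i) y * polar Q (e i) x := by
  obtain ⟨σ, h1, h2⟩ : ∃ σ ∈ K, ∀ j x, polar Q (e j) (σ.1 x) =
      if j ∈ T then -polar Q (e j) x else polar Q (e j) x := by
    rcases T.eq_empty_or_nonempty with rfl | ⟨i, -⟩
    · exact ⟨1, one_mem _, fun j x => by simp [O.one_apply]⟩
    rcases h with h | ⟨i, h⟩ <;> obtain ⟨σ, h1, h2⟩ := S.exists_flip' hH i T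
    · exact ⟨σ, by rwa [if_pos h] at h2, h1⟩
    · refine ⟨σ, ?_, h1⟩
      split_ifs at h2
      exacts [h2, (mul_mem_cancel_left h).1 h2]
  refine ⟨σ, h1, h2, fun x y => ?_⟩
  rw [S.polar_sum, S.polar_sum y x, ← univ_inter T, ← sum_ite_mem, mul_sum,
    ← sum_sub_distrib]
  refine sum_congr rfl fun i _ => ?_
  rw [h2]; split_ifs <;> ring

theorem swap_mem {a : V} (ha : refl Q a ∈ K) {i o k l : κ} (h : i ≠ o) (h' : k ≠ l) :
    refl Q ((refl Q (e i - e o)).1 ((refl Q (e k - e l)).1 a)) ∈ K := by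
  simpa [sub_eq_add_neg, O.mul_apply] using
    refl_map_mem (S.rc_rt hH h h' (ε := -1) (ε' := -1) (by simp) (by simp)).2 ha

variable (h0 : ∀ i, refl Q (e i) ∈ K) {a : V} (ha : Q a = 2⁻¹) (ha' : refl Q a ∈ K)
  (ha'' : refl Q a ∉ mon Q e)
include h0 ha ha' ha''

theorem rg_e (hn : 4 ≤ Fintype.card κ) : RG K (2⁻¹ : F) where
  nd := S.nd
  two := S.two
  prime := S.prime
  ne := inv_ne_zero S.two
  irr M hM := S.irr_of (P := fun w => Q w = 2⁻¹ ∧ refl Q w ∈ K) (fun N N' h1 h2 => by
    obtain ⟨k, l, hkl, hk, hl⟩ := S.exists_two ha''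
    have key : ∀ o, ∃ w, (Q w = 2⁻¹ ∧ refl Q w ∈ K) ∧ polar Q (e k) w ≠ 0 ∧
        polar Q (e o) w ≠ 0 := fun o => by
      by_cases h3 : o = k ∨ o = l
      · exact ⟨a, ⟨ha, ha'⟩, hk, by rcases h3 with rfl | rfl <;> assumption⟩
      obtain ⟨m, -, hm⟩ := exists_mem_notMem_list univ [k, l, o] hn
      simp only [List.mem_cons, List.not_mem_nil, or_false, not_or] at hm h3
      refine ⟨_, ⟨by simpa, S.swap_mem hH ha' (Ne.symm h3.2) (Ne.symm hm.2.2)⟩, ?_, ?_⟩ <;>
        simp [S.pol_swap (Ne.symm h3.2), S.pol_swap (Ne.symm hm.2.2), hkl, h3, Ne.symm h3.1,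
          Ne.symm h3.2, Ne.symm hm.1, Ne.symm hm.2.1, hk, hl]
    refine (h2 _ ⟨S.Q_e k, h0 k⟩).imp (fun h3 o => ?_) fun h3 o => ?_ <;>
      obtain ⟨w, h4, h5, h6⟩ := key o
    · exact (h2 _ ⟨S.Q_e o, h0 o⟩).resolve_right fun h7 => (h2 w h4).elim
        (fun h8 => h6 (polar_comm Q _ _ ▸ h1 _ h8 _ h7)) fun h8 => h5 (h1 _ h3 _ h8)
    · exact (h2 _ ⟨S.Q_e o, h0 o⟩).resolve_left fun h7 => (h2 w h4).elim
        (fun h8 => h5 (polar_comm Q _ _ ▸ h1 _ h8 _ h3)) fun h8 => h6 (h1 _ h7 _ h8))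
    M fun w hw => hM w hw.1 hw.2

variable [Finite F]

theorem core_e_of_ne (h3 : (3 : F) ≠ 0) (hn : 7 ≤ Fintype.card κ) : commutator (O Q) ≤ K := by
  classical
  by_contra hc
  have h2 := S.two
  have R := S.rg_e hH h0 ha ha' ha'' (by omega)
  have A : ∀ u v, Q u = 2⁻¹ → refl Q u ∈ K → Q v = 2⁻¹ → refl Q v ∈ K → u ≠ v → u ≠ -v →
      Ang (4 * polar Q u v ^ 2) := fun u v h1 h4 h5 h6 h7 h8 => by
    convert R.ang h3 hc (by rw [S.card_eq]; omega) h1 h4 h5 h6 h7 h8 using 1
    field_simp; ring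
  have B : ∀ i, Ang (4 * polar Q (e i) a ^ 2) := fun i => A _ _ (S.Q_e i) (h0 i) ha ha'
    (fun h => ha'' (h ▸ S.refl_e_mem i)) fun h => ha'' (refl_neg (Q := Q) a ▸ h ▸ S.refl_e_mem i)
  have C : ∀ i j, i ≠ j → polar Q (e j) a ≠ 0 →
      Ang (4 * polar Q (e i) a ^ 2 * (4 * polar Q (e j) a ^ 2)) := fun i j hij hj => by
    convert A _ _ (S.Q_e i) (h0 i) ((O.map_Q _ _).trans (S.Q_e j)) (refl_map_mem ha' (h0 j))
      (fun h => ha'' (S.mem_of_apply (ha ▸ inv_ne_zero h2) hj (h.symm.trans (one_smul F _).symm)))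
      fun h => ha'' (S.mem_of_apply (ha ▸ inv_ne_zero h2) hj (ε := -1) (m := i) (by simp [h]))
      using 1
    rw [refl_apply, polar_sub_right, S.pol, if_neg hij, polar_smul_right', ha, inv_inv,
      polar_comm Q a]
    ring
  have n4 : ∀ i, polar Q (e i) a ≠ 0 → 4 * polar Q (e i) a ^ 2 ≠ 0 := fun i h =>
    mul_ne_zero (fun h4 => mul_ne_zero h2 h2 (by linear_combination h4)) (pow_ne_zero _ h)
  obtain ⟨o, o', hoo, ho, ho'⟩ : ∃ o o', o ≠ o' ∧ polar Q (e o) a = 0 ∧ polar Q (e o') a = 0 := by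
    by_contra! h
    have h1 : (univ.filter fun i => polar Q (e i) a = 0).card ≤ 1 := card_le_one.2 fun i hi j hj =>
      by_contra fun h1 => h i j h1 (mem_filter.1 hi).2 (mem_filter.1 hj).2
    have h4 : (univ.filter fun i => polar Q (e i) a ≠ 0 ∧ 4 * polar Q (e i) a ^ 2 ≠ 1).card ≤ 2 := by
      by_contra! h4
      obtain ⟨i, j, k, hi, hj, hk, a1, a2, a3⟩ := two_lt_card_iff.1 h4
      simp only [mem_filter, mem_univ, true_and] at hi hj hk
      rcases (B i).three h2 h3 (B j) (B k) (n4 i hi.1) (n4 j hj.1) (n4 k hk.1) (C i j a1 hj.1)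
        (C i k a2 hk.1) (C j k a3 hk.1) with h | h | h
      exacts [hi.2 h, hj.2 h, hk.2 h]
    obtain ⟨T, hT, hT'⟩ := exists_subset_card_eq (n := 4)
      (s := univ.filter fun i => 4 * polar Q (e i) a ^ 2 = 1) (by
        have := card_le_card (s := univ) (t := (univ.filter fun i => 4 * polar Q (e i) a ^ 2 = 1) ∪
          ((univ.filter fun i => polar Q (e i) a = 0) ∪
          (univ.filter fun i => polar Q (e i) a ≠ 0 ∧ 4 * polar Q (e i) a ^ 2 ≠ 1)))
          fun i _ => by simp; tauto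
        have := this.trans ((card_union_le _ _).trans (add_le_add_right (card_union_le _ _) _))
        rw [card_univ] at this
        omega)
    obtain ⟨m, -, hm⟩ := exists_mem_notMem_of_card_lt_card (t := univ)
      ((card_union_le T (univ.filter fun i => polar Q (e i) a = 0)).trans_lt (by
        rw [card_univ]; omega))
    simp only [mem_union, mem_filter, mem_univ, true_and, not_or] at hm
    obtain ⟨σ, h5, h6, h7⟩ := S.exists_flip hH (T := T) (Or.inl (by rw [hT']; decide))
    have h8 : polar Q a (σ.1 a) = -1 := mul_left_cancel₀ h2 (by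
      rw [h7, polar_self', ha, mul_sub, mul_inv_cancel₀ h2, ← mul_assoc, mul_sum,
        sum_congr rfl (g := fun _ => (1 : F)) fun i hi => by
          linear_combination (mem_filter.1 (hT hi)).2]
      simp [hT']; norm_num)
    refine (A _ _ ha ha' ((O.map_Q _ _).trans ha) (refl_map_mem h5 ha') (fun h => ?_)
      fun h => hm.2 ?_).1 (by rw [h8]; norm_num)
    · rw [← h, polar_self', ha, mul_inv_cancel₀ h2] at h8
      exact h2 (by linear_combination h8)
    · have := congrArg (polar Q (e m)) h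
      rw [polar_neg_right, h6, if_neg hm.1] at this
      exact mul_left_cancel₀ h2 (by linear_combination this)
  have D : ∀ i j, i ≠ j → polar Q (e i) a ≠ 0 → polar Q (e j) a ≠ 0 →
      Ang (4 * (1 - polar Q (e i) a ^ 2) ^ 2) ∧
      Ang (4 * (1 - polar Q (e i) a ^ 2 - 2 * polar Q (e j) a ^ 2) ^ 2) := fun i j hij hi hj => by
    have a1 : i ≠ o := by rintro rfl; exact hi ho
    have a2 : j ≠ o := by rintro rfl; exact hj ho
    have a3 := S.swap_mem hH ha' a1 hoo
    rw [refl_apply_of_perp (x := a) (by simp [polar_sub_left, ho, ho'])] at a3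
    generalize hu : (refl Q (e i - e o)).1 a = u at a3
    have a4 : Q u = 2⁻¹ := by rw [← hu, O.map_Q, ha]
    have a5 : polar Q (e o) u = polar Q (e i) a := by simp [← hu, S.pol_swap a1, a1.symm]
    have a6 : polar Q (e j) u = polar Q (e j) a := by simp [← hu, S.pol_swap a1, hij.symm, a2]
    have a7 : polar Q a u = 1 - polar Q (e i) a ^ 2 := by
      rw [← hu, refl_apply, S.Q_sub' a1, polar_sub_right, polar_self', ha,
        mul_inv_cancel₀ h2, polar_smul_right', polar_comm Q a]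
      simp [polar_sub_left, ho, pow_two]
    have a8 : ∀ v, polar Q (e o) v = polar Q (e i) a → a ≠ v ∧ a ≠ -v := fun v hv =>
      ⟨fun h => hi (by rw [← hv, ← h, ho]), fun h => hi (by
        rw [← hv, ← neg_neg v, ← h, polar_neg_right, ho, neg_zero])⟩
    have a9 := a8 ((refl Q (e j)).1 u) (by rw [S.pol_refl_e, if_neg a2.symm, a5])
    refine ⟨a7 ▸ A _ _ ha ha' a4 a3 (a8 u a5).1 (a8 u a5).2, ?_⟩
    convert A _ _ ha ha' ((O.map_Q _ _).trans a4) (refl_map_mem (h0 j) a3) a9.1 a9.2 using 3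
    rw [S.refl_e, polar_sub_right, a7, polar_smul_right', a6, polar_comm Q a]; ring
  obtain ⟨i, j, hij, hi, hj⟩ := S.exists_two ha''
  exact (B i).pairR h2 h3 (B j) (n4 i hi) (n4 j hj) (C i j hij hj) (D i j hij hi hj).1 (by ring)
    (D j i hij.symm hj hi).1 (by ring) (D i j hij hi hj).2 (by ring) (D j i hij.symm hj hi).2
    (by ring)

theorem core_e_of_three (h3 : (3 : F) = 0) (hn : 6 ≤ Fintype.card κ) : commutator (O Q) ≤ K := by
  classical
  have h2 := S.two
  have R := S.rg_e hH h0 ha ha' ha'' (by omega)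
  have h1 := S.polar_self_of_three h3 a
  rw [ha, mul_inv_cancel₀ h2] at h1
  have h4 : 4 ≤ (univ.filter fun i => polar Q (e i) a ≠ 0).card := by
    obtain ⟨i, j, hij, hi, hj⟩ := S.exists_two ha''
    have : 1 < (univ.filter fun i => polar Q (e i) a ≠ 0).card :=
      one_lt_card.2 ⟨i, by simpa, j, by simpa, hij⟩
    by_contra! h4
    generalize (univ.filter fun i => polar Q (e i) a ≠ 0).card = k at *
    interval_cases k
    · exact one_ne_zero (α := F) (by linear_combination h1)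
    · exact one_ne_zero (α := F) (by linear_combination h3 - h1)
  obtain ⟨T, hT, hT'⟩ := exists_subset_card_eq (show 3 ≤ _ by omega : 3 ≤ (univ.filter
    fun i => polar Q (e i) a ≠ 0).card)
  obtain ⟨m, h5, h6⟩ := exists_mem_notMem_of_card_lt_card (hT'.trans_lt h4)
  obtain ⟨σ, h7, h8, h9⟩ := S.exists_flip hH (T := T) (Or.inr ⟨m, h0 m⟩)
  have h10 : Q (a - σ.1 a) = 0 := by
    rw [Q_sub, O.map_Q, h9, polar_self', sum_congr rfl (g := fun _ => (1 : F)) fun i hi => by
      rw [← pow_two, S.prime.sq_eq_one h3 (mem_filter.1 (hT hi)).2]]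
    simp only [sum_const, hT', nsmul_eq_mul]
    linear_combination 2 * h3
  have h11 : ∀ k ∉ T, polar Q (e k) (a - σ.1 a) = 0 := fun k hk => by
    rw [polar_sub_right, h8, if_neg hk, sub_self]
  have h12 := R.mem_AE (S.Q_e m) (h0 m) (polar_comm Q _ _ ▸ h11 m h6) (mem_AE_of_sub ha'
    (refl_map_mem h7 ha') (ha ▸ R.ne) (O.map_Q _ _).symm h10)
    (by simpa [polar_smul_right', ha, h2] using h5)
  have h0' : a - σ.1 a ≠ 0 := fun h => by
    obtain ⟨t, ht⟩ := card_pos.1 (show 0 < T.card by omega)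
    have := congrArg (polar Q (e t)) h
    rw [polar_sub_right, h8, if_pos ht, polar_zero_right] at this
    exact (mem_filter.1 (hT ht)).2 (mul_left_cancel₀ h2 (by linear_combination this))
  generalize a - σ.1 a = s at *
  have h13 : ∀ k l, k ∉ insert m T → l ∉ insert m T → k ≠ l → e k ∈ AE K s :=
    fun k l hk hl hkl => by
    simp only [mem_insert, not_or] at hk hl
    have := apply_mem_AE (S.rc_rt hH (Ne.symm hk.1) hkl (ε := -1) (ε' := -1) (by simp) (by simp)).2
      (by rw [O.mul_apply, refl_apply_of_perp (x := s) (by simp [polar_add_left, h11, hk, hl]),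
        refl_apply_of_perp (by simp [polar_add_left, h11, hk, h6])]) h12
    rwa [O.mul_apply, refl_apply_of_perp (x := e m) (by simp [polar_add_left, S.pol, hk, hl]),
      neg_one_smul, ← sub_eq_add_neg, S.swap_apply (Ne.symm hk.1)] at this
  obtain ⟨k, hk, l, hl, hkl⟩ := one_lt_card.1 (show 1 < (insert m T)ᶜ.card by
    rw [card_compl, card_insert_of_notMem h6]; omega)
  rw [mem_compl] at hk hl
  have h14 : m ≠ k := by rintro rfl; simp at hk
  have h15 : m ≠ l := by rintro rfl; simp at hl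
  refine R.commutator_le_of_hyp h0' h10
    (add_mem (add_mem h12 (h13 k l hk hl hkl)) (h13 l k hl hk hkl.symm)) ?_ h12 ?_
  · simp only [Q_add, polar_add_left, S.pol, S.Q_e, h14, h15, hkl, if_false]
    linear_combination 2⁻¹ * h3
  · simp [polar_add_left, S.pol, h14.symm, h15.symm]

theorem core_e (hn : 7 ≤ Fintype.card κ) : commutator (O Q) ≤ K := by
  by_cases h3 : (3 : F) = 0
  exacts [S.core_e_of_three hH h0 ha ha' ha'' h3 (by omega), S.core_e_of_ne hH h0 ha ha' ha'' h3 hn]

end Fr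

end Cfsg.Lib.OMax
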