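import Cfsg.Agent.Lib.OMax.Rat3

/-!
# Maximality of subfield subgroups of `Ω`: matrix form
-/

set_option autoImplicit false

namespace Cfsg.Lib.OMax

open QuadraticMap Module Cfsg.Lib.Orth Matrix

variable {F : Type*} [Field F] {ι : Type} [Fintype ι] [DecidableEq ι]

theorem omegaGL_smul (q : (ι → F) → F) {ζ : F} (hζ : ζ ≠ 0) :
    Geo.omegaGL (fun v => ζ * q v) = Geo.omegaGL q := by
  have : isometryGroup F (fun v => ζ * q v) = isometryGroup F q := by
    ext g
    exact forall_congr' fun u => forall_congr' fun v => mul_right_inj' hζ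
  exact congrArg (fun I : Subgroup (GL ι F) => (commutator I).map I.subtype) this

theorem rs_ratT {Q : QuadraticForm F (ι → F)} {F₀ : Subfield F} {τ : F ≃+* F}
    (hτ : ∀ a, τ a = a ↔ a ∈ F₀) (hr : (orderOf τ).Prime) {P : GL ι F}
    (hP : Geo.IsQuadFormRationalStructure ⇑Q F₀ P) : RS Q τ (Unitary.ratT τ P) := by
  have h1 : ∀ u : ι → F, (∀ i, τ (u i) = u i) →
      τ (Q ((P : Matrix ι ι F) *ᵥ u)) = Q ((P : Matrix ι ι F) *ᵥ u) := fun u hu =>
    (hτ _).2 (hP u fun i => (hτ _).1 (hu i))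
  have h2 := Unitary.ratT_form (σ := RingHom.id F) (B := polarBilin Q) (τ := τ) (P := P) (ε := 1)
    (one_mul _) (fun _ => rfl) fun u v hu hv => by
      simp only [polarBilin_apply_apply, polar, map_sub, ← mulVec_add, h1 u hu, h1 v hv,
        h1 (u + v) fun i => by simp [hu, hv], one_mul]
  simp only [polarBilin_apply_apply, one_mul] at h2
  let Z : Submodule F (ι → F) :=
    { carrier := {v | Q (Unitary.ratT τ P v) = τ (Q v)}
      add_mem' := fun {a b} ha hb => by
        simp only [Set.mem_ofPred_eq, map_add, Orth.Q_add] at ha hb ⊢; rw [ha, hb, h2]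
      zero_mem' := by simp
      smul_mem' := fun c a ha => by
        simp only [Set.mem_ofPred_eq, Unitary.ratT_smul, Q_smul, map_mul, map_pow] at ha ⊢
        rw [ha] }
  refine ⟨Unitary.ratT_smul, Unitary.ratT_pow, fun v => ?_, hr⟩
  obtain ⟨v, rfl⟩ := (Unitary.glEquiv ι F P).surjective v
  change _ ∈ Z
  rw [pi_eq_sum_univ' v, map_sum]
  refine Z.sum_mem fun i _ => ?_
  rw [map_smul]
  refine Z.smul_mem _ ?_
  have h3 : ∀ j, τ ((Pi.single i 1 : ι → F) j) = (Pi.single i 1 : ι → F) j := fun j => by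
    by_cases h : j = i <;> simp [h]
  change Q _ = _
  rw [Unitary.ratT_apply, show τ ∘ (Pi.single i 1 : ι → F) = Pi.single i 1 from funext h3]
  exact (h1 _ h3).symm

theorem isMaximalIn_subfield [Finite F] {Q : QuadraticForm F (ι → F)} (hQ : ND Q)
    (hn : 9 ≤ Fintype.card ι) {F₀ : Subfield F} {r : ℕ} (hr : r.Prime)
    (hcard : Nat.card F = Nat.card F₀ ^ r) {P : GL ι F} {ζ : F} (hζ : ζ ≠ 0)
    (hP : Geo.IsQuadFormRationalStructure (fun v => ζ * Q v) F₀ P) :
    Geo.IsMaximalIn (Geo.omegaGL ⇑Q) (Geo.subfieldSubgroup F₀ P ⊓ Geo.omegaGL ⇑Q) := by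
  obtain ⟨τ, rfl, h2, -⟩ := Unitary.exists_aut_fixing F₀ hcard
  have R := rs_ratT (Q := ζ • Q) h2 hr hP
  have hQ' := nd_smul hQ hζ
  rw [← omegaGL_smul _ hζ]
  exact isMaximalIn_of (Q := ζ • Q) (fun g => Unitary.mem_subfieldSubgroup_iff_ratStab h2 _)
    (R.not_commutator_le hQ' (by simp; omega)) fun K hH hK => R.max hQ' (by simpa) hH hK

end Cfsg.Lib.OMax
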