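import Cfsg.Agent.Lib.OMax.FrameD
import Cfsg.Agent.Lib.OMax.RatStd

/-!
# Stabilisers of orthogonal frames are maximal
-/

set_option autoImplicit false

namespace Cfsg.Lib.OMax

open QuadraticMap Module Cfsg.Lib.Orth Finset

variable {F V : Type*} [Field F] [AddCommGroup V] [Module F V] {Q : QuadraticForm F V}
  {K : Subgroup (O Q)}

theorem exists_ext [FiniteDimensional F V] (hQ : ND Q) (hK : K ≤ commutator (O Q)) {b : V}
    (hb : Q b ≠ 0) : ∃ L : Subgroup (O Q), (∀ g ∈ K, refl Q b * g * refl Q b ∈ K → g ∈ L) ∧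
      (∀ a, RC K a b → refl Q a ∈ L) ∧ (commutator (O Q) ≤ L → commutator (O Q) ≤ K) := by
  have h1 := refl_mul_self (Q := Q) b
  have h2 := dickson_refl hQ hb
  have h3 : ∀ a, RC K a b → refl Q a * refl Q b ∈ K ∧ refl Q b * refl Q a ∈ K :=
    fun a h => ⟨h.2, h.symm.2⟩
  generalize refl Q b = r at *
  have h4 : ∀ g, r * (r * g) = g := fun g => by rw [← mul_assoc, h1, one_mul]
  have h5 : r⁻¹ = r := inv_eq_of_mul_eq_one_left h1
  refine ⟨{ carrier := {g | (g ∈ K ∧ r * g * r ∈ K) ∨ (g * r ∈ K ∧ r * g ∈ K)}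
            one_mem' := Or.inl ⟨one_mem _, by simp [h1]⟩
            mul_mem' := ?_
            inv_mem' := ?_ }, fun g a1 a2 => Or.inl ⟨a1, a2⟩, fun a h => Or.inr (h3 a h),
    fun h g hg => (h hg).elim (·.1) fun h6 => ?_⟩
  · rintro g g' (⟨a1, a2⟩ | ⟨a1, a2⟩) (⟨b1, b2⟩ | ⟨b1, b2⟩)
    · exact Or.inl ⟨mul_mem a1 b1, by simpa [mul_assoc, h4] using mul_mem a2 b2⟩
    · exact Or.inr ⟨by simpa [mul_assoc] using mul_mem a1 b1,
        by simpa [mul_assoc, h4] using mul_mem a2 b2⟩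
    · exact Or.inr ⟨by simpa [mul_assoc, h4] using mul_mem a1 b2,
        by simpa [mul_assoc] using mul_mem a2 b1⟩
    · exact Or.inl ⟨by simpa [mul_assoc, h4] using mul_mem a1 b2,
        by simpa [mul_assoc] using mul_mem a2 b1⟩
  · rintro g (⟨a1, a2⟩ | ⟨a1, a2⟩)
    · exact Or.inl ⟨inv_mem a1, by simpa [mul_assoc, h5] using inv_mem a2⟩
    · exact Or.inr ⟨by simpa [h5] using inv_mem a2, by simpa [h5] using inv_mem a1⟩
  · have a1 : dickson hQ (g * r) = 1 := Abelianization.commutator_subset_ker _ (hK h6.1)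
    have a2 : dickson hQ g = 1 := Abelianization.commutator_subset_ker _ hg
    rw [map_mul, a2, h2] at a1
    exact absurd a1 (by decide)

namespace Fr

variable {κ : Type*} [DecidableEq κ] {e : κ → V} (S : Fr Q e) [FiniteDimensional F V] [Fintype κ]
  (hH : mon Q e ⊓ commutator (O Q) ≤ K)
include S hH

section
variable (hN : ∀ a j, RC K a (e j) → refl Q a ∈ mon Q e) (hn : 3 ≤ Fintype.card κ)
include hN hn

theorem mem_of_rc' {g : O Q} (hg : g ∈ K) {i j : κ} (h : RC K (g.1 (e i)) (e j)) :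
    g ∈ mon Q e := S.mem_mon fun l => by
  have h2 := S.two
  have h1 : Q (g.1 (e l)) = 2⁻¹ := by rw [O.map_Q, S.Q_e]
  obtain ⟨c, hc, k, h3 | ⟨m, ε, hkm, hε, h3⟩⟩ := S.cases_of_mem (h1 ▸ inv_ne_zero h2)
    (hN _ _ (((S.rc_e hH l i).map hg).trans h))
  · exact ⟨k, c, h3⟩
  exfalso
  rw [h3, Q_smul, S.Q_rt hkm hε, mul_one] at h1
  obtain ⟨o, -, ho⟩ := exists_mem_notMem_list univ [k, m] hn
  simp only [List.mem_cons, List.not_mem_nil, or_false, not_or] at ho
  have h4 : Q (c • (e k + (1 : F) • e o)) = 2⁻¹ := by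
    rw [Q_smul, S.Q_rt (Ne.symm ho.1) (one_mul 1), mul_one, h1]
  have h5 := (S.rc_of_mem hH (by rw [refl_smul hc]; exact S.refl_rt_mem (Ne.symm ho.1) (one_mul 1))
    (S.refl_e_mem j) (h4 ▸ inv_ne_zero h2) (h4.trans (S.Q_e j).symm)).map (inv_mem hg)
  have h6 := h.map (inv_mem hg)
  rw [O.inv_apply_apply] at h6
  have h7 : polar Q (e l) ((g⁻¹).1 (c • (e k + (1 : F) • e o))) = 2⁻¹ := by
    rw [← O.polar_left, h3, ← h1]
    simp [S.pol, polar_add_left, polar_add_right, ho.1, ho.2, Ne.symm ho.1, Ne.symm ho.2, hkm.symm,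
      pow_two]
  have h8 : Q ((g⁻¹).1 (c • (e k + (1 : F) • e o))) = 2⁻¹ := by rw [O.map_Q, h4]
  obtain ⟨d, -, s, h9 | ⟨t, η, hst, hη, h9⟩⟩ := S.cases_of_mem (h8 ▸ inv_ne_zero h2)
    (hN _ _ (h5.trans h6.symm)) <;> rw [h9] at h7 h8
  · rw [Q_smul, S.Q_e] at h8
    rw [polar_smul_right', S.pol] at h7
    split_ifs at h7
    · rw [mul_one] at h7
      refine S.prime.two_mul_sq_ne ?_ c (by rw [h1, mul_inv_cancel₀ h2])
      rw [h7] at h8; field_simp at h8; linear_combination -h8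
    · exact inv_ne_zero h2 (by simpa using h7.symm)
  · rw [Q_smul, S.Q_rt hst hη, mul_one] at h8
    simp only [polar_smul_right', polar_add_right, S.pol] at h7
    have h10 : (2⁻¹ : F) ^ 2 ≠ 2⁻¹ := fun h => by field_simp at h; exact one_ne_zero (α := F) (by
      linear_combination -h)
    split_ifs at h7 with a1 a2 a2
    · exact hst (a1.symm.trans a2)
    · exact h10 (by rw [← h7]; linear_combination h8 - h7)
    · exact h10 (by rw [← h7]; linear_combination h8 - h7 + d ^ 2 * hη)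
    · exact inv_ne_zero h2 (by simpa using h7.symm)

theorem le_mon_of_odd' (ho : Odd (Fintype.card κ)) : K ≤ mon Q e := fun g hg => by
  obtain ⟨i⟩ : Nonempty κ := Fintype.card_pos_iff.1 (by omega)
  obtain ⟨σ, h2, h1, -⟩ := S.exists_flip hH (T := univ.erase i) (Or.inl (by
    rw [card_erase_of_mem (mem_univ _), card_univ]; exact ho.tsub_odd odd_one))
  have h3 : σ = O.neg Q * refl Q (e i) := O.ext fun x => S.ext fun j => by
    rw [h1, O.mul_apply, O.neg_apply, polar_neg_right, S.pol_refl_e]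
    by_cases hj : j = i <;> simp [hj]
  refine S.mem_of_rc' hH hN hn hg (i := i) (j := i) ⟨by simp, ?_⟩
  convert mul_mem (mul_mem (mul_mem hg h2) (inv_mem hg)) h2 using 1
  refine O.ext fun x => ?_
  simp [← conj_refl, h3, O.mul_apply]

end

theorem max [Finite F] (hn : 9 ≤ Fintype.card κ ∨ (7 ≤ Fintype.card κ ∧ Odd (Fintype.card κ)))
    (hK : K ≤ commutator (O Q)) : K ≤ mon Q e ∨ commutator (O Q) ≤ K := by
  have key : ∀ b, Q b ≠ 0 → refl Q b ∈ mon Q e → ∃ L : Subgroup (O Q),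
      mon Q e ⊓ commutator (O Q) ≤ L ∧ (∀ a, RC K a b → refl Q a ∈ L) ∧
      (commutator (O Q) ≤ L → commutator (O Q) ≤ K) := fun b h1 h2 => by
    obtain ⟨L, h3, h4⟩ := exists_ext S.nd hK h1
    exact ⟨L, fun g hg => h3 g (hH hg) (hH ⟨mul_mem (mul_mem h2 hg.1) h2, by
      simpa [refl_inv] using (inferInstance : (commutator (O Q)).Normal).conj_mem g hg.2
        (refl Q b)⟩), h4⟩
  by_cases hN : ∀ a j, RC K a (e j) → refl Q a ∈ mon Q e
  swap
  · push Not at hN
    obtain ⟨a, j, h1, h2⟩ := hN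
    obtain ⟨L, h3, h4, h5⟩ := key _ (S.Q_ne j) (S.refl_e_mem j)
    exact Or.inr (h5 (S.core_e h3 (fun i => h4 _ (S.rc_e hH i j)) (h1.1.trans (S.Q_e j)) (h4 a h1)
      h2 (by omega)))
  rcases hn with hn | ⟨hn, ho⟩
  swap
  · exact Or.inl (S.le_mon_of_odd' hH hN (by omega) ho)
  refine or_iff_not_imp_right.2 fun hc => S.le_mon hH (fun a b h1 h2 h3 => ?_) hn
  obtain ⟨c, hc0, k, h4⟩ := S.cases_of_mem h1 h2
  have h5 : ∀ b', b = c • b' → RC K (c⁻¹ • a) b' := by
    rintro b' rfl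
    refine ⟨by rw [Q_smul, h3.1, Q_smul]; field_simp, ?_⟩
    simpa only [refl_smul hc0, refl_smul (inv_ne_zero hc0)] using h3.2
  rw [← refl_smul (inv_ne_zero hc0)]
  obtain h4 | ⟨m, ε, h6, h7, h4⟩ := h4
  · exact hN _ k (h5 _ h4)
  obtain ⟨L, h8, h9, h10⟩ := key _ (S.Q_rt h6 h7 ▸ one_ne_zero) (S.refl_rt_mem h6 h7)
  exact by_contra fun h => hc (h10 (S.core_rt h8 (fun i j hij η hη => h9 _ (S.rc_rt hH hij h6 hη h7))
    hn ((h5 _ h4).1.trans (S.Q_rt h6 h7)) (h9 _ (h5 _ h4)) h))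

end Fr

theorem isMaximalIn_frame [Fintype F] {ι : Type} [Fintype ι] [DecidableEq ι]
    {Q : QuadraticForm F (ι → F)} (hQ : ND Q) (hp : (Fintype.card F).Prime)
    (ho : Odd (Fintype.card F))
    (hn : 9 ≤ Fintype.card ι ∨ (7 ≤ Fintype.card ι ∧ Odd (Fintype.card ι))) {t : ℕ}
    {D : Fin t → Submodule F (ι → F)} (hD : Geo.IsOrthogonalMDecomposition ⇑Q 1 D) :
    Geo.IsMaximalIn (Geo.omegaGL ⇑Q) (Geo.decompositionStabilizer D ⊓ Geo.omegaGL ⇑Q) := by
  have h2 := two_ne_zero_of_odd_card ho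
  have S := decStr_of hQ hD
  have h1 := S.finrank_eq
  simp only [finrank_fintype_fun_eq_card, Fintype.card_fin, mul_one] at h1
  let o : Fin t := ⟨0, by omega⟩
  obtain ⟨v, hv, h0⟩ := Submodule.exists_mem_ne_zero_of_ne_bot (p := D o) fun h => by
    have := S.dim o
    rw [h, finrank_bot] at this; omega
  have h3 : ∀ i, ∀ w ∈ D i, w ≠ 0 → D i = F ∙ w := fun i w hw h =>
    (Submodule.eq_of_le_of_finrank_eq (by simpa) (by rw [finrank_span_singleton h, S.dim])).symm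
  have h4 : Q v ≠ 0 := fun h => h0 (S.eq_zero hv (by
    rw [h3 o v hv h0, mem_perp_singleton, polar_self', h, mul_zero]))
  choose g hg using S.iso o
  have h5 : (2 * Q v)⁻¹ ≠ 0 := inv_ne_zero (mul_ne_zero h2 h4)
  have h6 : D = fun i => F ∙ (g i).1 v := funext fun i => h3 i _ (hg i v hv) (O.apply_ne_zero _ h0)
  have T : Fr ((2 * Q v)⁻¹ • Q) fun i => (g i).1 v :=
    { nd := nd_smul hQ h5
      two := h2
      prime := primeF_of_card hp
      pol := fun i j => by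
        rw [polar_smul_form]
        split_ifs with h
        · rw [h, O.map_polar, polar_self', inv_mul_cancel₀ (mul_ne_zero h2 h4)]
        · rw [S.orth' h (hg i v hv) (hg j v hv), mul_zero]
      eq_zero := fun x hx => S.eq_zero_of_perp fun i => by
        rw [h6, mem_perp_singleton]
        exact (mul_eq_zero.1 ((polar_smul_form _ _ _).symm.trans (hx i))).resolve_left h5 }
  rw [← omegaGL_smul _ h5]
  refine isMaximalIn_of (Q := (2 * Q v)⁻¹ • Q) mem_decompositionStabilizer_iff ?_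
    fun K hH hK => ?_ <;> rw [h6] at *
  · exact T.decStr.not_commutator_le (not_exc_of_two_ne_zero h2) one_ne_zero (i := o)
      (by simp; omega)
  · exact T.max hH (by simpa [← h1]) hK

end Cfsg.Lib.OMax
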