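import Cfsg.Agent.Lib.OMax.Frame5

/-!
# Elementary abelian `2`-subgroups of `Ω` of large rank come from orthogonal frames
-/

set_option autoImplicit false

namespace Cfsg.Lib.OMax

open QuadraticMap Module Cfsg.Lib.Orth Finset

section Group

variable {G G' : Type*} [Group G] [Group G']

/-- Every subgroup of the derived group containing `M ⊓ G'` lies in `M` or is `G'`. -/
def MaxC (M : Subgroup G) : Prop :=
  ∀ K, M ⊓ commutator G ≤ K → K ≤ commutator G → K ≤ M ∨ commutator G ≤ K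

theorem map_mem_commutator_iff (ψ : G ≃* G') {g : G} :
    ψ g ∈ commutator G' ↔ g ∈ commutator G :=
  ⟨fun h => by simpa using map_mem_commutator ψ.symm.toMonoidHom h,
    fun h => map_mem_commutator ψ.toMonoidHom h⟩

theorem MaxC.of_equiv (ψ : G ≃* G') {M : Subgroup G} {M' : Subgroup G'} (h : MaxC M')
    (hM : ∀ g, g ∈ M ↔ ψ g ∈ M') : MaxC M := fun K h1 h2 => by
  refine (h (K.map ψ.toMonoidHom) (fun g hg => ?_) ?_).imp (fun h3 g hg => ?_) fun h3 g hg => ?_
  · obtain ⟨g, rfl⟩ := ψ.surjective g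
    exact ⟨g, h1 ⟨(hM g).2 hg.1, (map_mem_commutator_iff ψ).1 hg.2⟩, rfl⟩
  · rintro _ ⟨g, hg, rfl⟩
    exact (map_mem_commutator_iff ψ).2 (h2 hg)
  · exact (hM g).2 (h3 ⟨g, hg, rfl⟩)
  · obtain ⟨g', h4, h5⟩ := h3 ((map_mem_commutator_iff ψ).2 hg)
    rwa [← ψ.injective h5]

theorem MaxC.isMaximalIn {G₀ : Type*} [Group G₀] {M : Subgroup G} (hM : MaxC M) (ι : G₀ →* G')
    (φ : G₀ →* G) (hφ : φ.range = commutator G) {H : Subgroup G'} (h : ∀ g, φ g ∈ M → ι g ∈ H)
    (h1 : ¬ ι.range ≤ H) : Geo.IsMaximalIn ι.range (H ⊓ ι.range) := by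
  refine ⟨lt_of_le_of_ne inf_le_right fun he => h1 (he.ge.trans inf_le_left), fun L h2 h3 => ?_⟩
  have h4 : ∀ g, φ g ∈ M → ι g ∈ L := fun g hg => h2 ⟨h g hg, g, rfl⟩
  rcases hM ((L.comap ι).map φ) (fun x hx => by
      obtain ⟨g, rfl⟩ := hφ.ge hx.2
      exact ⟨g, h4 g hx.1, rfl⟩) (by
      rintro _ ⟨g, -, rfl⟩
      exact hφ.le ⟨g, rfl⟩) with h5 | h5
  · refine Or.inl (le_antisymm (fun l hl => ⟨?_, h3 hl⟩) h2)
    obtain ⟨g, rfl⟩ := h3 hl
    exact h g (h5 ⟨g, hl, rfl⟩)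
  · refine Or.inr (le_antisymm h3 ?_)
    rintro _ ⟨g, rfl⟩
    obtain ⟨g', h6, h7⟩ := h5 (hφ.le ⟨g, rfl⟩)
    have := h4 (g * g'⁻¹) (by rw [map_mul, map_inv, h7, mul_inv_cancel]; exact one_mem _)
    simpa using mul_mem this h6

/-- Transfer of the maximality of a normaliser along a cover with kernel inside the subgroup. -/
theorem MaxC.isMaximalIn_normalizer {G₀ : Type*} [Group G₀] (ι : G₀ →* G') (φ : G₀ →* G)
    (hφ : φ.range = commutator G) {R : Subgroup G'} (hR : R ≤ ι.range)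
    (hι : Function.Injective ι) (hk : ∀ g, φ g = 1 → ι g ∈ R)
    (hM : MaxC (Subgroup.normalizer (((R.comap ι).map φ : Subgroup G) : Set G)))
    (h1 : ¬ commutator G ≤ Subgroup.normalizer (((R.comap ι).map φ : Subgroup G) : Set G)) :
    Geo.IsMaximalIn ι.range (Subgroup.normalizer (R : Set G') ⊓ ι.range) := by
  have key : ∀ g, φ g ∈ (R.comap ι).map φ ↔ ι g ∈ R := fun g => by
    refine ⟨fun ⟨g', h2, h3⟩ => ?_, fun h => ⟨g, h, rfl⟩⟩
    have := hk (g * g'⁻¹) (by rw [map_mul, map_inv, h3, mul_inv_cancel])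
    simpa using mul_mem this h2
  refine hM.isMaximalIn ι φ hφ (fun g hg => Subgroup.mem_normalizer_iff.2 fun x => ?_)
    fun h2 => h1 fun x hx => ?_
  · rw [Subgroup.mem_normalizer_iff] at hg
    refine ⟨fun hx => ?_, fun hx => ?_⟩
    · obtain ⟨y, rfl⟩ := hR hx
      simpa using (key (g * y * g⁻¹)).1 (by simpa using (hg _).1 ((key y).2 hx))
    · obtain ⟨y, hy⟩ := hR hx
      have : x = ι (g⁻¹ * y * g) := by simp [hy, mul_assoc]
      rw [this, ← key, hg]
      simpa [mul_assoc] using (key y).2 (hy ▸ hx)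
  · obtain ⟨g, rfl⟩ := hφ.ge hx
    have h3 := Subgroup.mem_normalizer_iff.1 (h2 ⟨g, rfl⟩)
    refine Subgroup.mem_normalizer_iff.2 fun x => ⟨?_, fun hx => ?_⟩
    · rintro ⟨y, hy, rfl⟩
      simpa using (key (g * y * g⁻¹)).2 (by simpa using (h3 _).1 hy)
    · obtain ⟨y, hy, h4⟩ := hx
      have : x = φ (g⁻¹ * y * g) := by simp [h4, mul_assoc]
      rw [this, key, h3]
      simpa [mul_assoc] using hy

end Group

variable {F V : Type*} [Field F] [AddCommGroup V] [Module F V] {Q : QuadraticForm F V}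
  [FiniteDimensional F V] {E : Subgroup (O Q)}

theorem comm_of_mul_self {G : Type*} [Group G] {E : Subgroup G} (hE : ∀ t ∈ E, t * t = 1) {s t : G}
    (hs : s ∈ E) (ht : t ∈ E) : s * t = t * s := by
  rw [← inv_eq_of_mul_eq_one_left (hE _ (mul_mem hs ht)), mul_inv_rev,
    inv_eq_of_mul_eq_one_left (hE s hs), inv_eq_of_mul_eq_one_left (hE t ht)]

theorem exists_eigvec (h2 : (2 : F) ≠ 0) (hE : ∀ t ∈ E, t * t = 1) (n : ℕ) :
    ∀ X : Submodule F V, finrank F X ≤ n → ND (Q.restrict X) → X ≠ ⊥ → E ≤ stab Q X →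
      ∃ v ∈ X, Q v ≠ 0 ∧ ∀ t ∈ E, t.1 v = v ∨ t.1 v = -v := by
  induction n with
  | zero => exact fun X h _ h0 => absurd (Submodule.finrank_eq_zero.1 (by omega)) h0
  | succ n ih =>
    intro X hn hX h0 hs
    by_cases h : ∀ t ∈ E, (∀ x ∈ X, t.1 x = x) ∨ ∀ x ∈ X, t.1 x = -x
    · have : Nontrivial X := Submodule.nontrivial_iff_ne_bot.2 h0
      obtain ⟨⟨v, hv⟩, h1⟩ := hX.exists_Q_ne
      exact ⟨v, hv, h1, fun t ht => (h t ht).imp (· v hv) (· v hv)⟩
    push Not at h
    obtain ⟨t, ht, ⟨x, hx, h1⟩, y, hy, h3⟩ := h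
    have h4 : ∀ v, v ∈ O.fix t ↔ t.1 v = v := fun v => by simp [O.fix, sub_eq_zero]
    have h5 : ∀ v, t.1 (t.1 v) = v := fun v => by rw [← O.mul_apply, hE t ht, O.one_apply]
    have h6 : ∀ v ∈ X, v + t.1 v ∈ X ⊓ O.fix t := fun v hv =>
      ⟨add_mem hv (apply_mem_of_mem_stab (hs ht) hv), (h4 _).2 (by rw [map_add, h5, add_comm])⟩
    obtain ⟨v, hv, h7⟩ := ih (X ⊓ O.fix t) (by
      have := Submodule.finrank_lt_finrank_of_lt (inf_lt_left.2 fun h => h1 ((h4 x).1 (h hx)) :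
        X ⊓ O.fix t < X)
      omega) (nd_restrict_iff.2 fun v hv h => nd_restrict_iff.1 hX v hv.1 fun w hw => by
        have := h _ (h6 w hw)
        rw [polar_add_right, ← (h4 v).1 hv.2, O.map_polar, (h4 v).1 hv.2, ← two_mul] at this
        exact (mul_eq_zero.1 this).resolve_left h2)
      (fun h => h3 (eq_neg_of_add_eq_zero_right (by simpa [h] using h6 y hy)))
      fun s hs' => mem_stab_iff_mapsTo.2 fun w hw => ⟨apply_mem_of_mem_stab (hs hs') hw.1,
        (h4 _).2 (by rw [← O.mul_apply, comm_of_mul_self hE ht hs', O.mul_apply, (h4 w).1 hw.2])⟩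
    exact ⟨v, hv.1, h7⟩

theorem exists_eigbasis (hQ : ND Q) (h2 : (2 : F) ≠ 0) (hE : ∀ t ∈ E, t * t = 1) (n : ℕ) :
    ∀ X : Submodule F V, finrank F X = n → ND (Q.restrict X) → E ≤ stab Q X →
      ∃ e : Fin n → V, (∀ i, e i ∈ X ∧ Q (e i) ≠ 0 ∧ ∀ t ∈ E, t.1 (e i) = e i ∨ t.1 (e i) = -e i) ∧
        (∀ i j, i ≠ j → polar Q (e i) (e j) = 0) ∧
        ∀ x ∈ X, (∀ i, polar Q (e i) x = 0) → x = 0 := by
  induction n with
  | zero =>
    exact fun X h _ _ => ⟨Fin.elim0, fun i => i.elim0, fun i => i.elim0, fun x hx _ => by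
      simpa [Submodule.finrank_eq_zero.1 h] using hx⟩
  | succ n ih =>
    intro X hn hX hs
    obtain ⟨v, hv, h0, h1⟩ := exists_eigvec h2 hE _ X le_rfl hX (by rintro rfl; simp at hn) hs
    obtain ⟨e, h3, h4, h5⟩ := ih (X ⊓ perp Q (F ∙ v)) (by
      have a1 := finrank_le_inf_perp hQ X (F ∙ v)
      have a2 := Unitary.finrank_span_singleton_le (F := F) v
      have := Submodule.finrank_lt_finrank_of_lt (inf_lt_left.2 fun h => mul_ne_zero h2 h0
        (polar_self' Q v ▸ mem_perp_singleton.1 (h hv)) : X ⊓ perp Q (F ∙ v) < X)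
      omega) (nd_inf_perp h2 hX hv h0) fun t ht => mem_stab_iff_mapsTo.2 fun w hw =>
        ⟨apply_mem_of_mem_stab (hs ht) hw.1, mem_perp_singleton.2 (by
          have := O.map_polar t v w
          rw [mem_perp_singleton.1 hw.2] at this
          rcases h1 t ht with h | h <;> simpa [h] using this)⟩
    refine ⟨Fin.cons v e, fun i => ?_, fun i j hij => ?_, fun x hx h => ?_⟩
    · refine Fin.cases ⟨hv, h0, h1⟩ (fun i => ⟨(h3 i).1.1, (h3 i).2⟩) i
    · revert hij
      refine Fin.cases (Fin.cases (fun h => absurd rfl h) (fun j _ => ?_) j)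
        (fun i => Fin.cases (fun _ => ?_) (fun j h => h4 i j fun h' => h (h' ▸ rfl)) j) i
      · exact mem_perp_singleton.1 (h3 j).1.2
      · exact polar_comm Q _ _ ▸ mem_perp_singleton.1 (h3 i).1.2
    · exact h5 x ⟨hx, mem_perp_singleton.2 (h 0)⟩ fun i => h i.succ

theorem eq_of_erase_eq {κ : Type*} [DecidableEq κ] {T T' : Finset κ} (h : Even T.card)
    (h' : Even T'.card) {a : κ} (h1 : T.erase a = T'.erase a) : T = T' := by
  by_cases ha : a ∈ T <;> by_cases ha' : a ∈ T'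
  · rw [← insert_erase ha, h1, insert_erase ha']
  · rw [erase_eq_of_notMem ha'] at h1
    rw [← h1, card_erase_of_mem ha] at h'
    have := card_pos.2 ⟨a, ha⟩
    grind
  · rw [erase_eq_of_notMem ha] at h1
    rw [h1, card_erase_of_mem ha'] at h
    have := card_pos.2 ⟨a, ha'⟩
    grind
  · rwa [erase_eq_of_notMem ha, erase_eq_of_notMem ha'] at h1

section Orth

variable {κ : Type*} [Fintype κ] [DecidableEq κ] {e : κ → V} (hQ : ND Q) (h2 : (2 : F) ≠ 0)
  (h0 : ∀ i, Q (e i) ≠ 0) (h1 : ∀ i j, i ≠ j → polar Q (e i) (e j) = 0)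
  (h3 : ∀ x, (∀ i, polar Q (e i) x = 0) → x = 0)
include hQ h2 h0 h1 h3

omit [Fintype κ] [DecidableEq κ] [FiniteDimensional F V] hQ h2 h0 h1 in
theorem ext_of_basis {g g' : O Q} (h : ∀ i, g.1 (e i) = g'.1 (e i)) : g = g' := by
  have : g⁻¹ = g'⁻¹ := O.ext fun x => sub_eq_zero.1 (h3 _ fun i => by
    rw [polar_sub_right, ← O.polar_left, ← O.polar_left, h, sub_self])
  simpa using this

omit [Fintype κ] h2 h3 in
theorem exists_sign (T : Finset κ) : ∃ σ : O Q, (∀ i, σ.1 (e i) = if i ∈ T then -e i else e i) ∧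
    dickson hQ σ = (-1) ^ T.card := by
  induction T using Finset.induction_on with
  | empty => exact ⟨1, fun i => by simp [O.one_apply], by simp⟩
  | insert a T ha ih =>
    obtain ⟨σ, h4, h5⟩ := ih
    refine ⟨refl Q (e a) * σ, fun i => ?_, ?_⟩
    · rw [O.mul_apply, h4]
      by_cases hi : i = a
      · simp [hi, ha, refl_apply_self (h0 a)]
      · have := refl_apply_of_perp (h1 a i (Ne.symm hi))
        by_cases h : i ∈ T <;> simp [hi, h, this]
    · rw [map_mul, dickson_refl hQ (h0 a), h5, card_insert_of_notMem ha, pow_succ']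

theorem mem_iff_sign [Finite F] (hE : E ≤ commutator (O Q))
    (hE' : ∀ t ∈ E, ∀ i, t.1 (e i) = e i ∨ t.1 (e i) = -e i)
    (hc : Nat.card E = 2 ^ (Fintype.card κ - 1)) (o : κ) {t : O Q} :
    t ∈ E ↔ (∀ i, t.1 (e i) = e i ∨ t.1 (e i) = -e i) ∧ dickson hQ t = 1 := by
  classical
  refine ⟨fun ht => ⟨hE' t ht, Abelianization.commutator_subset_ker _ (hE ht)⟩, fun ht => ?_⟩
  have A : ∀ t : O Q, (∀ i, t.1 (e i) = e i ∨ t.1 (e i) = -e i) → dickson hQ t = 1 →
      Even (univ.filter fun i => t.1 (e i) ≠ e i).card := fun t a1 a2 => by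
    obtain ⟨σ, a3, a4⟩ := exists_sign hQ h0 h1 (univ.filter fun i => t.1 (e i) ≠ e i)
    rw [← ext_of_basis h3 (g := t) (g' := σ) fun i => by
      rw [a3]; split_ifs with h
      · exact (a1 i).resolve_left (mem_filter.1 h).2
      · simpa using h, a2] at a4
    exact (neg_one_pow_eq_one_iff_even (by decide)).1 a4.symm
  have B : ∀ t t' : O Q, (∀ i, t.1 (e i) = e i ∨ t.1 (e i) = -e i) → dickson hQ t = 1 →
      (∀ i, t'.1 (e i) = e i ∨ t'.1 (e i) = -e i) → dickson hQ t' = 1 →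
      (univ.filter fun i => t.1 (e i) ≠ e i).erase o = (univ.filter fun i => t'.1 (e i) ≠ e i).erase o →
      t = t' := fun t t' a1 a2 a3 a4 a5 => ext_of_basis h3 fun i => by
    have := Finset.ext_iff.1 (eq_of_erase_eq (A t a1 a2) (A t' a3 a4) a5) i
    simp only [mem_filter, mem_univ, true_and] at this
    by_cases h : t.1 (e i) = e i
    · rw [h, not_not.1 (mt this.2 (not_not.2 h))]
    · rw [(a1 i).resolve_left h, (a3 i).resolve_left (this.1 h)]
  have C : ∀ t ∈ E, dickson hQ t = 1 := fun t ht => Abelianization.commutator_subset_ker _ (hE ht)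
  let f : E → (univ.erase o).powerset := fun t =>
    ⟨(univ.filter fun i => t.1.1 (e i) ≠ e i).erase o,
      mem_powerset.2 (erase_subset_erase _ (filter_subset _ _))⟩
  have hf : Function.Bijective f := (Nat.bijective_iff_injective_and_card f).2
    ⟨fun s s' h => Subtype.ext (B _ _ (hE' _ s.2) (C _ s.2) (hE' _ s'.2) (C _ s'.2)
      (congrArg Subtype.val h)), by
      rw [hc, Nat.card_eq_finsetCard, card_powerset, card_erase_of_mem (mem_univ _), card_univ]⟩
  obtain ⟨s, hs⟩ := hf.2 ⟨(univ.filter fun i => t.1 (e i) ≠ e i).erase o,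
    mem_powerset.2 (erase_subset_erase _ (filter_subset _ _))⟩
  exact B _ _ (hE' _ s.2) (C _ s.2) ht.1 ht.2 (congrArg Subtype.val hs) ▸ s.2

end Orth

theorem Fr.normalizer_eq [Finite F] {κ : Type*} [Fintype κ] [DecidableEq κ] {e : κ → V}
    (S : Fr Q e) (hn : 3 ≤ Fintype.card κ) (hE : ∀ t, t ∈ E ↔
      (∀ i, t.1 (e i) = e i ∨ t.1 (e i) = -e i) ∧ dickson S.nd t = 1) :
    Subgroup.normalizer (E : Set (O Q)) = mon Q e := by
  have key : ∀ g ∈ mon Q e, ∀ t ∈ E, g * t * g⁻¹ ∈ E := fun g hg t ht => by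
    refine (hE _).2 ⟨fun i => ?_, by simp [((hE t).1 ht).2]⟩
    obtain ⟨j, ε, -, h⟩ := S.exists_apply (inv_mem hg) i
    rw [O.mul_apply, O.mul_apply, h, map_smul]
    refine (((hE t).1 ht).1 j).imp (fun h1 => ?_) fun h1 => ?_
    · rw [h1, ← h, O.apply_inv_apply]
    · rw [h1, smul_neg, ← h, map_neg, O.apply_inv_apply]
  refine le_antisymm (fun g hg => S.mem_mon fun i => ?_) fun g hg =>
    Subgroup.mem_normalizer_iff.2 fun t => ⟨key g hg t, fun h => by
      simpa [mul_assoc] using key _ (inv_mem hg) _ h⟩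
  obtain ⟨j, hj⟩ := S.exists_ne (O.apply_ne_zero g (ne_zero_of_Q_ne_zero (S.Q_ne i)))
  refine ⟨j, polar Q (e j) (g.1 (e i)), S.ext fun k => ?_⟩
  by_cases hk : k = j
  · simp [hk, S.pol]
  rw [polar_smul_right', S.pol, if_neg hk, mul_zero]
  obtain ⟨l, -, hl⟩ := exists_mem_notMem_list univ [j, k] hn
  simp only [List.mem_cons, List.not_mem_nil, or_false, not_or] at hl
  have h1 : refl Q (e k) * refl Q (e l) ∈ E := (hE _).2 ⟨fun m => by
    simp only [O.mul_apply, S.refl_e, S.pol, polar_sub_right, polar_smul_right', Ne.symm hl.2]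
    by_cases a1 : l = m
    · right; simp [← a1, Ne.symm hl.2, two_smul]
    by_cases a2 : k = m
    · right; simp [a1, a2, two_smul]
    · left; simp [a1, a2], by simp [dickson_refl _ (S.Q_ne _)]⟩
  have h2 := ((hE _).1 ((Subgroup.mem_normalizer_iff''.1 hg _).1 h1)).1 i
  rw [O.mul_apply, O.mul_apply, O.inv_apply_eq, O.inv_apply_eq, map_neg] at h2
  rcases h2 with h2 | h2
  · have := congrArg (polar Q (e k)) h2
    rw [O.mul_apply, S.pol_refl_e, if_pos rfl, S.pol_refl_e, if_neg (Ne.symm hl.2)] at this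
    exact mul_left_cancel₀ S.two (by linear_combination -this)
  · have := congrArg (polar Q (e j)) h2
    rw [O.mul_apply, S.pol_refl_e, if_neg (Ne.symm hk), S.pol_refl_e, if_neg (Ne.symm hl.1),
      polar_neg_right] at this
    exact absurd (mul_left_cancel₀ S.two (by linear_combination this)) hj

/-- The normaliser of an elementary abelian subgroup of order `2 ^ (n - 1)` of `Ω_n(p)`. -/
theorem maxC_normalizer [Finite F] (hQ : ND Q) (h2 : (2 : F) ≠ 0) (hp : PrimeF F) {n : ℕ}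
    (hn : finrank F V = n) (h4 : 4 ≤ n) (hE : ∀ t ∈ E, t * t = 1) (hE' : E ≤ commutator (O Q))
    (hc : Nat.card E = 2 ^ (n - 1))
    (hmax : ∀ (Q' : QuadraticForm F V) (e : Fin n → V), Fr Q' e → MaxC (mon Q' e)) :
    MaxC (Subgroup.normalizer (E : Set (O Q))) ∧
      ¬ commutator (O Q) ≤ Subgroup.normalizer (E : Set (O Q)) := by
  obtain ⟨e, a1, a2, a3⟩ := exists_eigbasis hQ h2 hE n ⊤ (by simpa)
    (nd_restrict_iff.2 fun x _ hx => hQ.eq_zero fun y => hx y trivial)
    fun t _ => mem_stab_iff_mapsTo.2 fun _ _ => trivial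
  let o : Fin n := ⟨0, by omega⟩
  have a4 : ∀ t, t ∈ E ↔ _ := fun t => mem_iff_sign hQ h2 (fun i => (a1 i).2.1) a2
    (fun x => a3 x trivial) hE' (fun t ht i => (a1 i).2.2 t ht) (by simpa) o (t := t)
  have a5 : ∀ i, ∃ c : F, c ≠ 0 ∧ Q (e o) = c ^ 2 * Q (e i) := fun i => by
    refine exists_sq_mul_of_sqsign_eq (a1 i).2.1 (a1 o).2.1 ?_
    by_cases h : i = o
    · rw [h]
    have b1 : refl Q (e i) * refl Q (e o) ∈ E := (a4 _).2 ⟨fun k => by
      rw [O.mul_apply]
      by_cases c1 : k = o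
      · right
        rw [c1, refl_apply_self (a1 o).2.1, map_neg, refl_apply_of_perp (a2 i o h)]
      rw [refl_apply_of_perp (a2 o k (Ne.symm c1))]
      by_cases c2 : k = i
      · right; rw [c2, refl_apply_self (a1 i).2.1]
      · left; rw [refl_apply_of_perp (a2 i k (Ne.symm c2))], by
      simp [dickson_refl _ (a1 _).2.1]⟩
    have b2 : spinor hQ _ = 1 := Abelianization.commutator_subset_ker _ (hE' b1)
    rw [map_mul, spinor_refl hQ (a1 i).2.1, spinor_refl hQ (a1 o).2.1] at b2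
    rw [eq_inv_of_mul_eq_one_left b2, Int.units_inv_eq_self]
  choose c hc0 hc1 using a5
  have h5 : (2 * Q (e o))⁻¹ ≠ 0 := inv_ne_zero (mul_ne_zero h2 (a1 o).2.1)
  have T : Fr ((2 * Q (e o))⁻¹ • Q) fun i => c i • e i :=
    { nd := nd_smul hQ h5
      two := h2
      prime := hp
      pol := fun i j => by
        rw [polar_smul_form]
        split_ifs with h
        · rw [h, polar_self', Q_smul, ← hc1, inv_mul_cancel₀ (mul_ne_zero h2 (a1 o).2.1)]
        · rw [polar_smul_left', polar_smul_right', a2 i j h]; simp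
      eq_zero := fun x hx => a3 x trivial fun i => by
        have := hx i
        rw [polar_smul_form, polar_smul_left'] at this
        simpa [h2, (a1 o).2.1, hc0] using this }
  let ψ : O Q ≃* O ((2 * Q (e o))⁻¹ • Q) := O.congr (LinearEquiv.refl F V) h5 fun _ => rfl
  have hψ : ∀ g v, (ψ g).1 v = g.1 v := fun _ _ => rfl
  have a6 := T.normalizer_eq (E := E.map ψ.toMonoidHom) (by simp; omega) fun t => by
    obtain ⟨t, rfl⟩ := ψ.surjective t
    rw [Subgroup.mem_map_equiv, ψ.symm_apply_apply, a4,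
      show dickson T.nd (ψ t) = dickson hQ t from dickson_congr hQ _ _ _ _ t]
    refine and_congr_left' (forall_congr' fun i => ?_)
    rw [hψ, map_smul, ← smul_neg, (smul_right_injective V (hc0 i)).eq_iff,
      (smul_right_injective V (hc0 i)).eq_iff]
  have a7 : ∀ g, g ∈ Subgroup.normalizer (E : Set (O Q)) ↔ ψ g ∈ mon _ fun i => c i • e i :=
    fun g => by
    rw [← a6, Subgroup.mem_normalizer_iff, Subgroup.mem_normalizer_iff, ψ.surjective.forall]
    simp only [← map_mul, ← map_inv, Subgroup.mem_map_equiv, ψ.symm_apply_apply]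
  refine ⟨(hmax _ _ T).of_equiv ψ a7, fun h => T.decStr.not_commutator_le
    (not_exc_of_two_ne_zero h2) one_ne_zero (i := o) (by omega) fun g hg => ?_⟩
  obtain ⟨g, rfl⟩ := ψ.surjective g
  exact (a7 g).1 (h ((map_mem_commutator_iff ψ).1 hg))

end Cfsg.Lib.OMax
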