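import Cfsg.Agent.Lib.OMax.Dec2C

/-!
# Convenience forms for the low-dimensional tables
-/

namespace Cfsg.Lib.OMax

open QuadraticMap Module Cfsg.Lib.Orth

variable {F : Type*} [Field F] {ι : Type} [Fintype ι] [DecidableEq ι] {Q : QuadraticForm F (ι → F)}

theorem isMaximalIn_nd_dim [Finite F] (hQ : ND Q) (h9 : 9 ≤ Fintype.card ι)
    {W : Submodule F (ι → F)} (hW : Geo.IsNondegenerateOn (polar ⇑Q) W) (h0 : W ≠ ⊥) (h1 : W ≠ ⊤)
    (hex : ¬ (Nat.card F ≤ 3 ∧ finrank F W = 2 ∧ Geo.IsPlusTypeOn ⇑Q W))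
    (h2 : finrank F W + 2 ≠ Fintype.card ι) (h3 : 2 * finrank F W ≠ Fintype.card ι) :
    Geo.IsMaximalIn (Geo.omegaGL ⇑Q) (Geo.subspaceStabilizer W ⊓ Geo.omegaGL ⇑Q) := by
  have h4 := finrank_add_finrank_perp hQ W
  rw [Module.finrank_fintype_fun_eq_card] at h4
  exact isMaximalIn_nd hQ h9 h0 h1 hW hex (fun h => by omega) fun h => absurd h h3

omit [DecidableEq ι] in
theorem ne_bot_of_finrank {W : Submodule F (ι → F)} (h : finrank F W ≠ 0) : W ≠ ⊥ := by
  rintro rfl; simp at h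

omit [DecidableEq ι] in
theorem ne_top_of_finrank {W : Submodule F (ι → F)} (h : finrank F W ≠ Fintype.card ι) : W ≠ ⊤ := by
  rintro rfl; simp at h

theorem isPlusTypeOn_top_of_dec (hQ : ND Q) {t k : ℕ} {D : Fin t → Submodule F (ι → F)}
    (hD : Geo.IsOrthogonalMDecomposition ⇑Q k D) (h : ∀ i, Geo.IsPlusTypeOn ⇑Q (D i)) :
    Geo.IsPlusTypeOn ⇑Q ⊤ := by
  have S := decStr_of hQ hD
  choose U h1 h2 h3 using h
  let L : (∀ i, U i) →ₗ[F] (ι → F) := ∑ i, (U i).subtype ∘ₗ LinearMap.proj i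
  have hL : ∀ x i, S.pr i (L x) = x i := fun x i => by
    simp only [L, LinearMap.sum_apply, map_sum, LinearMap.comp_apply, LinearMap.proj_apply,
      Submodule.subtype_apply]
    rw [Finset.sum_eq_single i (fun j _ hj => S.pr_of_ne hj.symm (h1 j (x j).2)) (by simp),
      S.pr_of_mem (h1 i (x i).2)]
  refine ⟨LinearMap.range L, le_top, ?_, ?_⟩
  · rintro _ ⟨x, rfl⟩
    rw [S.Q_eq_sum]
    exact Finset.sum_eq_zero fun i _ => by rw [hL]; exact h2 i _ (x i).2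
  · rw [LinearMap.finrank_range_of_inj fun x y hxy => funext fun i => Subtype.ext (by
      rw [← hL, hxy, hL]), Module.finrank_pi_fintype, finrank_top, S.finrank_eq, Finset.mul_sum]
    simp [h3, S.dim]

end Cfsg.Lib.OMax
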