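import Cfsg.Agent.Lib.OMax.SubStd

/-!
# Maximality in `Ω` of the stabiliser of a pair of complementary totally singular subspaces
-/

set_option autoImplicit false

namespace Cfsg.Lib.OMax

open QuadraticMap Module Cfsg.Lib.Orth
open Cfsg.Lib.Unitary (exists_notMem_of_lt finrank_span_singleton_le finrank_span_triple_le
  mem_span_of_mem_pairs exists_add_of_isCompl)

variable {F V : Type*} [Field F] [AddCommGroup V] [Module F V] {Q : QuadraticForm F V}

/-- A pair of complementary totally singular subspaces and a subgroup containing its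
stabiliser. -/
structure PairStr (Q : QuadraticForm F V) (W₁ W₂ : Submodule F V) (K : Subgroup (O Q)) :
    Prop where
  compl : IsCompl W₁ W₂
  ts₁ : TS Q W₁
  ts₂ : TS Q W₂
  dim₁ : 5 ≤ finrank F W₁
  dim₂ : 5 ≤ finrank F W₂
  mem : ∀ a ∈ W₁, ∀ b ∈ W₂, eich Q a b ∈ K
  swap : ∃ s ∈ K, (∀ v ∈ W₁, s.1 v ∈ W₂) ∧ ∀ v ∈ W₂, s.1 v ∈ W₁

theorem exists_dual [FiniteDimensional F V] (hQ : ND Q) {W₁ W₂ Z : Submodule F V}
    (hc : IsCompl W₁ W₂) (h1 : TS Q W₁) (hZ : Z ≤ W₁) {w : V} (hw : w ∈ W₁) (hwZ : w ∉ Z) :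
    ∃ b ∈ W₂, b ∈ perp Q Z ∧ polar Q w b = 1 := by
  obtain ⟨y, hy, h2⟩ := exists_perp_polar_eq hQ hwZ 1
  obtain ⟨⟨a, ha⟩, ⟨b, hb⟩, rfl⟩ := exists_add_of_isCompl hc y
  rw [polar_add_right, h1.polar_eq hw ha, zero_add] at h2
  refine ⟨b, hb, mem_perp.2 fun z hz => ?_, h2⟩
  simpa [polar_add_right, h1.polar_eq (hZ hz) ha] using mem_perp.mp hy z hz

namespace PairStr

variable {W₁ W₂ : Submodule F V} {K : Subgroup (O Q)} (S : PairStr Q W₁ W₂ K)
include S

theorem symm : PairStr Q W₂ W₁ K :=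
  ⟨S.compl.symm, S.ts₂, S.ts₁, S.dim₂, S.dim₁, fun a ha b hb => by
    by_cases h : polar Q b a = 0
    · rw [eich_swap (S.ts₁ b hb) h (S.ts₂ a ha)]; exact S.mem _ hb _ (neg_mem ha)
    · rw [eich_of_not fun h' => h (by rw [polar_comm]; exact h'.2)]; exact one_mem _,
    by obtain ⟨s, h1, h2, h3⟩ := S.swap; exact ⟨s, h1, h3, h2⟩⟩

theorem mem_AE {e b : V} (he : e ∈ W₁) (hb : b ∈ W₂) (heb : polar Q e b = 0) : b ∈ AE K e :=
  ⟨heb, S.mem e he b hb⟩

variable [Finite F] [FiniteDimensional F V] (hQ : ND Q) (hK : ¬ commutator (O Q) ≤ K)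
include hQ hK

theorem mem_sup_of_mem_AE {e w : V} (he : e ∈ W₁) (he0 : e ≠ 0) (hw : w ∈ AE K e) :
    w ∈ W₂ ⊔ F ∙ e := by
  obtain ⟨⟨w₁, h1⟩, ⟨w₂, h2⟩, rfl⟩ := exists_add_of_isCompl S.compl w
  by_contra hne
  have h3 : w₁ ∉ F ∙ e := fun hm => hne (add_mem (Submodule.mem_sup_right hm)
    (Submodule.mem_sup_left h2))
  have h4 : w₁ ∈ AE K e := by
    simpa using sub_mem hw (S.mem_AE he h2 (by
      simpa [polar_add_right, S.ts₁.polar_eq he h1] using hw.1))
  have key : ∀ a ∈ W₁, a ∉ Submodule.span F {e, w₁} → a ∈ AE K e := by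
    intro a ha h5
    obtain ⟨b, hb, h6, h7⟩ := exists_dual hQ S.compl S.ts₁ (Z := Submodule.span F {e, a})
      (Submodule.span_le.mpr (by simp [Set.insert_subset_iff, he, ha])) h1 fun hm => by
        obtain ⟨s, t, rfl⟩ := Submodule.mem_span_pair.mp hm
        by_cases ht : t = 0
        · exact h3 (by simpa [ht] using Submodule.smul_mem _ s (Submodule.mem_span_singleton_self e))
        · exact h5 (Submodule.mem_span_pair.mpr ⟨-(s / t), t⁻¹, by
            match_scalars <;> field_simp <;> ring⟩)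
    rw [mem_perp_pair] at h6
    have := sub_mem (apply_mem_AE (S.mem a ha b hb) (eich_apply_of_perp' (S.ts₁.polar_eq ha he)
      (by rw [polar_comm]; exact h6.1)) h4) h4
    rw [eich_apply_of_perp (S.ts₁ a ha) h6.2 (S.ts₁.polar_eq ha h1), polar_comm, h7] at this
    simpa using this
  have h5 : ∀ a ∈ W₁, a ∈ AE K e := fun a ha => by
    by_cases h6 : a ∈ Submodule.span F {e, w₁}
    swap
    · exact key a ha h6
    obtain ⟨a', h7, h8⟩ := exists_notMem_of_lt (W := W₁) (Z := Submodule.span F {e, w₁})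
      (by have := finrank_span_pair_le (F := F) e w₁; have := S.dim₁; omega)
    simpa using sub_mem (key (a + a') (add_mem ha h7)
      (by rwa [Submodule.add_mem_iff_right _ h6])) (key a' h7 h8)
  have hn : 3 ≤ finrank F V := (S.dim₁.trans (Submodule.finrank_le _)).trans' (by omega)
  have hF : FullAt K ⊤ e := fullAt_iff.2 fun w _ _ hw => by
    obtain ⟨⟨w₁, h1⟩, ⟨w₂, h2⟩, rfl⟩ := exists_add_of_isCompl S.compl w
    exact (add_mem (h5 _ h1) (S.mem_AE he h2 (by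
      simpa [polar_add_right, S.ts₁.polar_eq he h1] using hw))).2
  have fin : ∀ g ∈ K, polar Q e (g.1 e) = 0 := fun g hg => by
    by_contra h
    exact hK (commutator_le_of_pair hQ hn (S.ts₁ e he) (by rw [O.map_Q, S.ts₁ e he]) h hF
      (hF.conj hg fun _ _ => trivial))
  obtain ⟨s, hs, hs1, -⟩ := S.swap
  have h6 := fin s hs
  obtain ⟨b, hb, -, h7⟩ := exists_dual hQ S.compl S.ts₁ (Z := ⊥) bot_le he (by simpa)
  obtain ⟨a, ha, h8, h9⟩ := exists_dual hQ S.compl.symm S.ts₂ (Z := F ∙ b)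
    ((Submodule.span_singleton_le_iff_mem _ _).mpr hb) (hs1 e he) fun hm => by
      obtain ⟨t, ht⟩ := Submodule.mem_span_singleton.mp hm
      rw [← ht, polar_smul_right', h7, mul_one] at h6
      exact he0 (by simpa [h6] using ht.symm)
  have := fin _ (mul_mem (S.mem a ha b hb) hs)
  rw [O.mul_apply, eich_apply (S.ts₁ a ha) (by rw [polar_comm]; exact mem_perp_singleton.1 h8),
    polar_comm Q a, h9] at this
  simp [polar_add_right, h6, h7, S.ts₁.polar_eq he ha] at this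

theorem apply_mem₂ {y : O Q} (hy : y ∈ K) {u u' : V}
    (hu : ∀ v, polar Q u v = 0 → polar Q u' v = 0 → y.1 v = v) {b : V} (hb : b ∈ W₂) :
    y.1 b ∈ W₂ := by
  have h1 := finrank_le_inf_perp hQ W₁ (Submodule.span F {u, u', b})
  have h2 := finrank_span_triple_le (F := F) u u' b
  have := S.dim₁
  have key : ∀ e ∈ W₁ ⊓ perp Q (Submodule.span F {u, u', b}), e ≠ 0 → y.1 b ∈ W₂ ⊔ F ∙ e :=
    fun e he he0 => S.mem_sup_of_mem_AE hQ hK he.1 he0 (apply_mem_AE hy
      (hu e (mem_perp_span.mp he.2 u (by simp)) (mem_perp_span.mp he.2 u' (by simp)))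
      (S.mem_AE he.1 hb (by rw [polar_comm]; exact mem_perp_span.mp he.2 b (by simp))))
  obtain ⟨e, he, he0⟩ := exists_notMem_of_lt (W := W₁ ⊓ perp Q (Submodule.span F {u, u', b}))
    (Z := ⊥) (by simp only [finrank_bot]; omega)
  obtain ⟨e', he', he0'⟩ := exists_notMem_of_lt (W := W₁ ⊓ perp Q (Submodule.span F {u, u', b}))
    (Z := F ∙ e) (by have := finrank_span_singleton_le (F := F) e; omega)
  obtain ⟨x, hx, _, hz, e1⟩ := Submodule.mem_sup.mp (key e he he0)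
  obtain ⟨x', hx', _, hz', e2⟩ := Submodule.mem_sup.mp (key e' he' (by rintro rfl; simp at he0'))
  obtain ⟨s, rfl⟩ := Submodule.mem_span_singleton.mp hz
  obtain ⟨t, rfl⟩ := Submodule.mem_span_singleton.mp hz'
  have h3 : t • e' - s • e = 0 := Submodule.disjoint_def.mp S.compl.disjoint _
    (sub_mem (W₁.smul_mem _ he'.1) (W₁.smul_mem _ he.1))
    (by rw [show t • e' - s • e = x - x' by linear_combination (norm := module) e2 - e1]
        exact sub_mem hx hx')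
  have h4 : t = 0 := by
    by_contra ht
    exact he0' ((Submodule.smul_mem_iff _ ht).mp (sub_eq_zero.mp h3 ▸ hz))
  simpa [← e2, h4] using hx'

theorem apply_mem_or {g : O Q} (hg : g ∈ K) {a : V} (ha : a ∈ W₁) :
    g.1 a ∈ W₁ ∨ g.1 a ∈ W₂ := by
  obtain ⟨⟨a₁, h1⟩, ⟨a₂, h2⟩, e0⟩ := exists_add_of_isCompl S.compl (g.1 a)
  have key : ∀ b ∈ W₂, b ≠ 0 → polar Q a b = 0 → a₁ ∈ Submodule.span F {g.1 a, g.1 b} := by
    intro b hb hb0 hab
    have hyK := mul_mem (mul_mem hg (S.mem a ha b hb)) (inv_mem hg)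
    rw [conj_eich] at hyK
    set y := eich Q (g.1 a) (g.1 b) with hy
    have hy' : ∀ v, polar Q (g.1 a) v = 0 → polar Q (g.1 b) v = 0 → y.1 v = v := fun v h1 h2 =>
      eich_apply_of_perp' h1 h2
    obtain ⟨v, hv, -, hv2⟩ := exists_dual hQ S.compl.symm S.ts₂ (Z := ⊥) bot_le hb (by simpa)
    obtain ⟨⟨v₁, k1⟩, ⟨v₂, k2⟩, e2⟩ := exists_add_of_isCompl S.compl (g.1 v)
    have k3 := sub_mem (S.symm.apply_mem₂ hQ hK hyK hy' k1) k1
    have k4 := sub_mem (S.apply_mem₂ hQ hK hyK hy' k2) k2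
    have k5 : y.1 (g.1 v) = g.1 v + g.1 a := by
      rw [hy, eich_apply_of_perp (by simpa using S.ts₁ a ha) (by simpa)
        (by simpa using S.ts₁.polar_eq ha hv), O.map_polar, hv2, one_smul]
    rw [e2, map_add] at k5
    have : y.1 v₁ - v₁ - a₁ = 0 := Submodule.disjoint_def.mp S.compl.disjoint _
      (sub_mem k3 h1) (by
        rw [show y.1 v₁ - v₁ - a₁ = -(y.1 v₂ - v₂) + a₂ by
          linear_combination (norm := module) k5 + e0]
        exact add_mem (neg_mem k4) h2)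
    rw [← sub_eq_zero.1 this]
    exact eich_sub_mem (Submodule.subset_span (by simp)) (Submodule.subset_span (by simp)) _
  have h3 := finrank_le_inf_perp hQ W₂ (F ∙ a)
  have h4 := finrank_span_singleton_le (F := F) a
  have := S.dim₂
  obtain ⟨b, hb, hb0⟩ := exists_notMem_of_lt (W := W₂ ⊓ perp Q (F ∙ a))
    (Z := ⊥) (by simp only [finrank_bot]; omega)
  obtain ⟨b', hb', hb0'⟩ := exists_notMem_of_lt (W := W₂ ⊓ perp Q (F ∙ a))
    (Z := Submodule.span F {a, b}) (by have := finrank_span_pair_le (F := F) a b; omega)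
  obtain ⟨s, hs⟩ := Submodule.mem_span_singleton.mp (mem_span_of_mem_pairs (b := g.1 b)
    (b' := g.1 b') (fun hm => hb0' (by
      obtain ⟨s, t, e⟩ := Submodule.mem_span_pair.mp hm
      exact Submodule.mem_span_pair.mpr ⟨s, t, g.1.injective (by simpa using e)⟩))
    (key b hb.1 hb0 (mem_perp_singleton.mp hb.2))
    (key b' hb'.1 (by rintro rfl; simp at hb0') (mem_perp_singleton.mp hb'.2)))
  by_cases h0 : s = 0
  · rw [h0, zero_smul] at hs
    subst hs
    right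
    simpa [e0]
  · exact Or.inl ((Submodule.smul_mem_iff _ h0).mp (hs ▸ h1))

theorem le_or_le {g : O Q} (hg : g ∈ K) :
    (∀ a ∈ W₁, g.1 a ∈ W₁) ∨ ∀ a ∈ W₁, g.1 a ∈ W₂ := by
  by_contra hcon
  push Not at hcon
  obtain ⟨⟨a, h1, h2⟩, b, h3, h4⟩ := hcon
  have h5 := (S.apply_mem_or hQ hK hg h1).resolve_left h2
  have h6 := (S.apply_mem_or hQ hK hg h3).resolve_right h4
  rcases S.apply_mem_or hQ hK hg (add_mem h1 h3) with h7 | h7 <;> rw [map_add] at h7
  · exact h2 ((Submodule.add_mem_iff_left _ h6).mp h7)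
  · exact h4 ((Submodule.add_mem_iff_right _ h5).mp h7)

end PairStr

theorem exists_swap_pair [Finite F] [FiniteDimensional F V] (hQ : ND Q) (hE : ¬ Exc Q)
    {W₁ W₂ : Submodule F V} (hc : IsCompl W₁ W₂) (h1 : TS Q W₁) (h2 : TS Q W₂)
    {k : ℕ} (hk : finrank F W₁ = k + 1) (hk' : finrank F W₂ = k + 1) (he : Even (k + 1)) :
    ∃ s ∈ commutator (O Q), (∀ v ∈ W₁, s.1 v ∈ W₂) ∧ ∀ v ∈ W₂, s.1 v ∈ W₁ := by
  obtain ⟨x, hx, hxW⟩ := Unitary.IsHerm.exists_family_span W₁ hk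
  have hx' : ∀ i, x i ∈ W₁ := fun i => hxW ▸ Submodule.subset_span ⟨i, rfl⟩
  have : ∀ j, ∃ y ∈ W₂, ∀ i, polar Q (x i) y = if i = j then 1 else 0 := fun j => by
    obtain ⟨y, hy⟩ := exists_polar_eq_of_linearIndependent hQ hx fun i => if i = j then 1 else 0
    obtain ⟨⟨a, ha⟩, ⟨b, hb⟩, rfl⟩ := exists_add_of_isCompl hc y
    exact ⟨b, hb, fun i => by simpa [polar_add_right, h1.polar_eq (hx' i) ha] using hy i⟩
  choose y hy hxy using this
  have hf : IsHypFam Q x y := ⟨fun i => h1 _ (hx' i), fun i => h2 _ (hy i),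
    fun i j => h1.polar_eq (hx' i) (hx' j), fun i j => h2.polar_eq (hy i) (hy j),
    fun i j => hxy j i⟩
  have hyW : Submodule.span F (Set.range y) = W₂ := Submodule.eq_of_le_of_finrank_eq
    (Submodule.span_le.mpr (Set.range_subset_iff.mpr hy))
    (by rw [finrank_span_eq_card hf.linearIndependent_right, hk', Fintype.card_fin])
  obtain ⟨g, e1⟩ := witt_family hQ hf.linearIndependent hf.symm.linearIndependent
    (by rintro (i | i) <;> simp [hf.left, hf.right]) (by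
      rintro (i | i) (j | j) - <;> simp [hf.ll, hf.rr, hf.lr, hf.rl])
  have g1 : ∀ v ∈ W₁, g.1 v ∈ W₂ := show W₁ ≤ W₂.comap g.1.toLinearMap from
    hxW ▸ Submodule.span_le.mpr
      (Set.range_subset_iff.mpr fun i => (e1 (.inl i)).symm.subst (motive := (· ∈ W₂)) (hy i))
  have g2 : ∀ v ∈ W₂, g.1 v ∈ W₁ := show W₂ ≤ W₁.comap g.1.toLinearMap from
    hyW ▸ Submodule.span_le.mpr
      (Set.range_subset_iff.mpr fun i => (e1 (.inr i)).symm.subst (motive := (· ∈ W₁)) (hx' i))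
  have hn := Submodule.finrank_add_eq_of_isCompl hc
  obtain ⟨s, hs, h3⟩ := exists_mul_mem_commutator_of_dickson hQ hE
    (K := stab Q W₁ ⊓ stab Q W₂) (g := g) (fun h2' => by
      obtain ⟨t, ht⟩ := exists_not_isSquare h2'
      have ht0 := ne_zero_of_not_isSquare ht
      have hh := hf.isHyp 0
      refine ⟨hrot Q (x 0) (y 0) t, ⟨hh.hrot_mem_stab (hx' 0)
        (fun u hu => h1.polar_eq (hx' 0) hu) ht0, mem_stab_iff_mapsTo.2 fun w hw => ?_⟩,
        hh.dickson_hrot hQ ht0, by rw [hh.spinor_hrot hQ ht0, sqsign_of_not_isSquare ht]⟩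
      rw [hh.hrot_apply ht0, h2.polar_eq (hy 0) hw]
      simpa using add_mem hw (W₂.smul_mem _ (hy 0))) (by
      rw [Lag.dickson_eq hQ (U := W₁) ⟨h1, by omega⟩, Unitary.map_eq_of_le g1 (by omega),
        psign_eq_one_iff, hc.inf_eq_bot, finrank_bot, hk]
      simpa using he)
  exact ⟨g * s, h3, fun v hv => g1 _ (apply_mem_of_mem_stab hs.1 hv),
    fun v hv => g2 _ (apply_mem_of_mem_stab hs.2 hv)⟩

theorem mem_dstab_of_perm [FiniteDimensional F V] {κ : Type*} {D : κ → Submodule F V} {k : ℕ}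
    (hk : ∀ i, finrank F (D i) = k) {g : O Q} (π : Equiv.Perm κ)
    (h : ∀ i, ∀ v ∈ D i, g.1 v ∈ D (π i)) : g ∈ dstab Q D :=
  Unitary.mem_decStab_of_perm hk π h

theorem not_commutator_le_dstab {κ : Type*} {D : κ → Submodule F V} {i : κ} {u : V}
    (hu : u ∈ D i) {g : O Q} (hg : g ∈ commutator (O Q)) (hv : ∀ j, g.1 u ∉ D j) :
    ¬ commutator (O Q) ≤ dstab Q D := fun hle => by
  obtain ⟨π, hπ⟩ := hle hg
  exact hv (π i) (hπ i ▸ Submodule.mem_map_of_mem hu)

theorem isMaximalIn_pair [Finite F] {ι : Type} [Fintype ι] [DecidableEq ι]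
    {Q : QuadraticForm F (ι → F)} (hQ : ND Q) {k : ℕ} (hk : 5 ≤ k) (he : Even k)
    {D : Fin 2 → Submodule F (ι → F)} (hD : Geo.IsMDecomposition k D)
    (hts : ∀ i, Geo.IsTotallySingularQuad ⇑Q (D i)) :
    Geo.IsMaximalIn (Geo.omegaGL ⇑Q) (Geo.decompositionStabilizer D ⊓ Geo.omegaGL ⇑Q) := by
  have h1 : ∀ i, TS Q (D i) := hts
  have h2 := hD.finrank_eq
  have hc : IsCompl (D 0) (D 1) := ⟨hD.indep.pairwiseDisjoint (by decide),
    codisjoint_iff_le_sup.mpr (by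
      rw [← hD.iSup_eq_top]
      exact iSup_le (Fin.forall_fin_two.mpr ⟨le_sup_left, le_sup_right⟩))⟩
  have hn : 5 ≤ finrank F (ι → F) := (Submodule.finrank_le (D 0)).trans' (by rw [h2]; omega)
  have hE := not_exc_of_five_le (Q := Q) hn
  refine isMaximalIn_of mem_decompositionStabilizer_iff ?_ fun K hH hK => ?_
  · obtain ⟨a, ha, ha0⟩ := exists_notMem_of_lt (W := D 0) (Z := ⊥) (by simp [h2]; omega)
    have h3 := finrank_le_inf_perp hQ (D 1) (F ∙ a)
    have h4 := finrank_span_singleton_le (F := F) a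
    obtain ⟨b, hb, hb0⟩ := exists_notMem_of_lt (W := D 1 ⊓ perp Q (F ∙ a))
      (Z := ⊥) (by rw [h2] at h3; simp only [finrank_bot]; omega)
    have h5 := mem_perp_singleton.mp hb.2
    have h6 : a + b ∉ D 0 := fun hm => hb0 (hc.disjoint.le_bot
      ⟨(Submodule.add_mem_iff_right _ ha).mp hm, hb.1⟩)
    obtain ⟨g, hg, c, hc0, e⟩ := exists_eichGroup_map_singular hQ (by omega) (h1 0 a ha)
      (y := a + b) (by rw [Orth.Q_add, h5, h1 0 a ha, h1 1 b hb.1]; simp) ha0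
      (fun h0 => h6 (h0 ▸ zero_mem _))
    refine not_commutator_le_dstab ha (eichGroup_le_commutator hQ hE hg) fun j => ?_
    rw [e, Submodule.smul_mem_iff _ hc0]
    revert j
    exact Fin.forall_fin_two.mpr ⟨h6, fun hm => ha0 (hc.disjoint.le_bot
        ⟨ha, (Submodule.add_mem_iff_left _ hb.1).mp hm⟩)⟩
  refine or_iff_not_imp_right.mpr fun hK' g hg => ?_
  obtain ⟨k, rfl⟩ : ∃ k', k = k' + 1 := ⟨k - 1, by omega⟩
  obtain ⟨s, hs, hs1, hs2⟩ := exists_swap_pair hQ hE hc (h1 0) (h1 1) (h2 0) (h2 1) he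
  have S : PairStr Q (D 0) (D 1) K := ⟨hc, h1 0, h1 1, (h2 0).symm ▸ hk,
    (h2 1).symm ▸ hk, fun a ha b hb => hH ⟨mem_dstab_of_forall (Fin.forall_fin_two.mpr
      ⟨eich_mem_stab (h1 0) ha b, by
        by_cases h : polar Q b a = 0
        · rw [eich_swap (h1 1 b hb) h (h1 0 a ha)]; exact eich_mem_stab (h1 1) hb _
        · rw [eich_of_not fun h' => h (by rw [polar_comm]; exact h'.2)]; exact one_mem _⟩),
      eich_mem_commutator hQ hE a b⟩, s,
    hH ⟨mem_dstab_of_perm h2 (Equiv.swap 0 1) (Fin.forall_fin_two.mpr ⟨hs1, hs2⟩), hs⟩, hs1, hs2⟩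
  have key : ∀ i, ¬ ((∀ a ∈ D 0, g.1 a ∈ D i) ∧ ∀ a ∈ D 1, g.1 a ∈ D i) := fun i ⟨h3, h4⟩ => by
    have := Submodule.finrank_mono (Submodule.map_le_iff_le_comap.mpr
      (sup_le h3 h4 : D 0 ⊔ D 1 ≤ (D i).comap g.1.toLinearMap))
    rw [LinearEquiv.finrank_map_eq, hc.sup_eq_top, finrank_top,
      ← Submodule.finrank_add_eq_of_isCompl hc, h2, h2, h2] at this
    omega
  rcases S.le_or_le hQ hK' hg with h3 | h3 <;> rcases S.symm.le_or_le hQ hK' hg with h4 | h4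
  · exact mem_dstab_of_perm h2 1 (Fin.forall_fin_two.mpr ⟨h3, h4⟩)
  · exact absurd ⟨h3, h4⟩ (key 0)
  · exact absurd ⟨h3, h4⟩ (key 1)
  · exact mem_dstab_of_perm h2 (Equiv.swap 0 1) (Fin.forall_fin_two.mpr ⟨h3, h4⟩)

end Cfsg.Lib.OMax
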