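import Cfsg.Agent.Lib.OMax.Dec3

/-!
# Non-degenerate planes over fields that are not too small
-/

set_option autoImplicit false

namespace Cfsg.Lib.OMax

open QuadraticMap Module Cfsg.Lib.Orth Finset
open Cfsg.Lib.Unitary (finrank_span_singleton_le)

variable {F V : Type*} [Field F] [AddCommGroup V] [Module F V] {Q : QuadraticForm F V}

theorem odd_card_of_two_ne_zero [Fintype F] (h2 : (2 : F) ≠ 0) : Fintype.card F % 2 = 1 := by
  refine FiniteField.odd_card_of_char_ne_two fun h => h2 ?_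
  simpa [h] using ringChar.Nat.cast_ringChar (R := F)

theorem exists_sq_add_sq [Finite F] (h2 : (2 : F) ≠ 0) {φ ψ : F → F} (hφ : Function.Injective φ)
    (hψ : Function.Injective ψ) (v : F) : ∃ x y, φ (x ^ 2) + ψ (y ^ 2) = v := by
  classical
  have := Fintype.ofFinite F
  have h1 := FiniteField.card_image_polynomial_eval (R := F) (p := Polynomial.X ^ 2) (by simp)
  have h3 := odd_card_of_two_ne_zero h2
  simp only [Polynomial.natDegree_pow, Polynomial.natDegree_X, Polynomial.eval_pow,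
    Polynomial.eval_X] at h1
  obtain ⟨_, h4⟩ := inter_nonempty_of_card_lt_card_add_card (s := univ)
    (subset_univ ((univ.image fun x : F => x ^ 2).image φ))
    (subset_univ ((univ.image fun x : F => x ^ 2).image fun x => v - ψ x)) (by
      rw [card_image_of_injective _ hφ, card_image_of_injective _
        (fun x y h => hψ (sub_right_injective h)), card_univ]
      omega)
  simp only [mem_inter, mem_image, mem_univ, true_and, exists_exists_eq_and] at h4
  obtain ⟨⟨x, rfl⟩, y, h4⟩ := h4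
  exact ⟨x, y, by rw [← h4]; ring⟩

theorem quad_coeff_eq_zero {a b c x y z : F} (h1 : x ≠ y) (h2 : x ≠ z) (h3 : y ≠ z)
    (hx : a + b * x + c * x ^ 2 = 0) (hy : a + b * y + c * y ^ 2 = 0)
    (hz : a + b * z + c * z ^ 2 = 0) : a = 0 ∧ b = 0 ∧ c = 0 := by
  have a1 : b + c * (x + y) = 0 := mul_left_cancel₀ (sub_ne_zero.2 h1) (by linear_combination hx - hy)
  have a2 : b + c * (x + z) = 0 := mul_left_cancel₀ (sub_ne_zero.2 h2) (by linear_combination hx - hz)
  obtain rfl : c = 0 := mul_left_cancel₀ (sub_ne_zero.2 h3) (by linear_combination a1 - a2)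
  obtain rfl : b = 0 := by simpa using a1
  simpa using hx

/-- The planes for which the imprimitive groups are maximal. -/
structure Big (Q : QuadraticForm F V) (W : Submodule F V) : Prop where
  nd : ND (Q.restrict W)
  dim : finrank F W = 2
  ne : Nat.card F ≠ 3
  le : ∀ e ∈ W, e ≠ 0 → Q e = 0 → 7 ≤ Nat.card F

namespace Big

variable [Finite F] [FiniteDimensional F V] {W : Submodule F V} (h : Big Q W)
include h

omit [Finite F] in
theorem exists_hyp {e : V} (he : e ∈ W) (h0 : e ≠ 0) (h1 : Q e = 0) :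
    ∃ f ∈ W, IsHyp Q e f ∧ W ≤ Submodule.span F {e, f} := by
  obtain ⟨⟨f, hf⟩, hh⟩ := exists_isHyp h.nd (e := ⟨e, he⟩) h1 (by simpa)
  have hh : IsHyp Q e f := ⟨h1, hh.right, hh.polar_eq⟩
  exact ⟨f, hf, hh, le_span_of_finrank_two h.dim he hf h0 fun hm => by
    obtain ⟨c, rfl⟩ := Submodule.mem_span_singleton.1 hm
    simpa [hh.polar_left] using hh.polar_eq⟩

theorem cnt_ge {δ : F} (hδ : δ ≠ 0) :
    3 ≤ cnt (Q.restrict W) δ ∧ ((2 : F) ≠ 0 → 5 ≤ cnt (Q.restrict W) δ) := by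
  have := Fintype.ofFinite F
  by_cases hA : (Q.restrict W).Anisotropic
  · rw [cnt_of_anisotropic_two h.nd h.dim hA hδ]
    have := h.ne
    have := Fintype.one_lt_card (α := F)
    refine ⟨by simp; omega, fun h2 => ?_⟩
    have := odd_card_of_two_ne_zero h2
    simp at *; omega
  · obtain ⟨e, he, h0⟩ := (not_anisotropic_iff_exists _).1 hA
    obtain ⟨f, hf⟩ := exists_isHyp h.nd h0 he
    have h1 := hf.cnt_eq δ
    have h2 := hf.finrank_hperp h.nd
    have := h.le e e.2 (by simpa) h0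
    rw [show finrank F (hperp (Q.restrict W) e f) = 0 by rw [h.dim] at h2; omega, pow_zero,
      mul_one] at h1
    omega

theorem exists_notMem {δ : F} (hδ : δ ≠ 0) {S S' : Submodule F V} (hS : ¬ W ≤ S) (hS' : ¬ W ≤ S') :
    ∃ b ∈ W, Q b = δ ∧ b ∉ S ∧ b ∉ S' := by
  classical
  have := finite_of_finiteDimensional F W
  have := Fintype.ofFinite W
  have key : ∀ S : Submodule F V, ¬ W ≤ S → ∃ x : W,
      (univ.filter fun b : W => Q b = δ ∧ (b : V) ∈ S) ⊆ {x, -x} := fun S hS => by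
    by_cases hx : ∃ x : W, Q x = δ ∧ (x : V) ∈ S
    · obtain ⟨x, h1, h2⟩ := hx
      refine ⟨x, fun y hy => ?_⟩
      simp only [mem_filter, mem_univ, true_and] at hy
      by_cases h3 : (y : V) ∈ F ∙ (x : V)
      · obtain ⟨c, hc⟩ := Submodule.mem_span_singleton.1 h3
        have h4 : c ^ 2 = 1 := mul_right_cancel₀ hδ (by rw [← h1, ← Q_smul, hc, hy.1, h1, one_mul])
        rcases sq_eq_one_iff.1 h4 with rfl | rfl <;>
          simp [Subtype.ext_iff, ← hc]
      · exact absurd ((le_span_of_finrank_two h.dim x.2 y.2 (ne_zero_of_Q_ne_zero (h1 ▸ hδ))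
          h3).trans (Submodule.span_le.2 (by simp [Set.insert_subset_iff, h2, hy.2]))) hS
    · exact ⟨0, fun y hy => absurd ⟨y, by simpa using hy⟩ hx⟩
  obtain ⟨x, hx⟩ := key S hS
  obtain ⟨y, hy⟩ := key S' hS'
  by_contra! hc
  have h1 : (univ.filter fun b : W => Q b = δ) ⊆ {x, -x} ∪ {y, -y} := fun b hb => by
    have hb := (mem_filter.1 hb).2
    by_cases h2 : (b : V) ∈ S
    · exact mem_union_left _ (hx (by simp [hb, h2]))
    · exact mem_union_right _ (hy (by simp [hb, hc b b.2 hb h2]))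
  have h2 := (card_le_card h1).trans (card_union_le _ _)
  have h3 := h.cnt_ge hδ
  rw [cnt, Nat.card_eq_fintype_card, Fintype.card_subtype] at h3
  simp only [restrict_apply] at h3
  by_cases h4 : (2 : F) = 0
  · rw [neg_eq_of_two h4 x, neg_eq_of_two h4 y] at h2
    simp at h2; omega
  · have := h3.2 h4
    have := card_le_two (a := x) (b := -x)
    have := card_le_two (a := y) (b := -y)
    omega

omit [Finite F] [FiniteDimensional F V] in
theorem not_le_span (x : V) : ¬ W ≤ F ∙ x := fun h1 => by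
  have := (Submodule.finrank_mono h1).trans (finrank_span_singleton_le (F := F) x)
  rw [h.dim] at this; omega

omit [Finite F] [FiniteDimensional F V] in
theorem not_le_perp {x : V} (hx : x ∈ W) (h0 : x ≠ 0) : ¬ W ≤ perp Q (F ∙ x) := fun h1 =>
  h0 (nd_restrict_iff.1 h.nd x hx fun _ hy => mem_perp_singleton.1 (h1 hy))

theorem exists_third {δ : F} (hδ : δ ≠ 0) {x : V} (hx : x ∈ W) (h0 : x ≠ 0) :
    ∃ b ∈ W, Q b = δ ∧ b ∉ F ∙ x ∧ polar Q x b ≠ 0 := by
  simpa [mem_perp_singleton] using h.exists_notMem hδ (h.not_le_span x) (h.not_le_perp hx h0)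

theorem exists_pair {δ : F} (hδ : δ ≠ 0) : ∃ b ∈ W, ∃ b' ∈ W, Q b = δ ∧ Q b' = δ ∧
    b' ∉ F ∙ b ∧ polar Q b b' ≠ 0 := by
  obtain ⟨b, hb, h1⟩ := exists_Q_eq_mem h.nd h.dim.ge δ
  obtain ⟨b', hb', h2⟩ := h.exists_third hδ hb (ne_zero_of_Q_ne_zero (h1 ▸ hδ))
  exact ⟨b, hb, b', hb', h1, h2⟩

omit [Finite F] in
theorem exists_perp {x : V} (hx : x ∈ W) (h0 : Q x ≠ 0) : ∃ z ∈ W, Q z ≠ 0 ∧ polar Q x z = 0 := by
  by_cases h2 : (2 : F) = 0
  · exact ⟨x, hx, h0, by rw [polar_self', h2, zero_mul]⟩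
  have h3 : W ⊓ perp Q (F ∙ x) ≠ ⊥ := fun h3 => by
    have h4 := LinearMap.finrank_le_finrank_of_injective (f := (polarBilin Q x).domRestrict W)
      ((injective_iff_map_eq_zero _).2 fun y hy => Subtype.ext
        (h3.le ⟨y.2, mem_perp_singleton.2 hy⟩))
    rw [h.dim, finrank_self] at h4; omega
  have : Nontrivial ↥(W ⊓ perp Q (F ∙ x)) := Submodule.nontrivial_iff_ne_bot.2 h3
  obtain ⟨z, hz⟩ := (nd_inf_perp h2 h.nd hx h0).exists_Q_ne
  exact ⟨z, z.2.1, hz, mem_perp_singleton.1 z.2.2⟩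

omit h [Finite F] [FiniteDimensional F V] in
theorem _root_.Cfsg.Lib.OMax.Q_sub_refl (c a : V) :
    Q (a - (refl Q c).1 a) = polar Q c a ^ 2 * (Q c)⁻¹ := by
  rw [refl_apply, sub_sub_cancel, Q_smul]
  by_cases h : Q c = 0
  · simp [h]
  · field_simp

omit [Finite F] in
theorem exists_param (h2 : (2 : F) ≠ 0) {x : V} (hx : x ∈ W) (h0 : Q x ≠ 0) :
    ∃ φ : F → F, Function.Injective φ ∧ ∀ y, ∃ c ∈ W, polar Q c x ^ 2 * (Q c)⁻¹ = φ (y ^ 2) := by
  obtain ⟨z, hz, h1, h3⟩ := h.exists_perp hx h0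
  refine ⟨fun u => (2 * Q x) ^ 2 * (Q x + u * Q z)⁻¹, fun u v huv => ?_,
    fun y => ⟨x + y • z, add_mem hx (W.smul_mem _ hz), ?_⟩⟩
  · simpa [h0, h1, h2] using huv
  · rw [polar_add_left, polar_smul_left', polar_comm Q z, h3, Q_add, polar_smul_right', h3, Q_smul,
      polar_self']
    simp

theorem smul_mem {A : AddSubgroup V} (hA : ∀ c ∈ W, ∀ x ∈ W, x ∈ A → (refl Q c).1 x ∈ A) {u : V}
    (hu : u ∈ W) (huA : u ∈ A) (h0 : Q u ≠ 0) (t : F) : t • u ∈ A := by
  have key : ∀ c ∈ W, ∀ x ∈ W, x ∈ A → ((Q c)⁻¹ * polar Q c x) • c ∈ A := fun c hc x hx h1 => by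
    simpa [refl_apply] using sub_mem h1 (hA c hc x hx h1)
  have key2 : ∀ c ∈ W, ∀ s : F, s • u ∈ A → (polar Q c u ^ 2 * (Q c)⁻¹ * (Q u)⁻¹ * s) • u ∈ A :=
    fun c hc s hs => by
      have := key u hu _ (W.smul_mem _ hc) (key c hc _ (W.smul_mem s hu) hs)
      simp only [polar_smul_right', polar_comm Q u c] at this
      convert this using 2; ring
  by_cases h2 : (2 : F) = 0
  swap
  · obtain ⟨φ, h3, h4⟩ := h.exists_param h2 hu h0
    obtain ⟨x, y, h5⟩ := exists_sq_add_sq h2 h3 h3 (t * Q u)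
    obtain ⟨c, hc, h6⟩ := h4 x
    obtain ⟨d, hd, h7⟩ := h4 y
    have := add_mem (key2 c hc 1 (by simpa)) (key2 d hd 1 (by simpa))
    rwa [← add_smul, h6, h7, ← add_mul, ← add_mul, h5, mul_one, mul_inv_cancel_right₀ h0] at this
  let L : Subring F :=
    { carrier := {m | ∀ s : F, s • u ∈ A → (m * s) • u ∈ A}
      mul_mem' := fun ha hb s hs => by rw [mul_assoc]; exact ha _ (hb s hs)
      one_mem' := fun s hs => by rwa [one_mul]
      add_mem' := fun ha hb s hs => by rw [add_mul, add_smul]; exact add_mem (ha s hs) (hb s hs)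
      zero_mem' := fun s _ => by simp
      neg_mem' := fun ha s hs => by rw [neg_mul, neg_smul]; exact neg_mem (ha s hs) }
  suffices h : t ∈ L by simpa using h 1 (by simpa)
  have := Fintype.ofFinite F
  have hinv : ∀ x ∈ L, x⁻¹ ∈ L := fun x hx => by
    by_cases h0 : x = 0
    · simp [h0]
    have h1 := FiniteField.pow_card_sub_one_eq_one x h0
    obtain ⟨m, hm⟩ : ∃ m, Fintype.card F - 1 = m + 1 :=
      ⟨Fintype.card F - 2, by have := Fintype.one_lt_card (α := F); omega⟩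
    rw [hm, pow_succ] at h1
    exact eq_inv_of_mul_eq_one_left h1 ▸ pow_mem hx m
  obtain ⟨v₀, hv₀, h3⟩ : ∃ v ∈ W, polar Q u v ≠ 0 := by
    by_contra! hc
    exact h.not_le_perp hu (ne_zero_of_Q_ne_zero h0) fun v hv => mem_perp_singleton.2 (hc v hv)
  obtain ⟨v, hv, h3⟩ : ∃ v ∈ W, polar Q v u = 1 := ⟨_, W.smul_mem (polar Q u v₀)⁻¹ hv₀, by
    rw [polar_smul_left', polar_comm Q v₀, inv_mul_cancel₀ h3]⟩
  have h4 : ∀ y : F, polar Q ((y / Q u) • u + v) u = 1 := fun y => by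
    rw [polar_add_left, polar_smul_left', polar_self', h2, h3]; simp
  have h5 : ∀ y : F, Q ((y / Q u) • u + v) * Q u = y ^ 2 + y + Q v * Q u := fun y => by
    rw [Q_add, Q_smul, polar_smul_left', polar_comm, h3]; field_simp; ring
  have h6 : ∀ y : F, y ^ 2 + y + Q v * Q u ∈ L := fun y => by
    have : (y ^ 2 + y + Q v * Q u)⁻¹ ∈ L := fun s hs => by
      have := key2 _ (add_mem (W.smul_mem (y / Q u) hu) hv) s hs
      rwa [h4, one_pow, one_mul, ← mul_inv, h5] at this
    simpa using hinv _ this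
  have h7 : ∀ y : F, y ^ 2 + y ∈ L := fun y => by simpa using sub_mem (h6 y) (h6 0)
  by_cases h8 : ∃ a ∈ L, a ≠ 0 ∧ a ≠ 1
  · obtain ⟨a, ha, h8, h9⟩ := h8
    have := mul_mem (hinv _ (mul_mem ha (sub_mem (one_mem L) ha)))
      (sub_mem (h7 (a * t)) (mul_mem (pow_mem ha 2) (h7 t)))
    have h9 := sub_ne_zero.2 h9.symm
    convert this using 1
    field_simp; ring
  push Not at h8
  by_cases h9 : ∃ y : F, y ^ 2 + y + Q v * Q u = 0
  · classical
    obtain ⟨y, hy⟩ := h9
    have h10 := h.le _ (add_mem (W.smul_mem (y / Q u) hu) hv)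
      (fun h0 => by simpa [h0] using h4 y) (by simpa [h0, hy] using h5 y)
    have h11 := FiniteField.card_image_polynomial_eval (R := F)
      (p := Polynomial.X ^ 2 + Polynomial.X) (by rw [Polynomial.degree_add_eq_left_of_degree_lt] <;> simp)
    have h12 := card_le_card (show (univ.image fun x : F =>
        (Polynomial.X ^ 2 + Polynomial.X : Polynomial F).eval x) ⊆ {0, 1} from fun x hx => by
      obtain ⟨z, -, rfl⟩ := mem_image.1 hx
      simpa [or_iff_not_imp_left] using h8 _ (h7 z))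
    have h13 := card_le_two (a := (0 : F)) (b := 1)
    rw [show (Polynomial.X ^ 2 + Polynomial.X : Polynomial F).natDegree = 2 by compute_degree!] at h11
    simp at h10; omega
  · push Not at h9
    have h10 := (h8 _ (h6 t) (h9 t)).trans (h8 _ (h6 0) (h9 0)).symm
    rcases mul_eq_zero.1 (show t * (t + 1) = 0 by linear_combination h10) with h | h
    · simp [h]
    · rw [eq_neg_of_add_eq_zero_left h]; exact neg_mem (one_mem L)

/-- An additive subgroup meeting the plane non-trivially and invariant under its reflections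
contains the plane. -/
theorem mem_of_refl {A : AddSubgroup V} (hA : ∀ c ∈ W, ∀ x ∈ W, x ∈ A → (refl Q c).1 x ∈ A) {u : V}
    (hu : u ∈ W) (huA : u ∈ A) (h0 : u ≠ 0) {x : V} (hx : x ∈ W) : x ∈ A := by
  have key : ∀ u ∈ W, u ∈ A → u ≠ 0 → ∃ c ∈ W, c ∈ A ∧ Q c ≠ 0 ∧ c ∉ F ∙ u := fun u hu huA h0 => by
    obtain ⟨c, hc, h1, h2, h3⟩ := h.exists_third one_ne_zero hu h0
    rw [polar_comm] at h3
    exact ⟨polar Q c u • c, W.smul_mem _ hc, by
      simpa [refl_apply, h1] using sub_mem huA (hA c hc u hu huA), by simp [Q_smul, h1, h3],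
      by rwa [Submodule.smul_mem_iff _ h3]⟩
  obtain ⟨c, c1, c2, c3, -⟩ := key u hu huA h0
  obtain ⟨d, d1, d2, d3, d4⟩ := key c c1 c2 (ne_zero_of_Q_ne_zero c3)
  obtain ⟨s, t, rfl⟩ := Submodule.mem_span_pair.1
    (le_span_of_finrank_two h.dim c1 d1 (ne_zero_of_Q_ne_zero c3) d4 hx)
  exact add_mem (h.smul_mem hA c1 c2 c3 s) (h.smul_mem hA d1 d2 d3 t)

end Big

end Cfsg.Lib.OMax
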