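import Cfsg.Agent.Lib.OMax.Pair
import Cfsg.Agent.Lib.Unitary.MaxSubStd

/-!
# Rational structures on a quadratic space (subfield subgroups of `Ω`)
-/

set_option autoImplicit false

namespace Cfsg.Lib.OMax

open QuadraticMap Module Cfsg.Lib.Orth
open Cfsg.Lib.Unitary (ratStab finrank_span_singleton_le finrank_span_triple_le
  mem_ratStab_of_comm comm_of_mem_ratStab)

variable {F V : Type*} [Field F] [AddCommGroup V] [Module F V] {Q : QuadraticForm F V}

/-- A rational structure compatible with the quadratic form: the fixed points of `T`. -/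
structure RS (Q : QuadraticForm F V) (τ : F ≃+* F) (T : AddMonoid.End V) : Prop where
  smul : ∀ s v, T (s • v) = τ s • T v
  pow : T ^ orderOf τ = 1
  form : ∀ v, Q (T v) = τ (Q v)
  prime : (orderOf τ).Prime

namespace RS

variable {τ : F ≃+* F} {T : AddMonoid.End V} (R : RS Q τ T)
include R

theorem polar_eq (u v : V) : polar Q (T u) (T v) = τ (polar Q u v) := by
  simp only [polar, ← map_add T, R.form, map_sub]

theorem tau_Q {u : V} (hu : T u = u) : τ (Q u) = Q u := by rw [← R.form, hu]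

theorem tau_polar {u v : V} (hu : T u = u) (hv : T v = v) : τ (polar Q u v) = polar Q u v := by
  rw [← R.polar_eq, hu, hv]

theorem polar_right {u : V} (hu : T u = u) (v : V) : polar Q u (T v) = τ (polar Q u v) := by
  rw [← R.polar_eq, hu]

theorem fix_smul {a : F} {u : V} (ha : τ a = a) (hu : T u = u) : T (a • u) = a • u := by
  rw [R.smul, ha, hu]

theorem exists_apply_eq {W : Submodule F V} (hW : ∀ w ∈ W, T w ∈ W) {w : V} (hw : w ∈ W) :
    ∃ w' ∈ W, T w' = w := by
  have hW' : ∀ k, (T ^ k) w ∈ W := fun k => by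
    induction k with
    | zero => exact hw
    | succ k ih => rw [pow_succ']; exact hW _ ih
  obtain ⟨k, hk⟩ := Nat.exists_eq_succ_of_ne_zero R.prime.ne_zero
  refine ⟨_, hW' k, ?_⟩
  have := R.pow
  rw [hk, pow_succ'] at this
  exact DFunLike.congr_fun this w

theorem surj (v : V) : ∃ w, T w = v := by
  obtain ⟨w, -, h⟩ := R.exists_apply_eq (W := ⊤) (fun _ _ => trivial) (w := v) trivial
  exact ⟨w, h⟩

theorem inv_perp {W : Submodule F V} (hW : ∀ w ∈ W, T w ∈ W) : ∀ v ∈ perp Q W, T v ∈ perp Q W :=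
  fun v hv => mem_perp.2 fun w hw => by
    obtain ⟨w', hw', rfl⟩ := R.exists_apply_eq hW hw
    rw [R.polar_eq, mem_perp.mp hv w' hw', map_zero]

theorem inv_span' {s : Set V} (hs : ∀ x ∈ s, T x ∈ Submodule.span F s) :
    ∀ w ∈ Submodule.span F s, T w ∈ Submodule.span F s := fun w hw => by
  induction hw using Submodule.span_induction with
  | mem x hx => exact hs x hx
  | zero => simp
  | add x y _ _ hx hy => rw [map_add]; exact add_mem hx hy
  | smul a x _ hx => rw [R.smul]; exact Submodule.smul_mem _ _ hx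

theorem inv_span {s : Set V} (hs : ∀ x ∈ s, T x = x) :
    ∀ w ∈ Submodule.span F s, T w ∈ Submodule.span F s :=
  R.inv_span' fun x hx => by rw [hs x hx]; exact Submodule.subset_span hx

theorem eich_comm {e x : V} (he : T e = e) (hx : T x = x) (v : V) :
    T ((eich Q e x).1 v) = (eich Q e x).1 (T v) := by
  by_cases hc : Q e = 0 ∧ polar Q e x = 0
  · simp only [eich_apply hc.1 hc.2, map_add, map_sub, R.smul, he, hx, R.polar_right he,
      R.polar_right hx, map_mul, R.tau_Q hx]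
  · rw [eich_of_not hc]; rfl

theorem exists_theta : ∃ θ, τ θ ≠ θ := by
  by_contra! hne
  have h1 := R.prime
  rw [show τ = 1 from RingEquiv.ext hne, orderOf_one] at h1
  exact Nat.not_prime_one h1

variable [Finite F]

theorem exists_fixed_notMem {W Z : Submodule F V} (hW : ∀ w ∈ W, T w ∈ W) (hWZ : ¬ W ≤ Z) :
    ∃ u ∈ W, T u = u ∧ u ∉ Z := by
  obtain ⟨w, hw, hwZ⟩ := SetLike.not_le_iff_exists.mp hWZ
  obtain ⟨φ, h1, h2⟩ := Submodule.exists_dual_map_eq_bot_of_notMem hwZ inferInstance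
  obtain ⟨u, hu, hT, h3⟩ := Unitary.exists_fixed_apply_ne R.smul R.pow φ hW hw h1
  exact ⟨u, hu, hT, fun h => h3 ((Submodule.eq_bot_iff _).mp h2 _ ⟨u, h, rfl⟩)⟩

theorem iso {x y z : V} (hx : T x = x) (hy : T y = y) (hz : T z = z) : ∃ a b c, τ a = a ∧
    τ b = b ∧ τ c = c ∧ (a ≠ 0 ∨ b ≠ 0 ∨ c ≠ 0) ∧ Q (a • x + b • y + c • z) = 0 := by
  have hτ := fun a => (Unitary.mem_fixedPoints_zpowers τ (a := a))
  obtain ⟨v, hv0, hv⟩ := exists_singular (Matrix.toQuadraticForm'
    (!![⟨Q x, (hτ _).2 (R.tau_Q hx)⟩, ⟨polar Q x y, (hτ _).2 (R.tau_polar hx hy)⟩,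
        ⟨polar Q x z, (hτ _).2 (R.tau_polar hx hz)⟩;
      0, ⟨Q y, (hτ _).2 (R.tau_Q hy)⟩, ⟨polar Q y z, (hτ _).2 (R.tau_polar hy hz)⟩;
      0, 0, ⟨Q z, (hτ _).2 (R.tau_Q hz)⟩] : Matrix (Fin 3) (Fin 3)
        (FixedPoints.subfield (Subgroup.zpowers τ) F))) (by simp)
  have h4 : ∀ i, τ (v i) = v i := fun i => (hτ _).1 (v i).2
  refine ⟨v 0, v 1, v 2, h4 0, h4 1, h4 2, ?_, ?_⟩
  · by_contra! hcon
    exact hv0 (funext fun i => Subtype.ext (by fin_cases i <;> simp [hcon]))
  · have h5 := congrArg (Subtype.val) hv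
    simp [Matrix.toQuadraticForm', Matrix.toLinearMap₂'_apply, Fin.sum_univ_three] at h5
    simp only [Orth.Q_add, Q_smul, polar_add_left, polar_smul_left', polar_smul_right']
    linear_combination h5

variable [FiniteDimensional F V]

theorem exists_iso {W Z : Submodule F V} (hW : ∀ w ∈ W, T w ∈ W)
    (hd : finrank F Z + 3 ≤ finrank F W) : ∃ u ∈ W, T u = u ∧ Q u = 0 ∧ u ∉ Z := by
  have key : ∀ (Z : Submodule F V), finrank F Z < finrank F W → ∃ u ∈ W, T u = u ∧ u ∉ Z :=
    fun Z hZ => R.exists_fixed_notMem hW fun hle => (Submodule.finrank_mono hle).not_gt hZ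
  have hs : ∀ (Z : Submodule F V) (x : V), finrank F ↥(Z ⊔ F ∙ x) ≤ finrank F Z + 1 := fun Z x =>
    (Submodule.finrank_add_le_finrank_add_finrank _ _).trans
      (Nat.add_le_add_left (finrank_span_singleton_le x) _)
  obtain ⟨x, hx, hTx, hxZ⟩ := key Z (by omega)
  obtain ⟨y, hy, hTy, hyZ⟩ := key (Z ⊔ F ∙ x) (by have := hs Z x; omega)
  obtain ⟨z, hz, hTz, hzZ⟩ := key (Z ⊔ (F ∙ x) ⊔ F ∙ y)
    (by have := hs Z x; have := hs (Z ⊔ F ∙ x) y; omega)
  obtain ⟨a, b, c, ha, hb, hc, h0, h1⟩ := R.iso hTx hTy hTz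
  refine ⟨_, add_mem (add_mem (W.smul_mem _ hx) (W.smul_mem _ hy)) (W.smul_mem _ hz), by
    rw [map_add, map_add, R.fix_smul ha hTx, R.fix_smul hb hTy, R.fix_smul hc hTz], h1,
    fun hm => ?_⟩
  have mx : ∀ t : F, t • x ∈ F ∙ x := fun t =>
    Submodule.smul_mem _ _ (Submodule.mem_span_singleton_self x)
  have my : ∀ t : F, t • y ∈ F ∙ y := fun t =>
    Submodule.smul_mem _ _ (Submodule.mem_span_singleton_self y)
  have hc0 : c = 0 := by
    by_contra hc0
    refine hzZ ((Submodule.smul_mem_iff _ hc0).mp ?_)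
    rw [show c • z = (a • x + b • y + c • z) + (-a) • x + (-b) • y by module]
    exact Submodule.add_mem_sup (Submodule.add_mem_sup hm (mx _)) (my _)
  have hb0 : b = 0 := by
    by_contra hb0
    refine hyZ ((Submodule.smul_mem_iff _ hb0).mp ?_)
    rw [show b • y = (a • x + b • y + c • z) + (-a) • x by rw [hc0]; module]
    exact Submodule.add_mem_sup hm (mx _)
  refine hxZ ((Submodule.smul_mem_iff _ (by simpa [hb0, hc0] using h0)).mp ?_)
  simpa [hb0, hc0] using hm

variable (hQ : ND Q)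
include hQ

theorem exists_polar_ne {W : Submodule F V} (hW : ∀ w ∈ W, T w ∈ W) {x : V} (hx : x ∉ W) :
    ∃ y ∈ perp Q W, T y = y ∧ polar Q x y ≠ 0 := by
  obtain ⟨y, h1, h2, h3⟩ := R.exists_fixed_notMem (R.inv_perp hW) (Z := perp Q (F ∙ x))
    fun hle => hx (by
      rw [← perp_perp hQ W]
      exact le_perp_comm.1 hle (Submodule.mem_span_singleton_self x))
  exact ⟨y, h1, h2, by rwa [mem_perp_singleton] at h3⟩

theorem exists_polar_eq {W : Submodule F V} (hW : ∀ w ∈ W, T w ∈ W) {x : V} (hx : x ∉ W)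
    (hT : T x = x) {c : F} (hc : τ c = c) : ∃ y ∈ perp Q W, T y = y ∧ polar Q x y = c := by
  obtain ⟨y, h1, h2, h3⟩ := R.exists_polar_ne hQ hW hx
  exact ⟨(c / polar Q x y) • y, Submodule.smul_mem _ _ h1,
    R.fix_smul (by rw [map_div₀, hc, R.tau_polar hT h2]) h2, by
      rw [polar_smul_right']; field_simp⟩

theorem exists_isHyp {W : Submodule F V} (hW : ∀ w ∈ W, T w ∈ W) {e : V} (he : Q e = 0)
    (hT : T e = e) (h1 : e ∉ W) (h2 : e ∈ perp Q W) : ∃ f ∈ perp Q W, T f = f ∧ IsHyp Q e f := by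
  obtain ⟨y, h3, h4, h5⟩ := R.exists_polar_eq hQ hW h1 hT (map_one τ)
  exact ⟨_, sub_mem h3 (Submodule.smul_mem _ _ h2), by
    rw [map_sub, h4, R.fix_smul (R.tau_Q h4) hT], isHyp_of_polar_eq_one he h5⟩

theorem exists_partner {e : V} (he : Q e = 0) (hT : T e = e) (h0 : e ≠ 0) :
    ∃ f, T f = f ∧ IsHyp Q e f := by
  obtain ⟨f, -, h⟩ := R.exists_isHyp hQ (W := ⊥) (by simp) he hT (by simpa) (by simp)
  exact ⟨f, h⟩

omit hQ [FiniteDimensional F V] in
/-- A non-zero non-degenerate invariant subspace has rational vectors with any rational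
inner product. -/
theorem exists_pair {W : Submodule F V} (hW : ∀ w ∈ W, T w ∈ W) (hW' : ND (Q.restrict W))
    (h0 : W ≠ ⊥) {c : F} (hc : τ c = c) :
    ∃ z ∈ W, ∃ z' ∈ W, T z = z ∧ T z' = z' ∧ polar Q z z' = c := by
  obtain ⟨z, hz, h1, h2⟩ := R.exists_fixed_notMem hW (Z := ⊥) (by simpa)
  obtain ⟨y, hy, h3, h4⟩ := R.exists_fixed_notMem hW (Z := perp Q (F ∙ z)) fun hle =>
    h2 (nd_restrict_iff.1 hW' z hz fun y hy => mem_perp_singleton.1 (hle hy))
  rw [mem_perp_singleton] at h4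
  exact ⟨z, hz, (c / polar Q z y) • y, W.smul_mem _ hy, h1,
    R.fix_smul (by rw [map_div₀, hc, R.tau_polar h1 h3]) h3, by
      rw [polar_smul_right']; field_simp⟩

omit hQ [FiniteDimensional F V] in
theorem exists_nonsingular {W : Submodule F V} (hW : ∀ w ∈ W, T w ∈ W)
    (hW' : ND (Q.restrict W)) (h0 : W ≠ ⊥) : ∃ z ∈ W, T z = z ∧ Q z ≠ 0 := by
  obtain ⟨z, hz, z', hz', h1, h2, h3⟩ := R.exists_pair hW hW' h0 (map_one τ)
  by_contra! hc
  have := hc (z + z') (add_mem hz hz') (by rw [map_add, h1, h2])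
  rw [Orth.Q_add, hc z hz h1, hc z' hz' h2, h3] at this
  simp at this

omit hQ [Finite F] [FiniteDimensional F V] in
theorem inv_hperp {e f : V} (he : T e = e) (hf : T f = f) :
    ∀ w ∈ hperp Q e f, T w ∈ hperp Q e f :=
  R.inv_perp (R.inv_span (s := {e, f}) (by simp [he, hf]))

/-- Transitivity on rational singular points. -/
theorem exists_map (h3 : 3 ≤ finrank F V) {e e' : V} (he : Q e = 0) (he' : Q e' = 0)
    (hT : T e = e) (hT' : T e' = e') (h0 : e ≠ 0) (h0' : e' ≠ 0) :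
    ∃ p z, T p = p ∧ T z = z ∧ ∃ c, τ c = c ∧ c ≠ 0 ∧ (eich Q p z).1 e = c • e' := by
  obtain ⟨p, h1, h2, h4, h5⟩ : ∃ p, T p = p ∧ Q p = 0 ∧ polar Q p e ≠ 0 ∧ polar Q p e' ≠ 0 := by
    by_cases h : polar Q e e' = 0
    · obtain ⟨b, h1, h2, h4⟩ : ∃ b, T b = b ∧ polar Q e b ≠ 0 ∧ polar Q e' b ≠ 0 := by
        obtain ⟨a, -, a1, a2⟩ := R.exists_polar_ne hQ (W := ⊥) (by simp) (x := e) (by simpa)
        obtain ⟨b, -, b1, b2⟩ := R.exists_polar_ne hQ (W := ⊥) (by simp) (x := e') (by simpa)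
        by_cases h1 : polar Q e' a = 0; swap
        · exact ⟨a, a1, a2, h1⟩
        by_cases h2 : polar Q e b = 0; swap
        · exact ⟨b, b1, h2, b2⟩
        exact ⟨a + b, by rw [map_add, a1, b1], by simpa [polar_add_right, h2],
          by simpa [polar_add_right, h1]⟩
      refine ⟨b - (Q b / polar Q e b) • e, by
        rw [map_sub, h1, R.fix_smul (by rw [map_div₀, R.tau_Q h1, R.tau_polar hT h1]) hT], ?_,
        ?_, ?_⟩
      · rw [Q_sub, Q_smul, he, polar_smul_right', polar_comm Q b e]; field_simp; ring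
      · rwa [polar_sub_left, polar_smul_left', polar_self', he, mul_zero, mul_zero, sub_zero,
          polar_comm]
      · rwa [polar_sub_left, polar_smul_left', h, mul_zero, sub_zero, polar_comm]
    · have hh : IsHyp Q e ((polar Q e e')⁻¹ • e') :=
        ⟨he, by simp [Q_smul, he'], by simp [h]⟩
      have hf := R.fix_smul (a := (polar Q e e')⁻¹) (by rw [map_inv₀, R.tau_polar hT hT']) hT'
      obtain ⟨z, hz, h1, h2⟩ := R.exists_nonsingular (R.inv_hperp hT hf) (hh.nd_hperp hQ)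
        fun hb => by have := hh.finrank_hperp hQ; rw [hb, finrank_bot] at this; omega
      refine ⟨(eich Q ((polar Q e e')⁻¹ • e') z).1 e, by rw [R.eich_comm hf h1, hT],
        by rw [O.map_Q, he], ?_, ?_⟩
      · rw [hh.eich_right_left hz, polar_sub_left, polar_sub_left, polar_smul_left',
          hh.polar_left, hh.polar_eq', polar_comm Q z, (mem_hperp.1 hz).1]
        simpa using h2
      · have := (mem_hperp.1 hz).2
        rw [polar_smul_left', mul_eq_zero, inv_eq_zero, or_iff_right h, polar_comm] at this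
        rw [hh.eich_right_left hz, polar_sub_left, polar_sub_left, this]
        simpa [polar_self', he'] using h
  refine ⟨p, _, h1, ?_, _, ?_, div_ne_zero h4 h5, eich_map_explicit h2 he he' h4 h5⟩
  · rw [map_sub, R.fix_smul (by rw [map_inv₀, R.tau_polar h1 hT]) hT,
      R.fix_smul (by rw [map_inv₀, R.tau_polar h1 hT']) hT']
  · rw [map_div₀, R.tau_polar h1 hT, R.tau_polar h1 hT']

/-- Rational singular vectors span. -/
theorem exists_singular_polar_ne {W : Submodule F V} (hW : ∀ w ∈ W, T w ∈ W)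
    (hW' : ND (Q.restrict W)) (h3 : 3 ≤ finrank F W) {y : V} (hy : y ∉ perp Q W) :
    ∃ u ∈ W, T u = u ∧ Q u = 0 ∧ polar Q u y ≠ 0 := by
  obtain ⟨x, hx, h1, h2⟩ := R.exists_fixed_notMem hW (Z := perp Q (F ∙ y)) fun hle =>
    hy (le_perp_comm.1 hle (Submodule.mem_span_singleton_self y))
  rw [mem_perp_singleton, polar_comm] at h2
  obtain ⟨e, he, hT, he0, h0⟩ := R.exists_iso hW (Z := ⊥) (by simpa)
  obtain ⟨f, hf, hTf, hh⟩ := R.exists_isHyp hQ (R.inv_perp hW) he0 hT
    (fun hm => h0 ((nd_restrict_iff_disjoint.1 hW').le_bot ⟨he, hm⟩)) (le_perp_perp Q W he)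
  rw [perp_perp hQ] at hf
  by_contra! hc
  set w := x + (1 - polar Q f x) • e with hw
  have hfw : polar Q f w = 1 := by
    rw [hw, polar_add_right, polar_smul_right', hh.polar_eq']; ring
  have hTw : T w = w := by
    rw [hw, map_add, h1, R.fix_smul (by rw [map_sub, map_one, R.tau_polar hTf h1]) hT]
  have := hc (w - Q w • f) (sub_mem (add_mem hx (W.smul_mem _ he)) (W.smul_mem _ hf))
    (by rw [map_sub, hTw, R.fix_smul (R.tau_Q hTw) hTf]) (isHyp_of_polar_eq_one hh.right hfw).right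
  rw [polar_sub_left, polar_smul_left', hc f hf hTf hh.right, hw, polar_add_left,
    polar_smul_left', hc e he hT he0] at this
  exact h2 (by simpa using this)

theorem not_commutator_le (hn : 5 ≤ finrank F V) :
    ¬ commutator (O Q) ≤ (ratStab F T).subgroupOf (O Q) := fun hle => by
  obtain ⟨e, -, hT, he, h0⟩ := R.exists_iso (W := ⊤) (Z := ⊥) (by simp) (by simp; omega)
  have h1 := finrank_add_finrank_perp hQ (F ∙ e)
  have h2 := finrank_span_singleton_le (F := F) e
  obtain ⟨x, hx, hTx, h3⟩ := R.exists_fixed_notMem (R.inv_perp (R.inv_span (s := {e})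
    (by simpa))) (Z := F ∙ e) fun h => by have := Submodule.finrank_mono h; omega
  obtain ⟨w, hw, hTw, h4⟩ := R.exists_polar_eq hQ (R.inv_span (s := {e}) (by simpa)) h3 hTx
    (map_one τ)
  obtain ⟨θ, hθ⟩ := R.exists_theta
  rw [mem_perp_singleton] at hx hw
  have h5 : polar Q e (θ • x) = 0 := by simp [hx]
  have := comm_of_mem_ratStab (g := (eich Q e (θ • x)).1)
    (hle (eich_mem_commutator hQ (not_exc_of_five_le hn) e (θ • x))) h0 hT
    (eich_apply_self he h5) w
  rw [hTw, eich_apply_of_perp he h5 hw, map_add, hTw, R.smul, hT, polar_smul_left', h4, mul_one,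
    add_right_inj] at this
  exact hθ (smul_left_injective F h0 this)

end RS

end Cfsg.Lib.OMax
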