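import Cfsg.Agent.Lib.OMax.Plane2

/-!
# Irreducible reflection groups over prime fields containing an Eichler transformation
-/

set_option autoImplicit false

namespace Cfsg.Lib.OMax

open QuadraticMap Module Cfsg.Lib.Orth

variable {F V : Type*} [Field F] [AddCommGroup V] [Module F V] {Q : QuadraticForm F V}
  {K : Subgroup (O Q)}

/-- Prime fields of positive characteristic. -/
def PrimeF (F : Type*) [Field F] : Prop := ∀ x : F, ∃ n : ℕ, (n : F) = x

theorem primeF_of_card [Fintype F] (h : (Fintype.card F).Prime) : PrimeF F := fun x => by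
  have := Fact.mk h
  obtain ⟨y, rfl⟩ := (ZMod.ringEquivOfPrime F h rfl).surjective x
  exact ⟨y.val, by rw [← map_natCast (ZMod.ringEquivOfPrime F h rfl), ZMod.natCast_zmod_val]⟩

theorem PrimeF.smul_mem (h : PrimeF F) {S : AddSubgroup V} {w : V} (hw : w ∈ S) (c : F) :
    c • w ∈ S := by
  obtain ⟨n, rfl⟩ := h c
  rw [Nat.cast_smul_eq_nsmul]
  exact nsmul_mem hw n

theorem PrimeF.two_mul_sq_ne (h : PrimeF F) (h3 : (3 : F) = 0) (x : F) : 2 * x ^ 2 ≠ 1 := by
  obtain ⟨n, rfl⟩ := h x
  have : (n : F) ^ 3 = n := by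
    induction n with
    | zero => simp
    | succ n ih => push_cast; linear_combination ih + ((n : F) ^ 2 + n) * h3
  intro h1
  have h2 : (n : F) ≠ 0 := fun h2 => by simp [h2] at h1
  have h4 : (n : F) ^ 2 = 1 := mul_left_cancel₀ h2 (by linear_combination this)
  exact one_ne_zero (α := F) (by linear_combination h1 - 2 * h4)

theorem Full.refl_mul_refl_mem [Finite F] [FiniteDimensional F V] {M : Submodule F V}
    (h : Full K M) (hM : ND (Q.restrict M)) (h3 : 3 ≤ finrank F M) {u w : V} (hu : u ∈ M)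
    (hw : w ∈ M) (h0 : Q u ≠ 0) (huw : Q u = Q w) : refl Q u * refl Q w ∈ K := by
  have S := (isOSum_perp hM).symm
  have h1 : Full (K.comap S.extR) ⊤ := fun a _ b _ => by
    rw [Subgroup.mem_comap, S.extR_eich]; exact h a a.2 b b.2
  have := h1.commutator_le hM h3
    (refl_mul_refl_mem_commutator hM (v := ⟨u, hu⟩) (w := ⟨w, hw⟩) h0 huw)
  rwa [Subgroup.mem_comap, map_mul, S.extR_refl, S.extR_refl] at this

theorem refl_map_mem {g : O Q} (hg : g ∈ K) {w : V} (hw : refl Q w ∈ K) :
    refl Q (g.1 w) ∈ K := by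
  rw [← conj_refl]; exact mul_mem (mul_mem hg hw) (inv_mem hg)

theorem mem_AE_of_sub {a b : V} (ha : refl Q a ∈ K) (hb : refl Q b ∈ K) (h0 : Q a ≠ 0)
    (h : Q a = Q b) (hab : Q (a - b) = 0) : (Q a)⁻¹ • a ∈ AE K (a - b) :=
  RC.mem_AE ⟨h, mul_mem ha hb⟩ h0 hab

theorem mem_AE_smul {e w : V} (he : Q e = 0) {c : F} (hc : c ≠ 0) (h : w ∈ AE K (c • e)) :
    c • w ∈ AE K e := by
  have h1 : polar Q e w = 0 := by simpa [polar_smul_left', hc] using h.1
  exact ⟨by rw [polar_smul_right', h1, mul_zero], eich_smul_left he h1 c ▸ h.2⟩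

/-- An irreducible class of reflections of norm `δ` in `K`. -/
structure RG (K : Subgroup (O Q)) (δ : F) : Prop where
  nd : ND Q
  two : (2 : F) ≠ 0
  prime : PrimeF F
  ne : δ ≠ 0
  irr : ∀ M : Submodule F V, (∀ w, Q w = δ → refl Q w ∈ K → w ∈ M ∨ w ∈ perp Q M) → M = ⊥ ∨ M = ⊤

namespace RG

variable {δ : F} (R : RG K δ)
include R

/-- `AE` as a subspace. -/
def AS (e : V) : Submodule F V where
  toAddSubmonoid := (AE K e).toAddSubmonoid
  smul_mem' c _ hw := R.prime.smul_mem (S := AE K e) hw c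

theorem mem_AS {e w : V} : w ∈ R.AS e ↔ w ∈ AE K e := Iff.rfl

theorem mem_AE {e w z : V} (hw : Q w = δ) (hw' : refl Q w ∈ K) (hew : polar Q e w = 0)
    (hz : z ∈ AE K e) (hwz : polar Q w z ≠ 0) : w ∈ AE K e := by
  have h1 := sub_mem hz (apply_mem_AE hw' (refl_apply_of_perp (polar_comm Q e w ▸ hew)) hz)
  rw [refl_apply, sub_sub_cancel] at h1
  simpa [smul_smul, hw, R.ne, hwz, mul_assoc] using
    R.prime.smul_mem h1 ((polar Q w z)⁻¹ * δ)

theorem exists_polar_ne {e : V} (h0 : e ≠ 0) (he : Q e = 0) :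
    ∃ w, Q w = δ ∧ refl Q w ∈ K ∧ polar Q e w ≠ 0 := by
  by_contra! h
  have h1 : e ∈ perp Q (F ∙ e) := mem_perp_singleton.2 (by rw [polar_self', he, mul_zero])
  rcases R.irr (perp Q (F ∙ e)) fun w h1 h2 => Or.inl (mem_perp_singleton.2 (h w h1 h2)) with
    h2 | h2
  · exact h0 (by simpa [h2] using h1)
  · exact h0 (R.nd.eq_zero fun y => mem_perp_singleton.1 (h2.ge trivial))

theorem full {e w : V} (he : Q e = 0) (hw : Q w = δ) (hw' : refl Q w ∈ K)
    (hew : polar Q e w ≠ 0) : Full K (R.AS e ⊔ F ∙ w) := by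
  have h1 : ∀ x ∈ R.AS e ⊔ F ∙ w, (refl Q w).1 x ∈ R.AS e ⊔ F ∙ w := fun x hx => by
    rw [refl_apply]
    exact sub_mem hx (Submodule.mem_sup_right (Submodule.smul_mem _ _
      (Submodule.mem_span_singleton_self w)))
  have h2 : e ∈ R.AS e ⊔ F ∙ w :=
    Submodule.mem_sup_left (R.mem_AS.2 (by simpa using smul_self_mem_AE (K := K) he 1))
  have h3 : FullAt K (R.AS e ⊔ F ∙ w) e := fullAt_iff.2 fun z hz _ hez => by
    obtain ⟨a, ha, b, hb, rfl⟩ := Submodule.mem_sup.1 hz
    obtain ⟨c, rfl⟩ := Submodule.mem_span_singleton.1 hb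
    rw [polar_add_right, ha.1, zero_add, polar_smul_right', mul_eq_zero, or_iff_left hew] at hez
    simpa [hez] using ha.2
  refine full_of_pair h2 (h1 e h2) he (by simpa) ?_ h3 (h3.conj hw' (by rwa [refl_inv]))
  simpa [refl_apply, polar_sub_right, polar_self', he, polar_smul_right', hw, R.ne,
    polar_comm Q w e] using hew

theorem exists_short {e z : V} (h0 : e ≠ 0) (he : Q e = 0) (hz : z ∈ AE K e) (hz' : z ∉ F ∙ e) :
    ∃ e, e ≠ 0 ∧ Q e = 0 ∧ ∃ z ∈ AE K e, Q z ≠ 0 := by
  by_cases h : Q z = 0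
  swap
  · exact ⟨e, h0, he, z, hz, h⟩
  obtain ⟨w, hw, hw', hew⟩ := R.exists_polar_ne h0 he
  have h1 : z - (polar Q z w / polar Q e w) • e ∈ AE K e := sub_mem hz (smul_self_mem_AE he _)
  have h2 : Q (z - (polar Q z w / polar Q e w) • e) = 0 := by
    rw [Q_sub_smul_of_singular he hz.1, h]
  refine ⟨_, fun h3 => hz' ?_, h2, w, R.mem_AE hw hw' ?_ (z := e) ⟨?_, ?_⟩ ?_, hw ▸ R.ne⟩
  · rw [sub_eq_zero.1 h3]; exact Submodule.smul_mem _ _ (Submodule.mem_span_singleton_self e)
  · rw [polar_sub_left, polar_smul_left', div_mul_cancel₀ _ hew, sub_self]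
  · rw [polar_comm, h1.1]
  · rw [eich_swap he h1.1 h2]; exact (neg_mem h1).2
  · rwa [polar_comm]

omit R in
theorem good_of_polar_ne {X : Submodule F V} {e w z : V} (he : Q e = 0) (heX : e ∈ X)
    (hwX : w ∈ X) (hzX : z ∈ X) (hew : polar Q e w ≠ 0) (hez : polar Q e z = 0) (hz : Q z ≠ 0) :
    Good Q X e := by
  have h1 := isHyp_of_polar_eq_one he (y := (polar Q e w)⁻¹ • w)
    (by rw [polar_smul_right', inv_mul_cancel₀ hew])
  have h2 := sub_mem (X.smul_mem (polar Q e w)⁻¹ hwX) (X.smul_mem (Q ((polar Q e w)⁻¹ • w)) heX)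
  refine ⟨heX, _, h2, _, ?_, h1, h1.hproj_mem z, ?_⟩
  · exact sub_mem (sub_mem hzX (X.smul_mem _ heX)) (X.smul_mem _ h2)
  · rwa [hproj, hez, zero_smul, sub_zero, Q_sub_smul_of_singular he hez]

variable [Finite F] [FiniteDimensional F V]

omit R [Finite F] in
theorem Good.three_le {X : Submodule F V} {e : V} (h : Good Q X e) : 3 ≤ finrank F X := by
  obtain ⟨h1, f, h2, z, h3, h4, h5, h6⟩ := h
  have h7 : z ∉ Submodule.span F {e, f} := fun h7 =>
    h6 (by rw [nd_restrict_iff.1 h4.nd_span z h7 (mem_perp'.1 h5), map_zero])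
  have h8 : Submodule.span F {e, f} ⊔ F ∙ z ≤ X :=
    sup_le (Submodule.span_le.2 (by simp [Set.insert_subset_iff, h1, h2])) (by simpa)
  have := Submodule.finrank_mono h8
  rwa [finrank_sup_span_singleton' h7, h4.finrank_span] at this

/-- If `AE e` contains a hyperbolic plane then `K` contains `Ω`. -/
theorem commutator_le_of_hyp {e e' a : V} (h0 : e ≠ 0) (he : Q e = 0) (h1 : e' ∈ AE K e)
    (h2 : Q e' = 0) (h3 : a ∈ AE K e) (h4 : polar Q e' a ≠ 0) : commutator (O Q) ≤ K := by
  obtain ⟨w, hw, hw', hew⟩ := R.exists_polar_ne h0 he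
  have hE : e ∈ R.AS e := R.mem_AS.2 (by simpa using smul_self_mem_AE (K := K) he 1)
  have hwX : w ∈ R.AS e ⊔ F ∙ w := Submodule.mem_sup_right (Submodule.mem_span_singleton_self w)
  have h5 : Good Q (R.AS e ⊔ F ∙ w) e' := by
    have h5 : e ∈ R.AS e ⊔ F ∙ w := Submodule.mem_sup_left hE
    have h6 : e' ∈ R.AS e ⊔ F ∙ w := Submodule.mem_sup_left h1
    have h7 : a ∈ R.AS e ⊔ F ∙ w := Submodule.mem_sup_left h3
    have h8 := sub_mem hwX (Submodule.smul_mem _ (polar Q e' w / polar Q e' a) h7)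
    have h9 : polar Q e' (w - (polar Q e' w / polar Q e' a) • a) = 0 := by
      rw [polar_sub_right, polar_smul_right', div_mul_cancel₀ _ h4, sub_self]
    by_cases h : Q (w - (polar Q e' w / polar Q e' a) • a) = 0
    · refine good_of_polar_ne h2 h6 h7 (add_mem h5 h8) h4
        (by rw [polar_add_right, h9, polar_comm, h1.1, add_zero]) ?_
      rwa [Q_add, he, h, polar_sub_right, polar_smul_right', h3.1, mul_zero, sub_zero, add_zero,
        zero_add]
    · exact good_of_polar_ne h2 h6 h7 h8 h4 h9 h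
  obtain ⟨M, h6, hM⟩ := (R.full he hw hw' hew).exists_maxFull h5
  have h7 : ∀ v, Q v = δ → refl Q v ∈ K → polar Q e v ≠ 0 → v ∈ M := fun v hv hv' hev =>
    (R.full he hv hv' hev).le_of_hyp (Submodule.mem_sup_left h1) (Submodule.mem_sup_left h3) h4
      (h6 (Submodule.mem_sup_left h3)) (hM.max _ (h5.mono h6))
      (Submodule.mem_sup_right (Submodule.mem_span_singleton_self v))
  have h8 := R.irr M fun v hv hv' => by
    by_cases hev : polar Q e v = 0
    swap
    · exact Or.inl (h7 v hv hv' hev)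
    by_cases hvw : polar Q v w = 0
    swap
    · have := sub_mem (h6 hwX) (h7 ((refl Q v).1 w) (by simpa) (refl_map_mem hv' hw')
        (by rwa [refl_apply, polar_sub_right, polar_smul_right', hev, mul_zero, sub_zero]))
      rw [refl_apply, sub_sub_cancel] at this
      exact Or.inl ((M.smul_mem_iff (by simp [hv, R.ne, hvw])).1 this)
    refine or_iff_not_imp_right.2 fun h => ?_
    obtain ⟨x, hx, h9⟩ : ∃ x ∈ M, polar Q v x ≠ 0 := by simpa [mem_perp'] using h
    have h10 : polar Q e (x - (polar Q e x / polar Q e w) • w) = 0 := by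
      rw [polar_sub_right, polar_smul_right', div_mul_cancel₀ _ hew, sub_self]
    exact h6 (Submodule.mem_sup_left (R.mem_AE hv hv' hev ⟨h10, hM.full _
      (h6 (Submodule.mem_sup_left hE)) _ (sub_mem hx (M.smul_mem _ (h6 hwX)))⟩
      (by rwa [polar_sub_right, polar_smul_right', hvw, mul_zero, sub_zero])))
  rcases h8 with h8 | h8
  · exact absurd (by simpa [h8] using h6 (Submodule.mem_sup_left hE)) h0
  · exact (h8 ▸ hM.full).commutator_le R.nd ((Good.three_le h5).trans (Submodule.finrank_le _))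

theorem commutator_le_of_short (h3 : (3 : F) ≠ 0) {e z : V} (h0 : e ≠ 0) (he : Q e = 0)
    (hz : z ∈ AE K e) (hz' : Q z ≠ 0) : commutator (O Q) ≤ K := by
  by_contra hc
  have hG : ∀ e e' a, e ≠ 0 → Q e = 0 → e' ∈ AE K e → Q e' = 0 → a ∈ AE K e →
      polar Q e' a = 0 := fun e e' a h0 he h1 h2 h3 =>
    by_contra fun h4 => hc (R.commutator_le_of_hyp h0 he h1 h2 h3 h4)
  obtain ⟨w, hw, hw', hew⟩ := R.exists_polar_ne h0 he
  have hE : e ∈ R.AS e := R.mem_AS.2 (by simpa using smul_self_mem_AE (K := K) he 1)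
  have hwX : w ∈ R.AS e ⊔ F ∙ w := Submodule.mem_sup_right (Submodule.mem_span_singleton_self w)
  have h5 := good_of_polar_ne he (Submodule.mem_sup_left hE) hwX (Submodule.mem_sup_left hz) hew
    hz.1 hz'
  obtain ⟨M, h6, hM⟩ := (R.full he hw hw' hew).exists_maxFull h5
  have heM := h6 (Submodule.mem_sup_left hE)
  have hzM : z ∈ M := h6 (Submodule.mem_sup_left hz)
  have hd := Good.three_le (h5.mono h6)
  have hN : ND (Q.restrict M) := nd_restrict_iff.2 fun r hr h => by_contra fun h7 => hew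
    (hG r e w h7 (by simpa [polar_self', R.two] using h r hr) ⟨h e heM, hM.full r hr e heM⟩ he
      ⟨h w (h6 hwX), hM.full r hr w (h6 hwX)⟩)
  have hR : ∀ u ∈ M, Q u = δ → refl Q u ∈ K := fun u hu h => by
    simpa [mul_assoc, refl_mul_self] using mul_mem (hM.full.refl_mul_refl_mem hN hd hu (h6 hwX)
      (h ▸ R.ne) (h.trans hw.symm)) hw'
  have S := isOSum_perp hN
  obtain ⟨t, ht0, ht⟩ : ∃ t : F, t ≠ 0 ∧ t ^ 2 ≠ 1 :=
    ⟨2, R.two, fun h => h3 (by linear_combination h)⟩
  -- a reflection vector outside `M` and `M^⊥` is not orthogonal to singular vectors of `M`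
  have key : ∀ x ∈ M, ∀ y ∈ perp Q M, Q (x + y) = δ → refl Q (x + y) ∈ K → x ≠ 0 → y ≠ 0 →
      ∀ s ∈ M, s ≠ 0 → Q s = 0 → polar Q s x ≠ 0 := fun x hx y hy h1 h2 hx0 hy0 s hs hs0 hs1 h4 => by
    have h7 : x + y ∉ M := fun h7 => hy0 (nd_restrict_iff.1 hN y
      (by simpa using sub_mem h7 hx) (mem_perp'.1 hy))
    have hA := hM.max s (good_of_nd hN hd hs hs1 hs0)
    obtain ⟨-, f, hf, -, -, hsf, -⟩ := good_of_nd hN hd hs hs1 hs0
    have h8 : x = polar Q f x • s := sub_eq_zero.1 (nd_restrict_iff.1 hN _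
      (sub_mem hx (M.smul_mem _ hs)) fun m hm => by
        have h9 : polar Q s (m - polar Q s m • f) = 0 := by
          simp [polar_sub_right, polar_smul_right', hsf.polar_eq]
        have h10 := sub_mem hm (M.smul_mem (polar Q s m) hf)
        have h11 := mt (R.mem_AE h1 h2 (by rw [polar_add_right, h4, S.orth s hs y hy, add_zero])
          ⟨h9, hM.full s hs _ h10⟩) fun h => h7 (hA _ h)
        rw [not_not, polar_add_left, polar_comm Q y, S.orth _ h10 y hy, add_zero, polar_sub_right,
          polar_smul_right'] at h11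
        rw [polar_sub_left, polar_smul_left', polar_comm Q f]
        linear_combination h11)
    have h9 : polar Q f x ≠ 0 := fun h => hx0 (by rw [h8, h, zero_smul])
    have h10 : hrot Q s f (t ^ 2) ∈ K := by
      have := hM.full.refl_mul_refl_mem hN hd (add_mem (M.smul_mem t hs) (M.smul_mem t⁻¹ hf))
        (add_mem (M.smul_mem 1 hs) (M.smul_mem 1 hf)) (by simp only [hsf.Q_comb]; simp [ht0])
        (by simp only [hsf.Q_comb]; simp [ht0])
      rw [hsf.refl_mul_refl ht0 (inv_ne_zero ht0) one_ne_zero one_ne_zero] at this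
      convert this using 2
      field_simp
    have h11 : x + y - (hrot Q s f (t ^ 2)).1 (x + y) = ((1 - t ^ 2) * polar Q f x) • s := by
      rw [map_add, hrot_of_hperp (mem_hperp.2 ⟨S.orth s hs y hy, S.orth f hf y hy⟩),
        add_sub_add_right_eq_sub]
      conv_lhs => rw [h8, map_smul, hsf.hrot_left (pow_ne_zero 2 ht0), smul_smul, ← sub_smul]
      congr 1; ring
    have h12 := mem_AE_of_sub h2 (refl_map_mem h10 h2) (h1 ▸ R.ne) (O.map_Q _ _).symm
      (by rw [h11, Q_smul, hs1, mul_zero])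
    rw [h11] at h12
    have h13 : (1 - t ^ 2) * polar Q f x ≠ 0 := mul_ne_zero (sub_ne_zero.2 ht.symm) h9
    exact h7 ((M.smul_mem_iff (inv_ne_zero (h1 ▸ R.ne))).1
      ((M.smul_mem_iff h13).1 (hA _ (mem_AE_smul hs1 h13 h12))))
  have h8 := R.irr M fun v hv hv' => by
    obtain ⟨x, hx, y, hy, rfl⟩ := S.exists_add v
    by_contra! hxy
    have hx0 : x ≠ 0 := fun h => hxy.2 (by simpa [h])
    have hy0 : y ≠ 0 := fun h => hxy.1 (by simpa [h])
    have hβ := key x hx y hy hv hv' hx0 hy0
    have hQ := S.Q_add hx hy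
    rw [hv] at hQ
    by_cases hy1 : Q y = 0
    · have h1 : Q x = δ := by rw [hQ, hy1, add_zero]
      have h2 := mem_AE_of_sub (hR x hx h1) hv' (h1 ▸ R.ne) (h1.trans hv.symm) (by simpa)
      rw [sub_add_cancel_left, ← neg_one_smul F y] at h2
      have h4 := R.prime.smul_mem (mem_AE_smul hy1 (by simp) h2) (-Q x)
      rw [smul_smul, smul_smul, show -Q x * -1 * (Q x)⁻¹ = 1 by simp [h1, R.ne], one_smul] at h4
      have h7 : ∀ c : F, (eich Q e (c • z)).1 x ∈ AE K y := fun c =>
        apply_mem_AE (hM.full e heM _ (M.smul_mem c hzM)) (eich_apply_of_perp'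
          (S.orth e heM y hy) (S.orth _ (M.smul_mem c hzM) y hy)) h4
      have h9 : ∀ c : F, polar Q e (c • z) = 0 := fun c => by rw [polar_smul_right', hz.1, mul_zero]
      have h10 := sub_mem (add_mem h4 h4) (add_mem (h7 1) (h7 (-1)))
      rw [eich_apply he (h9 _), eich_apply he (h9 _), show ∀ a b : V, a = b → (a ∈ AE K y) =
        (b ∈ AE K y) from fun _ _ h => h ▸ rfl] at h10
      · refine hβ e heM h0 he ?_
        simpa [polar_smul_left', R.two, hz', hβ e heM h0 he] using
          hG y ((2 * Q z * polar Q e x) • e) x hy0 hy1 h10 (by rw [Q_smul, he, mul_zero]) h4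
      · simp only [polar_smul_left', Q_smul]
        module
    set v := e - (polar Q e x / δ) • x with hv1
    have hvM : v ∈ M := sub_mem heM (M.smul_mem _ hx)
    have hv2 : Q v ≠ 0 := by
      rw [hv1, Q_sub, Q_smul, polar_smul_right', he, show Q x = δ - Q y by rw [hQ]; ring]
      have := R.ne
      convert neg_ne_zero.2 (mul_ne_zero (pow_ne_zero 2 (div_ne_zero (hβ e heM h0 he) this)) hy1)
        using 1
      field_simp
      ring
    have hP := nd_inf_perp R.two hN hvM hv2
    obtain ⟨u, hu, hu1, hu2, hu3⟩ : ∃ u ∈ M ⊓ perp Q (F ∙ v), Q u = δ ∧ u ∉ perp Q (F ∙ x) ∧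
        u ∉ F ∙ x := by
      have a1 := finrank_le_inf_perp R.nd M (F ∙ v)
      have a2 := finrank_le_inf_perp R.nd (M ⊓ perp Q (F ∙ v)) (F ∙ x)
      have a3 := Unitary.finrank_span_singleton_le (F := F) v
      have a4 := Unitary.finrank_span_singleton_le (F := F) x
      have a5 : finrank F ↥(M ⊓ perp Q (F ∙ x)) ≤ 2 := by
        by_contra! h
        obtain ⟨s, hs, h1, h2⟩ := exists_singular_mem Q _ h
        exact hβ s hs.1 h1 h2 (polar_comm Q s x ▸ mem_perp_singleton.1 hs.2)
      have a6 := finrank_le_inf_perp R.nd M (F ∙ x)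
      by_cases hs : ∃ s ∈ M ⊓ perp Q (F ∙ v), s ≠ 0 ∧ Q s = 0
      · obtain ⟨s, hs, hs0, hs1⟩ := hs
        obtain ⟨f, hf, hsf⟩ : ∃ f ∈ M ⊓ perp Q (F ∙ v), IsHyp Q s f := by
          obtain ⟨m, hm, h1⟩ : ∃ m ∈ M ⊓ perp Q (F ∙ v), polar Q s m ≠ 0 := by
            by_contra! h; exact hs0 (nd_restrict_iff.1 hP s hs h)
          exact ⟨_, sub_mem (Submodule.smul_mem _ _ hm) (Submodule.smul_mem _ _ hs),
            isHyp_of_polar_eq_one hs1 (y := (polar Q s m)⁻¹ • m)
              (by rw [polar_smul_right', inv_mul_cancel₀ h1])⟩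
        have b1 := hβ s hs.1 hs0 hs1
        have b2 := hβ f hf.1 hsf.symm.ne_zero hsf.right
        have hδ := R.ne
        obtain ⟨r, hr, b3, b4⟩ : ∃ r : F, r ≠ 0 ∧ r ^ 2 * polar Q s x + δ * polar Q f x ≠ 0 ∧
            (δ = 2 * Q x → Q x = polar Q s x * polar Q f x →
              r ^ 2 * polar Q s x ≠ δ * polar Q f x) := by
          by_cases h : δ = 2 * Q x ∧ Q x = polar Q s x * polar Q f x
          · refine ⟨_, b2, fun h1 => h3 ?_, fun _ _ h1 => ?_⟩
            · have : 3 * (polar Q s x * polar Q f x ^ 2) = 0 := by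
                rw [h.1, h.2] at h1; linear_combination h1
              simpa [b1, b2] using this
            · rw [h.1, h.2] at h1
              exact mul_ne_zero b1 (pow_ne_zero 2 b2) (by linear_combination -h1)
          · by_cases h1 : polar Q s x + δ * polar Q f x = 0
            · refine ⟨t, ht0, fun h2 => ?_, fun h2 h4 => (h ⟨h2, h4⟩).elim⟩
              exact mul_ne_zero (sub_ne_zero.2 ht) b1 (by linear_combination h2 - h1)
            · exact ⟨1, one_ne_zero, by simpa, fun h2 h4 => (h ⟨h2, h4⟩).elim⟩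
        have b5 := add_mem (Submodule.smul_mem _ r hs) (Submodule.smul_mem _ (δ / r) hf)
        refine ⟨_, b5, by rw [hsf.Q_comb]; field_simp, fun h => b3 ?_, fun h => ?_⟩
        · have := mem_perp_singleton.1 h
          rw [polar_add_right, polar_smul_right', polar_smul_right', polar_comm Q x,
            polar_comm Q x] at this
          field_simp at this
          linear_combination this
        · obtain ⟨c, hc⟩ := Submodule.mem_span_singleton.1 h
          have c1 := congrArg (polar Q s) hc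
          have c2 := congrArg (polar Q f) hc
          have c3 := congrArg Q hc
          have c4 := mem_perp_singleton.1 b5.2
          rw [← hc, hv1] at c4
          simp only [polar_add_right, polar_smul_right', hsf.polar_left, hsf.polar_right,
            hsf.polar_eq, hsf.polar_eq', hsf.Q_comb, Q_smul, polar_sub_left, polar_smul_left',
            polar_self'] at c1 c2 c3 c4
          have c0 : c ≠ 0 := by rintro rfl; exact hr (by simpa using c2.symm)
          have c5 := hβ e heM h0 he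
          field_simp at c1 c3 c4
          refine b4 (mul_left_cancel₀ (mul_ne_zero c0 c5) (by linear_combination c4))
            (mul_left_cancel₀ (pow_ne_zero 2 c0) ?_) ?_
          · linear_combination c3 - c1 - c * polar Q s x * c2
          · linear_combination (-(r * polar Q s x)) * c2 + polar Q f x * c1
      · have hB : Big Q (M ⊓ perp Q (F ∙ v)) := ⟨hP, by
          have : M ⊓ perp Q (F ∙ v) < M := inf_lt_left.2 fun h => hv2 (by
            simpa [polar_self', R.two] using mem_perp_singleton.1 (h hvM))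
          have := Submodule.finrank_lt_finrank_of_lt this
          omega, fun h => h3 (by
            have := Fintype.ofFinite F
            simpa [← Nat.card_eq_fintype_card, h] using FiniteField.cast_card_eq_zero F),
          fun s h1 h2 h4 => (hs ⟨s, h1, h2, h4⟩).elim⟩
        refine hB.exists_notMem R.ne (fun h => hs ⟨e, ?_, h0, he⟩) (hB.not_le_span x)
        have b1 : M ⊓ perp Q (F ∙ e) < M := inf_lt_left.2 fun h => hew
          (mem_perp_singleton.1 (h (h6 hwX)))
        have b2 := Submodule.finrank_lt_finrank_of_lt b1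
        refine (Submodule.eq_of_le_of_finrank_le (S₁ := M ⊓ perp Q (F ∙ v))
          (S₂ := M ⊓ perp Q (F ∙ e)) (fun m hm => ⟨hm.1, ?_⟩) (by omega)).ge ⟨heM, mem_perp_singleton.2 (by rw [polar_self', he, mul_zero])⟩
        have b3 := mem_perp_singleton.1 hm.2
        rw [hv1, polar_sub_left, polar_smul_left', mem_perp_singleton.1 (h hm)] at b3
        exact mem_perp_singleton.2 (by linear_combination b3)
    have h1 : (refl Q (x + y)).1 u = (u - (polar Q x u / δ) • x) + (-(polar Q x u / δ)) • y := by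
      rw [refl_apply, hv, polar_add_left, polar_comm Q y, S.orth u hu.1 y hy]
      match_scalars <;> field_simp <;> ring
    have h2 : polar Q x u / δ ≠ 0 := div_ne_zero (mt mem_perp_singleton.2 hu2) R.ne
    refine key _ (sub_mem hu.1 (M.smul_mem _ hx)) _ (Submodule.smul_mem _ _ hy)
      (by rw [← h1, O.map_Q, hu1]) (h1 ▸ refl_map_mem hv' (hR u hu.1 hu1)) (fun h => hu3 ?_)
      (smul_ne_zero (neg_ne_zero.2 h2) hy0) e heM h0 he ?_
    · rw [sub_eq_zero.1 h]; exact Submodule.smul_mem _ _ (Submodule.mem_span_singleton_self x)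
    · have := mem_perp_singleton.1 hu.2
      rw [hv1, polar_sub_left, polar_smul_left'] at this
      rw [polar_sub_right, polar_smul_right']
      linear_combination this
  rcases h8 with h8 | h8
  · exact h0 (by simpa [h8] using heM)
  · exact hc ((h8 ▸ hM.full).commutator_le R.nd (hd.trans (Submodule.finrank_le _)))

theorem commutator_le_of_eich (h3 : (3 : F) ≠ 0) {e z : V} (h0 : e ≠ 0) (he : Q e = 0)
    (hz : z ∈ AE K e) (hz' : z ∉ F ∙ e) : commutator (O Q) ≤ K := by
  obtain ⟨e, h0, he, z, hz, hz'⟩ := R.exists_short h0 he hz hz'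
  exact R.commutator_le_of_short h3 h0 he hz hz'

end RG

end Cfsg.Lib.OMax
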