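import Cfsg.Agent.Lib.OMax.Core
import Cfsg.Agent.Lib.Unitary.MaxPair

/-!
# Maximality in `Ω` of subspace stabilisers
-/

set_option autoImplicit false

namespace Cfsg.Lib.OMax

open QuadraticMap Module Cfsg.Lib.Orth
open Cfsg.Lib.Unitary (exists_notMem_of_lt finrank_span_singleton_le finrank_span_triple_le)

variable {F V : Type*} [Field F] [AddCommGroup V] [Module F V] {Q : QuadraticForm F V}
  {K : Subgroup (O Q)}

theorem finrank_le_inf_perp [FiniteDimensional F V] (hQ : ND Q) (W Z : Submodule F V) :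
    finrank F W ≤ finrank F ↥(W ⊓ perp Q Z) + finrank F Z := by
  have h1 := Submodule.finrank_sup_add_finrank_inf_eq W (perp Q Z)
  have h2 := finrank_add_finrank_perp hQ Z
  have h3 := Submodule.finrank_le (W ⊔ perp Q Z)
  omega

theorem eich_apply_of_perp' {u z x : V} (h1 : polar Q u x = 0) (h2 : polar Q z x = 0) :
    (eich Q u z).1 x = x := by
  by_cases hc : Q u = 0 ∧ polar Q u z = 0
  · rw [eich_apply_of_perp hc.1 hc.2 h1, h2]; simp
  · rw [eich_of_not hc]; rfl

theorem eich_mem_stab_of_mem [FiniteDimensional F V] {X : Submodule F V} {u z : V} (hu : u ∈ X)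
    (hz : z ∈ X) : eich Q u z ∈ stab Q X :=
  mem_stab_iff_mapsTo.2 fun _ hx => eich_apply_mem hu hz hx

theorem eich_mem_stab_of_perp {X : Submodule F V} {u z : V} (hu : u ∈ perp Q X)
    (hz : z ∈ perp Q X) : eich Q u z ∈ stab Q X :=
  fixer_le_stab X fun x hx => eich_apply_of_perp' (mem_perp'.1 hu x hx) (mem_perp'.1 hz x hx)

theorem mem_or_mem_perp {X : Submodule F V} {b : V} (hb : Q b ≠ 0) (h : refl Q b ∈ stab Q X) :
    b ∈ X ∨ b ∈ perp Q X := by
  refine or_iff_not_imp_right.2 fun hn => ?_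
  obtain ⟨x, hx, h1⟩ : ∃ x ∈ X, polar Q b x ≠ 0 := by simpa [mem_perp'] using hn
  have := sub_mem hx (apply_mem_of_mem_stab h hx)
  rw [refl_apply, sub_sub_cancel] at this
  exact (X.smul_mem_iff (mul_ne_zero (inv_ne_zero hb) h1)).1 this

variable [Finite F] [FiniteDimensional F V]

/-- Parabolic subgroups. -/
theorem max_singular (hQ : ND Q) (h5 : 5 ≤ finrank F V) {W : Submodule F V} (hW : TS Q W)
    (h0 : W ≠ ⊥) (hd : ∀ u ∈ perp Q W, Q u = 0 → u ∉ W → 2 * (finrank F W + 1) ≠ finrank F V)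
    (hH : stab Q W ⊓ commutator (O Q) ≤ K) : K ≤ stab Q W ∨ commutator (O Q) ≤ K := by
  have hE := not_exc_of_five_le (Q := Q) h5
  refine or_iff_not_imp_left.2 fun hn => ?_
  obtain ⟨g, hg, e, he, hu⟩ : ∃ g ∈ K, ∃ e ∈ W, g.1 e ∉ W := by
    by_contra! hc
    exact hn fun g hg => mem_stab_iff_mapsTo.2 (hc g hg)
  have A : ∀ e ∈ W, FullAt K ⊤ e := fun e he z _ =>
    hH ⟨eich_mem_stab hW he z, eich_mem_commutator hQ hE e z⟩
  have B := (A e he).conj hg fun _ _ => trivial
  have hu0 : Q (g.1 e) = 0 := by rw [O.map_Q, hW e he]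
  by_cases h1 : g.1 e ∈ perp Q W; swap
  · obtain ⟨x, hx, h1⟩ : ∃ x ∈ W, polar Q x (g.1 e) ≠ 0 := by simpa [mem_perp] using h1
    exact commutator_le_of_pair hQ (by omega) (hW x hx) hu0 h1 (A x hx) B
  obtain ⟨f, hf, hh⟩ := exists_isHyp_perp hQ hu0 hu h1
  have h2 := (hW.sup_span h1 hu0).two_mul_finrank_le hQ
  have h3 := finrank_sup_span_singleton' hu
  have h4 := hd _ h1 hu0 hu
  obtain ⟨v, hv, hv0⟩ := TS.exists_nonsingular_perp hQ (U := W ⊔ F ∙ g.1 e) (by omega)
  rw [perp_sup] at hv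
  have h5 := mem_perp_singleton.1 hv.2
  set z := v - polar Q f v • g.1 e with hz
  have hz1 : z ∈ hperp Q (g.1 e) f := mem_hperp.2 ⟨by
    rw [hz, polar_sub_right, polar_smul_right', hh.polar_left, h5]; simp, by
    rw [hz, polar_sub_right, polar_smul_right', hh.polar_eq']; simp⟩
  have hz2 : Q z ≠ 0 := by rwa [hz, Q_sub_smul_of_singular hu0 h5]
  have hx : eich Q f z ∈ K := hH ⟨eich_mem_stab_of_perp hf
    (sub_mem hv.1 (Submodule.smul_mem _ _ h1)), eich_mem_commutator hQ hE _ _⟩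
  refine commutator_le_of_pair hQ (by omega) hu0 (by rw [O.map_Q, hu0]) ?_ B
    (B.conj hx fun _ _ => trivial)
  rw [hh.eich_right_left hz1, polar_sub_right, polar_sub_right, polar_smul_right', hh.polar_left,
    hh.polar_eq, (mem_hperp.1 hz1).1]
  simpa using hz2

/-- Stabiliser of a non-singular point in characteristic two. -/
theorem max_point (hQ : ND Q) (h6 : 6 ≤ finrank F V) (h2 : (2 : F) = 0) {v : V} (hv : Q v ≠ 0)
    (hH : stab Q (F ∙ v) ⊓ commutator (O Q) ≤ K) :
    K ≤ stab Q (F ∙ v) ∨ commutator (O Q) ≤ K := by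
  have hE := not_exc_of_five_le (Q := Q) (by omega)
  refine or_iff_not_imp_left.2 fun hn => ?_
  obtain ⟨g, hg, hu⟩ : ∃ g ∈ K, g.1 v ∉ F ∙ v := by
    by_contra! hc
    refine hn fun g hg => mem_stab_iff_mapsTo.2 fun w hw => ?_
    obtain ⟨c, rfl⟩ := Submodule.mem_span_singleton.1 hw
    rw [map_smul]; exact Submodule.smul_mem _ _ (hc g hg)
  have hu' : v ∉ F ∙ g.1 v := fun hm => by
    obtain ⟨c, hc⟩ := Submodule.mem_span_singleton.1 hm
    have h0 : c ≠ 0 := by rintro rfl; rw [← hc] at hv; simp at hv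
    exact hu ((Submodule.smul_mem_iff _ h0).1 (hc.symm.subst (motive := (· ∈ F ∙ v))
      (Submodule.mem_span_singleton_self v)))
  obtain ⟨a, ha, ha1⟩ := exists_perp_polar_eq hQ hu' 1
  have A : Full K (perp Q (F ∙ v)) := fun u hu z hz =>
    hH ⟨eich_mem_stab_of_perp hu hz, eich_mem_commutator hQ hE _ _⟩
  have h3 := finrank_add_finrank_perp hQ (Submodule.span F {v, g.1 v, a})
  have h4 := finrank_span_triple_le (F := F) v (g.1 v) a
  obtain ⟨e, he, he0, he1⟩ := exists_singular_mem Q (perp Q (Submodule.span F {v, g.1 v, a}))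
    (by omega)
  rw [mem_perp_span] at he
  have hev : e ∈ perp Q (F ∙ v) := mem_perp_singleton.2 (he v (by simp))
  obtain ⟨f, hf, hh⟩ := exists_isHyp_perp hQ he1 (W := F ∙ v) (fun hm => by
    obtain ⟨c, rfl⟩ := Submodule.mem_span_singleton.1 hm
    rw [Q_smul] at he1
    exact he0 (by simpa [hv] using Or.inl (by simpa [hv] using he1))) hev
  have hG : Good Q (perp Q (F ∙ v)) e := ⟨hev, f, hf, v,
    mem_perp_singleton.2 (by simp [polar_self', h2]), hh, mem_hperp.2
      ⟨by rw [polar_comm]; exact mem_perp_singleton.1 hev,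
        by rw [polar_comm]; exact mem_perp_singleton.1 hf⟩, hv⟩
  obtain ⟨M, hM, hmax⟩ := A.exists_maxFull hG
  obtain ⟨y, hy, hy1⟩ := exists_perp_polar_eq hQ (W := Submodule.span F {g.1 v, e}) (u := v)
    (fun hm => by
      obtain ⟨s, t, hst⟩ := Submodule.mem_span_pair.1 hm
      rw [← hst, polar_add_left, polar_smul_left', polar_smul_left', mem_perp_singleton.1 ha,
        polar_comm Q e a, he a (by simp)] at ha1
      simp at ha1) 1
  rw [mem_perp_pair] at hy
  have B := A.map hg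
  rw [O.map_perp, Submodule.map_span, Set.image_singleton] at B
  have hyM := hmax.mem_of_full B (hG.mono hM) (mem_perp_singleton.2 (he _ (by simp)))
    (mem_perp_singleton.2 hy.1) hy.2
  refine (hmax.full.mono fun w _ => ?_).commutator_le hQ (by omega)
  have := hM (show w - polar Q v w • y ∈ perp Q (F ∙ v) from mem_perp_singleton.2 (by
    rw [polar_sub_right, polar_smul_right', hy1]; ring))
  simpa using add_mem this (M.smul_mem (polar Q v w) hyM)

omit [Finite F] [FiniteDimensional F V] in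
theorem nd_inf_hperp {U : Submodule F V} (hU : ND (Q.restrict U)) {e f : V} (he : e ∈ U)
    (hf : f ∈ U) (h : IsHyp Q e f) : ND (Q.restrict (U ⊓ hperp Q e f)) :=
  nd_restrict_iff.2 fun x hx hx' => nd_restrict_iff.1 hU x hx.1 fun y hy => by
    have h1 := hx' (hproj Q e f y) ⟨sub_mem (sub_mem hy (U.smul_mem _ he)) (U.smul_mem _ hf),
      h.hproj_mem y⟩
    have h2 := mem_hperp.1 hx.2
    rw [← hproj_add_eq (Q := Q) e f y, polar_add_right, polar_add_right, h1, polar_smul_right',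
      polar_smul_right', polar_comm Q x e, polar_comm Q x f, h2.1, h2.2]
    simp

/-- An element fixing a singular vector of a large non-degenerate subspace of `M`
stabilises `M`. -/
theorem MaxFull.mem_stab_of_fix (hQ : ND Q) {M U : Submodule F V} (h : MaxFull K M)
    (hU : ND (Q.restrict U)) (h5 : 5 ≤ finrank F U) (hM : U ≤ M) {x : O Q} (hx : x ∈ K) {e : V}
    (heU : e ∈ U) (he : Q e = 0) (h0 : e ≠ 0) (hxe : x.1 e = e) : x ∈ stab Q M := by
  have hG := good_of_nd hU (by omega) heU he h0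
  obtain ⟨-, f, hf, -, -, hh, -⟩ := id hG
  have h1 := finrank_le_inf_perp hQ U (Submodule.span F {e, f})
  have h2 := finrank_span_pair_le (F := F) e f
  obtain ⟨e', he'⟩ := exists_good (nd_inf_hperp hU heU hf hh) (by unfold hperp; omega)
  refine mem_stab_iff_mapsTo.2 fun w hw => h.le_of_full (h.full.map hx) (he'.map x) ?_
    (Submodule.map_mono (inf_le_left.trans hM)) ⟨w, hw, rfl⟩
  rintro _ ⟨y, hy, rfl⟩
  exact h.apply_mem (hG.mono hM) hx hxe (hM hy.1) (mem_hperp.1 hy.2).1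

theorem MaxFull.le_perp_or_le (hQ : ND Q) {M U Y : Submodule F V} (h : MaxFull K M)
    (hU : ND (Q.restrict U)) (h5 : 5 ≤ finrank F U) (hM : U ≤ M) (hY : Full K Y)
    (hY' : ND (Q.restrict Y)) (h3 : 3 ≤ finrank F Y) : M ≤ perp Q Y ∨ Y ≤ M := by
  refine OMax.le_perp_or_le hY' h3 fun u hu z hz x hx => ?_
  have h1 := finrank_le_inf_perp hQ U (Submodule.span F {u, z})
  have h2 := finrank_span_pair_le (F := F) u z
  obtain ⟨e, he, he0, he1⟩ := exists_singular_mem Q (U ⊓ perp Q (Submodule.span F {u, z}))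
    (by omega)
  have h4 := mem_perp_pair.1 he.2
  exact apply_mem_of_mem_stab (h.mem_stab_of_fix hQ hU h5 hM (hY u hu z hz) he.1 he1 he0
    (eich_apply_of_perp' h4.1 h4.2)) hx

omit [Finite F] [FiniteDimensional F V] in
theorem nd_map {U : Submodule F V} (hU : ND (Q.restrict U)) (g : O Q) :
    ND (Q.restrict (U.map (g.1 : V →ₗ[F] V))) :=
  nd_restrict_iff.2 (by
    rintro _ ⟨x, hx, rfl⟩ h
    rw [nd_restrict_iff.1 hU x hx fun y hy => by simpa using h _ ⟨y, hy, rfl⟩, map_zero])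

omit [Finite F] in
theorem le_span_of_finrank_two {W : Submodule F V} (h2 : finrank F W = 2) {a b : V} (ha : a ∈ W)
    (hb : b ∈ W) (ha0 : a ≠ 0) (hab : b ∉ F ∙ a) : W ≤ Submodule.span F {a, b} := by
  have h1 := finrank_sup_span_singleton' hab
  rw [finrank_span_singleton ha0, ← Submodule.span_insert] at h1
  exact (Submodule.eq_of_le_of_finrank_eq (Submodule.span_le.2 (by
    simp [Set.insert_subset_iff, ha, hb])) (h1.trans h2.symm)).ge

/-- The non-singular vectors of a line or a plane are not covered by two proper subspaces. -/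
theorem small_irred {W S S' : Submodule F V} (hW : ND (Q.restrict W)) (h2 : finrank F W ≤ 2)
    (hex : ¬ (Nat.card F ≤ 3 ∧ finrank F W = 2 ∧ ∃ e ∈ W, e ≠ 0 ∧ Q e = 0))
    (h : ∀ b ∈ W, Q b ≠ 0 → b ∈ S ∨ b ∈ S') : W ≤ S ∨ W ≤ S' := by
  by_cases h0 : W = ⊥
  · simp [h0]
  have : Nontrivial W := Submodule.nontrivial_iff_ne_bot.2 h0
  obtain ⟨⟨a, ha⟩, ha0⟩ := hW.exists_Q_ne
  have ha0 : Q a ≠ 0 := ha0
  have ha1 := ne_zero_of_Q_ne_zero ha0
  by_cases h1 : finrank F W = 2; swap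
  · have : W = F ∙ a := (Submodule.eq_of_le_of_finrank_le
      ((Submodule.span_singleton_le_iff_mem _ _).2 ha)
      (by rw [finrank_span_singleton ha1]; omega)).symm
    rw [this]
    simpa [Submodule.span_singleton_le_iff_mem] using h a ha ha0
  have key : ∀ {x y : V}, W ≤ Submodule.span F {x, y} → ∀ T : Submodule F V, x ∈ T → y ∈ T →
      W ≤ T := fun hxy T hx hy => hxy.trans (Submodule.span_le.2 (by
        simp [Set.insert_subset_iff, hx, hy]))
  by_cases hs : ∃ e ∈ W, e ≠ 0 ∧ Q e = 0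
  · obtain ⟨e, he, he0, he1⟩ := id hs
    obtain ⟨⟨f, hf⟩, hh⟩ := exists_isHyp hW (e := ⟨e, he⟩) he1 (by simpa)
    have hh : IsHyp Q e f := ⟨he1, hh.right, hh.polar_eq⟩
    have k := key (le_span_of_finrank_two h1 he hf he0 fun hm => by
      obtain ⟨c, rfl⟩ := Submodule.mem_span_singleton.1 hm
      simpa [hh.polar_left] using hh.polar_eq)
    have k2 : ∀ T : Submodule F V, ∀ c d : F, c ≠ d → e + c • f ∈ T → e + d • f ∈ T → W ≤ T :=
      fun T c d hcd h1 h2 => by
        have h3 : f ∈ T := (T.smul_mem_iff (sub_ne_zero.2 hcd)).1 (by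
          convert sub_mem h1 h2 using 1; (module))
        exact k T ((T.add_mem_iff_left (T.smul_mem _ h3)).1 h1) h3
    have k3 : ∀ c : F, c ≠ 0 → e + c • f ∈ S ∨ e + c • f ∈ S' := fun c hc =>
      h _ (add_mem he (W.smul_mem _ hf)) (by simpa [hc] using (hh.Q_comb 1 c).trans_ne (by simpa))
    classical
    have := Fintype.ofFinite F
    obtain ⟨a, ha, b, hb, c, hc, hab, hac, hbc⟩ := Finset.two_lt_card.1
      (show 2 < (Finset.univ.erase (0 : F)).card by
        rw [Finset.card_erase_of_mem (Finset.mem_univ _), Finset.card_univ,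
          ← Nat.card_eq_fintype_card]
        by_contra hc
        exact hex ⟨by omega, h1, hs⟩)
    simp only [Finset.mem_erase] at ha hb hc
    rcases k3 a ha.1 with h1 | h1 <;> rcases k3 b hb.1 with h2 | h2 <;>
      rcases k3 c hc.1 with h3 | h3
    all_goals first
      | exact Or.inl (k2 _ _ _ hab h1 h2) | exact Or.inl (k2 _ _ _ hac h1 h3)
      | exact Or.inl (k2 _ _ _ hbc h2 h3) | exact Or.inr (k2 _ _ _ hab h1 h2)
      | exact Or.inr (k2 _ _ _ hac h1 h3) | exact Or.inr (k2 _ _ _ hbc h2 h3)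
  push Not at hs
  obtain ⟨b, hb, hab⟩ := exists_notMem_of_lt (W := W) (Z := F ∙ a)
    (by rw [finrank_span_singleton ha1]; omega)
  have k := key (le_span_of_finrank_two h1 ha hb ha1 hab)
  have hb0 : b ≠ 0 := by rintro rfl; simp at hab
  have hab0 : a + b ≠ 0 := fun h0 => hab (by
    rw [eq_neg_of_add_eq_zero_right h0]; exact neg_mem (Submodule.mem_span_singleton_self a))
  rcases h a ha ha0 with h1 | h1 <;> rcases h b hb (hs b hb hb0) with h2 | h2 <;>
    rcases h _ (add_mem ha hb) (hs _ (add_mem ha hb) hab0) with h3 | h3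
  all_goals first
    | exact Or.inl (k _ h1 h2) | exact Or.inr (k _ h1 h2)
    | exact Or.inl (k _ h1 ((Submodule.add_mem_iff_right _ h1).1 h3))
    | exact Or.inr (k _ h1 ((Submodule.add_mem_iff_right _ h1).1 h3))
    | exact Or.inl (k _ ((Submodule.add_mem_iff_left _ h2).1 h3) h2)
    | exact Or.inr (k _ ((Submodule.add_mem_iff_left _ h2).1 h3) h2)

theorem exists_Q_eq_mem {U : Submodule F V} (hU : ND (Q.restrict U)) (h2 : 2 ≤ finrank F U)
    (c : F) : ∃ b ∈ U, Q b = c := by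
  obtain ⟨b, hb⟩ := exists_Q_eq hU h2 c
  exact ⟨b, b.2, hb⟩

/-- Overgroups of the stabiliser of a large non-degenerate subspace. -/
theorem nd_dichotomy (hQ : ND Q) {U : Submodule F V} (hU : ND (Q.restrict U))
    (h5 : 5 ≤ finrank F U)
    (hex : ¬ (Nat.card F ≤ 3 ∧ finrank F (perp Q U) = 2 ∧ ∃ e ∈ perp Q U, e ≠ 0 ∧ Q e = 0))
    (hH : stab Q U ⊓ commutator (O Q) ≤ K) :
    (∀ g ∈ K, g ∈ stab Q U ∨ U ≤ perp Q (U.map (g.1 : V →ₗ[F] V))) ∨ commutator (O Q) ≤ K := by
  have hn := h5.trans (Submodule.finrank_le U)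
  have hE := not_exc_of_five_le (Q := Q) hn
  have A : Full K U := fun u hu z hz =>
    hH ⟨eich_mem_stab_of_mem hu hz, eich_mem_commutator hQ hE _ _⟩
  obtain ⟨e, he⟩ := exists_good hU (by omega)
  obtain ⟨M, hM, hmax⟩ := A.exists_maxFull he
  by_cases hMU : M ≤ U
  · refine Or.inl fun g hg => ?_
    rcases hmax.le_perp_or_le hQ hU h5 hM (A.map hg) (nd_map hU g)
      (by rw [LinearEquiv.finrank_map_eq]; omega) with h | h
    · exact Or.inr (hM.trans h)
    · exact Or.inl (mem_stab_iff_mapsTo.2 fun w hw => hMU (h ⟨w, hw, rfl⟩))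
  have hW := nd_restrict_perp hQ hU
  have B : perp Q U ≤ M := by
    by_cases h3 : 3 ≤ finrank F (perp Q U)
    · refine (le_perp_or_le hW h3 fun u hu z hz x hx => apply_mem_of_mem_stab (hmax.mem_stab he hM
        (hH ⟨eich_mem_stab_of_perp hu hz, eich_mem_commutator hQ hE _ _⟩)
        (eich_mem_stab_of_perp hu hz)) hx).resolve_left ?_
      rwa [perp_perp hQ]
    refine (small_irred (S' := perp Q M) hW (by omega) hex fun b hb hb0 => ?_).resolve_right ?_
    · obtain ⟨b', hb', h1⟩ := exists_Q_eq_mem hU (by omega) (Q b)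
      have h2 := mul_mem (refl_mem_stab_of_perp hb) (refl_mem_stab_of_mem (Q := Q) hb')
      have h3 := hmax.mem_stab he hM (hH ⟨h2, refl_mul_refl_mem_commutator hQ hb0 h1.symm⟩) h2
      exact mem_or_mem_perp hb0 ((mul_mem_cancel_right (refl_mem_stab_of_mem (hM hb'))).1 h3)
    · rwa [le_perp_comm, perp_perp hQ]
  refine Or.inr ((hmax.full.mono ?_).commutator_le hQ (by omega))
  rw [← (isCompl_perp hU).sup_eq_top]
  exact sup_le hM B

theorem max_nd (hQ : ND Q) (h9 : 9 ≤ finrank F V) {W : Submodule F V} (hW : ND (Q.restrict W))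
    (hex : ¬ (Nat.card F ≤ 3 ∧ finrank F W = 2 ∧ ∃ e ∈ W, e ≠ 0 ∧ Q e = 0))
    (hex' : ¬ (Nat.card F ≤ 3 ∧ finrank F (perp Q W) = 2 ∧ ∃ e ∈ perp Q W, e ≠ 0 ∧ Q e = 0))
    (hni : ∀ g : O Q, W.map (g.1 : V →ₗ[F] V) ≠ perp Q W)
    (hH : stab Q W ⊓ commutator (O Q) ≤ K) : K ≤ stab Q W ∨ commutator (O Q) ≤ K := by
  have h1 := finrank_add_finrank_perp hQ W
  by_cases h2 : finrank F (perp Q W) ≤ finrank F W
  · refine (nd_dichotomy hQ hW (by omega) hex' hH).imp_left fun h g hg =>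
      (h g hg).resolve_right fun h3 => hni g ?_
    exact Submodule.eq_of_le_of_finrank_le (le_perp_comm.1 h3)
      (by rwa [LinearEquiv.finrank_map_eq])
  · rw [← stab_perp hQ] at hH ⊢
    refine (nd_dichotomy hQ (nd_restrict_perp hQ hW) (by omega) (by rwa [perp_perp hQ])
      hH).imp_left fun h g hg => (h g hg).resolve_right fun h3 => ?_
    have h4 := Submodule.finrank_mono (le_perp_comm.1 h3)
    rw [LinearEquiv.finrank_map_eq, perp_perp hQ] at h4
    omega

end Cfsg.Lib.OMax
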