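import Cfsg.Agent.Lib.OMax.Sub

/-!
# Subspace stabilisers in `Ω`: matrix versions
-/

set_option autoImplicit false

namespace Cfsg.Lib.OMax

open QuadraticMap Module Cfsg.Lib.Orth

section General

variable {F V : Type*} [Field F] [AddCommGroup V] [Module F V] {Q : QuadraticForm F V}

/-- The isometries permuting a family of subspaces. -/
def dstab (Q : QuadraticForm F V) {κ : Type*} (D : κ → Submodule F V) : Subgroup (O Q) :=
  (Unitary.decStab D).subgroupOf (O Q)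

theorem mem_dstab {κ : Type*} {D : κ → Submodule F V} {g : O Q} :
    g ∈ dstab Q D ↔ ∃ π : Equiv.Perm κ, ∀ i, (D i).map (g.1 : V →ₗ[F] V) = D (π i) := Iff.rfl

theorem mem_dstab_of_forall {κ : Type*} {D : κ → Submodule F V} {g : O Q}
    (h : ∀ i, g ∈ stab Q (D i)) : g ∈ dstab Q D := ⟨1, h⟩

theorem equivalent_of_map {W W' : Submodule F V} {g : O Q} (h : W.map (g.1 : V →ₗ[F] V) = W') :
    (Q.restrict W).Equivalent (Q.restrict W') :=
  equivalent_of (LinearEquiv.ofSubmodules g.1 W W' h) fun w => O.map_Q g w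

end General

variable {F : Type*} [Field F] {ι : Type} [Fintype ι] [DecidableEq ι]
  {Q : QuadraticForm F (ι → F)}

theorem mem_decompositionStabilizer_iff {t : ℕ} {D : Fin t → Submodule F (ι → F)}
    (g : isometryGroup F ⇑Q) :
    (g : GL ι F) ∈ Geo.decompositionStabilizer D ↔ isoEquiv Q g ∈ dstab Q D := Iff.rfl

omit [DecidableEq ι] in
theorem isPlusTypeOn_of_singular {W : Submodule F (ι → F)} (h2 : finrank F W = 2) {e : ι → F}
    (he : e ∈ W) (h0 : e ≠ 0) (h1 : Q e = 0) : Geo.IsPlusTypeOn ⇑Q W :=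
  ⟨F ∙ e, (Submodule.span_singleton_le_iff_mem _ _).2 he, ts_span_singleton h1, by
    rw [finrank_span_singleton h0, h2]⟩

omit [DecidableEq ι] in
theorem isPlusTypeOn_top_of_osign (h : osign Q = 1) : Geo.IsPlusTypeOn ⇑Q ⊤ := by
  obtain ⟨W, h1, h2⟩ := exists_ts_finrank_eq_wittIndex Q
  exact ⟨W, le_top, h1, by rw [h2, finrank_top, osign_eq_one_iff.1 h]⟩

omit [Fintype ι] [DecidableEq ι] in
theorem isNondegenerateOn_of {W : Submodule F (ι → F)} (hW : ND (Q.restrict W)) :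
    Geo.IsNondegenerateOn (polar ⇑Q) W := fun w hw h0 => by
  obtain ⟨x, hx⟩ := hW.exists_polar_ne (x := ⟨w, hw⟩) (by simpa)
  exact ⟨⟨x, x.2, by rwa [polar_comm]⟩, x, x.2, hx⟩

variable [Finite F]

theorem isMaximalIn_singular (hQ : ND Q) (h5 : 5 ≤ Fintype.card ι) {W : Submodule F (ι → F)}
    (h0 : W ≠ ⊥) (hW : Geo.IsTotallySingularQuad ⇑Q W)
    (hd : 2 * (finrank F W + 1) ≠ Fintype.card ι ∨ ¬ Geo.IsPlusTypeOn ⇑Q ⊤) :
    Geo.IsMaximalIn (Geo.omegaGL ⇑Q) (Geo.subspaceStabilizer W ⊓ Geo.omegaGL ⇑Q) := by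
  refine isMaximalIn_of mem_subspaceStabilizer_iff (not_commutator_le_stab hQ (by simpa) h0 ?_)
    fun K hH _ => max_singular hQ (by simpa) hW h0 (fun u h1 h2 h3 h4 => ?_) hH
  · rintro rfl
    have := TS.two_mul_finrank_le hQ hW
    simp at this; omega
  · rcases hd with hd | hd
    · exact hd (by simpa using h4)
    · exact hd ⟨_, le_top, TS.sup_span hW h1 h2, by
        rw [finrank_sup_span_singleton' h3, h4, finrank_top]⟩

theorem isMaximalIn_point (hQ : ND Q) (h6 : 6 ≤ Fintype.card ι) (h2 : (2 : F) = 0) {v : ι → F}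
    (hv : Q v ≠ 0) :
    Geo.IsMaximalIn (Geo.omegaGL ⇑Q) (Geo.subspaceStabilizer (F ∙ v) ⊓ Geo.omegaGL ⇑Q) := by
  refine isMaximalIn_of mem_subspaceStabilizer_iff (not_commutator_le_stab hQ (by simp; omega)
    (by simpa using ne_zero_of_Q_ne_zero hv) fun h => ?_)
    fun K hH _ => max_point hQ (by simpa) h2 hv hH
  have := Unitary.finrank_span_singleton_le (F := F) v
  rw [h] at this; simp at this; omega

theorem isMaximalIn_nd (hQ : ND Q) (h9 : 9 ≤ Fintype.card ι) {W : Submodule F (ι → F)}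
    (h0 : W ≠ ⊥) (h1 : W ≠ ⊤) (hW : Geo.IsNondegenerateOn (polar ⇑Q) W)
    (hex : ¬ (Nat.card F ≤ 3 ∧ finrank F W = 2 ∧ Geo.IsPlusTypeOn ⇑Q W))
    (hex' : ¬ (Nat.card F ≤ 3 ∧ finrank F (perp Q W) = 2 ∧ Geo.IsPlusTypeOn ⇑Q (perp Q W)))
    (hni : 2 * finrank F W = Fintype.card ι →
      ¬ (Q.restrict W).Equivalent (Q.restrict (perp Q W))) :
    Geo.IsMaximalIn (Geo.omegaGL ⇑Q) (Geo.subspaceStabilizer W ⊓ Geo.omegaGL ⇑Q) := by
  refine isMaximalIn_of mem_subspaceStabilizer_iff (not_commutator_le_stab hQ (by simp; omega)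
    h0 h1) fun K hH _ => max_nd hQ (by simpa) (nd_restrict_of hW) ?_ ?_ (fun g hg => ?_) hH
  · rintro ⟨h2, h3, e, h4, h5, h6⟩
    exact hex ⟨h2, h3, isPlusTypeOn_of_singular h3 h4 h5 h6⟩
  · rintro ⟨h2, h3, e, h4, h5, h6⟩
    exact hex' ⟨h2, h3, isPlusTypeOn_of_singular h3 h4 h5 h6⟩
  · have h2 := finrank_add_finrank_perp hQ W
    rw [← hg, LinearEquiv.finrank_map_eq] at h2
    exact hni (by simpa [two_mul] using h2) (equivalent_of_map hg)

/-- The form used in the even-dimensional statements. -/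
theorem isMaximalIn_nd' (hQ : ND Q) (h9 : 9 ≤ Fintype.card ι) {W : Submodule F (ι → F)}
    (h0 : W ≠ ⊥) (h1 : W ≠ ⊤) (hW : Geo.IsNondegenerateOn (polar ⇑Q) W)
    (hex : ¬ (Nat.card F ≤ 3 ∧ ∃ U : Submodule F (ι → F), finrank F U = 2 ∧
      Geo.IsNondegenerateOn (polar ⇑Q) U ∧ Geo.IsPlusTypeOn ⇑Q U ∧ (U = W ∨
        (Geo.AreOrthogonalFor (polar ⇑Q) U W ∧ finrank F U + finrank F W = Fintype.card ι))))
    (hni : 2 * finrank F W = Fintype.card ι → Even (finrank F W) ∧ ¬ Geo.IsPlusTypeOn ⇑Q ⊤) :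
    Geo.IsMaximalIn (Geo.omegaGL ⇑Q) (Geo.subspaceStabilizer W ⊓ Geo.omegaGL ⇑Q) := by
  have h2 := finrank_add_finrank_perp hQ W
  rw [finrank_fintype_fun_eq_card] at h2
  have hW' := nd_restrict_of hW
  refine isMaximalIn_nd hQ h9 h0 h1 hW (fun h => hex ⟨h.1, W, h.2.1, hW, h.2.2, Or.inl rfl⟩)
    (fun h => hex ⟨h.1, perp Q W, h.2.1, isNondegenerateOn_of (nd_restrict_perp hQ hW'),
      h.2.2, Or.inr ⟨fun u hu v hv => mem_perp'.1 hu v hv, by rw [add_comm, h2]⟩⟩) fun h3 h4 => ?_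
  obtain ⟨h5, h6⟩ := hni h3
  have h7 : finrank F (perp Q W) = finrank F W := by omega
  refine h6 (isPlusTypeOn_top_of_osign ?_)
  rw [(isOSum_perp hW').osign_eq hQ h5 (h7.symm ▸ h5), osign_congr h4, Int.units_mul_self]

omit [Finite F] [DecidableEq ι] in
theorem isOSum_of_two {k : ℕ} {D : Fin 2 → Submodule F (ι → F)}
    (hD : Geo.IsNondegenerateMDecomposition (polar ⇑Q) k D) : IsOSum Q (D 0) (D 1) :=
  ⟨⟨hD.decomp.indep.pairwiseDisjoint (by decide), codisjoint_iff_le_sup.mpr (by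
    rw [← hD.decomp.iSup_eq_top]
    exact iSup_le (Fin.forall_fin_two.mpr ⟨le_sup_left, le_sup_right⟩))⟩,
    hD.orthogonal 0 1 (by decide)⟩

theorem isMaximalIn_halves (hQ : ND Q) (h9 : 9 ≤ Fintype.card ι) {k : ℕ}
    {D : Fin 2 → Submodule F (ι → F)} (hD : Geo.IsNondegenerateMDecomposition (polar ⇑Q) k D)
    (hni : ¬ Geo.AreIsometricFor ⇑Q (D 0) (D 1)) :
    Geo.IsMaximalIn (Geo.omegaGL ⇑Q) (Geo.decompositionStabilizer D ⊓ Geo.omegaGL ⇑Q) := by
  have h := isOSum_of_two hD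
  have h1 := h.finrank_add
  have h2 := hD.decomp.finrank_eq
  rw [h2, h2, finrank_fintype_fun_eq_card] at h1
  have key : ∀ g : O Q, (D 0).map (g.1 : (ι → F) →ₗ[F] (ι → F)) ≠ D 1 := fun g hg =>
    hni (equivalent_iff.1 (equivalent_of_map hg))
  refine isMaximalIn_of (H' := stab Q (D 0)) (fun g => ?_) (not_commutator_le_stab hQ
    (by simp; omega) (fun h0 => ?_) fun h0 => ?_) fun K hH _ => max_nd hQ (by simpa)
      (h.nd_left hQ) (by rw [h2]; omega) (by rw [h.perp_left hQ, h2]; omega)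
      (by rwa [h.perp_left hQ]) hH
  · rw [mem_decompositionStabilizer_iff]
    refine ⟨fun ⟨π, hπ⟩ => ?_, fun hg => mem_dstab_of_forall
      (Fin.forall_fin_two.2 ⟨hg, h.stab_eq hQ ▸ hg⟩)⟩
    have := hπ 0
    generalize π 0 = i at this
    fin_cases i
    · exact this
    · exact absurd this (key _)
  · have := h2 0
    rw [h0, finrank_bot] at this; omega
  · have := h2 0
    rw [h0, finrank_top, finrank_fintype_fun_eq_card] at this; omega

end Cfsg.Lib.OMax
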